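/-
Helper8 library: henselization of a pair — algebras with a `K`-valued point (`K` any ring) and
their localizations at the elements invertible at the point.
-/
import Mathlib
import Groth.Agent.Lib.Helper8.HensPair.HomLift

open TensorProduct Polynomial

namespace Groth.Agent.H8.PairHens

universe u

section Loc

variable {R K : Type*} [CommRing R] [CommRing K] [Algebra R K]
variable {E : Type*} [CommRing E] [Algebra R E] (σ : E →ₐ[R] K)

/-- The elements invertible at a `K`-valued point. -/
def ptMonoid : Submonoid E := (IsUnit.submonoid K).comap σ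

theorem mem_ptMonoid {x : E} : x ∈ ptMonoid σ ↔ IsUnit (σ x) := Iff.rfl

/-- The localization at the elements invertible at the point. -/
abbrev Loc : Type _ := Localization (ptMonoid σ)

/-- The induced `K`-point of the localization. -/
noncomputable def Loc.pt : Loc σ →ₐ[R] K :=
  IsLocalization.liftAlgHom (M := ptMonoid σ) (f := σ) (fun y => y.2)

@[simp]
theorem Loc.pt_algebraMap (x : E) : Loc.pt σ (algebraMap E (Loc σ) x) = σ x := by
  simp [Loc.pt]

theorem Loc.isUnit_iff (x : Loc σ) : IsUnit x ↔ IsUnit (Loc.pt σ x) := by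
  refine ⟨fun h => h.map _, fun h => ?_⟩
  obtain ⟨a, s, rfl⟩ := IsLocalization.exists_mk'_eq (ptMonoid σ) x
  have h1 : Loc.pt σ (IsLocalization.mk' (Loc σ) a s) * σ s = σ a := by
    rw [← Loc.pt_algebraMap σ a, ← Loc.pt_algebraMap σ (s : E), ← map_mul,
      IsLocalization.mk'_spec]
  have ha : a ∈ ptMonoid σ := by
    rw [mem_ptMonoid, ← h1]
    exact h.mul s.2
  have h2 : IsLocalization.mk' (Loc σ) a s * algebraMap E (Loc σ) s = algebraMap E (Loc σ) a :=
    IsLocalization.mk'_spec _ _ _
  have hu : IsUnit (algebraMap E (Loc σ) a) := IsLocalization.map_units _ (⟨a, ha⟩ : ptMonoid σ)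
  rw [← h2] at hu
  exact isUnit_of_mul_isUnit_left hu

theorem Loc.ker_pt_le_jacobson : RingHom.ker (Loc.pt σ) ≤ Ideal.jacobson ⊥ := by
  intro x hx
  rw [Ideal.mem_jacobson_bot]
  intro y
  rw [Loc.isUnit_iff, map_add, map_mul, RingHom.mem_ker.mp hx, zero_mul, zero_add, map_one]
  exact isUnit_one

/-- Uniqueness of pointed maps out of the localization of an unramified algebra. -/
theorem Loc.algHom_ext [Algebra.EssFiniteType R E] [Algebra.FormallyUnramified R E]
    {B : Type*} [CommRing B] [Algebra R B] (τ : B →ₐ[R] K)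
    (hτ : RingHom.ker τ ≤ Ideal.jacobson ⊥)
    (u v : Loc σ →ₐ[R] B) (h : τ.comp u = τ.comp v) : u = v := by
  apply IsLocalization.algHom_ext (ptMonoid σ)
  apply HensPair.algHom_ext_of_unramified _ hτ
  intro x
  rw [RingHom.mem_ker, map_sub, sub_eq_zero]
  exact congrArg (fun w => w (algebraMap E (Loc σ) x)) h

variable {E' : Type*} [CommRing E'] [Algebra R E'] (σ' : E' →ₐ[R] K)

/-- Functoriality of the localization at a point. -/
noncomputable def Loc.map (g : E →ₐ[R] E') (h : σ'.comp g = σ) : Loc σ →ₐ[R] Loc σ' :=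
  IsLocalization.liftAlgHom (M := ptMonoid σ)
    (f := (IsScalarTower.toAlgHom R E' (Loc σ')).comp g)
    (fun y => by
      rw [Loc.isUnit_iff]
      simp only [AlgHom.coe_comp, Function.comp_apply, IsScalarTower.coe_toAlgHom',
        Loc.pt_algebraMap]
      have : σ' (g y) = σ y := congrArg (fun w => w (y : E)) h
      rw [this]
      exact y.2)

@[simp]
theorem Loc.map_algebraMap (g : E →ₐ[R] E') (h : σ'.comp g = σ) (x : E) :
    Loc.map σ σ' g h (algebraMap E (Loc σ) x) = algebraMap E' (Loc σ') (g x) := by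
  simp [Loc.map]

theorem Loc.pt_comp_map (g : E →ₐ[R] E') (h : σ'.comp g = σ) :
    (Loc.pt σ').comp (Loc.map σ σ' g h) = Loc.pt σ := by
  apply IsLocalization.algHom_ext (ptMonoid σ)
  ext x
  simp only [AlgHom.coe_comp, Function.comp_apply, Algebra.algHom, IsScalarTower.coe_toAlgHom',
    Loc.map_algebraMap, Loc.pt_algebraMap]
  exact congrArg (fun w => w x) h

theorem Loc.pt_map (g : E →ₐ[R] E') (h : σ'.comp g = σ) (x : Loc σ) :
    Loc.pt σ' (Loc.map σ σ' g h x) = Loc.pt σ x :=
  congrArg (fun w => w x) (Loc.pt_comp_map σ σ' g h)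

/-- The canonical map from a principal localization to the localization at the point. -/
noncomputable def awayToLoc (t : E) (ht : IsUnit (σ t)) : Localization.Away t →ₐ[R] Loc σ :=
  IsLocalization.liftAlgHom (M := .powers t) (f := IsScalarTower.toAlgHom R E (Loc σ)) (by
    rintro ⟨y, n, rfl⟩
    rw [map_pow]
    refine IsUnit.pow n ?_
    rw [Loc.isUnit_iff]
    simpa using ht)

@[simp]
theorem awayToLoc_algebraMap (t : E) (ht : IsUnit (σ t)) (x : E) :
    awayToLoc σ t ht (algebraMap E _ x) = algebraMap E (Loc σ) x := by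
  simp [awayToLoc]

/-- The induced point of a principal localization. -/
noncomputable def awayPt (t : E) (ht : IsUnit (σ t)) : Localization.Away t →ₐ[R] K :=
  IsLocalization.liftAlgHom (M := .powers t) (f := σ) (by
    rintro ⟨y, n, rfl⟩
    rw [map_pow]
    exact ht.pow n)

@[simp]
theorem awayPt_algebraMap (t : E) (ht : IsUnit (σ t)) (x : E) :
    awayPt σ t ht (algebraMap E _ x) = σ x := by
  simp [awayPt]

theorem pt_comp_awayToLoc (t : E) (ht : IsUnit (σ t)) :
    (Loc.pt σ).comp (awayToLoc σ t ht) = awayPt σ t ht := by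
  apply IsLocalization.algHom_ext (.powers t)
  ext x
  simp [Algebra.algHom]

theorem pt_awayToLoc (t : E) (ht : IsUnit (σ t)) (x : Localization.Away t) :
    Loc.pt σ (awayToLoc σ t ht x) = awayPt σ t ht x :=
  congrArg (fun w => w x) (pt_comp_awayToLoc σ t ht)

theorem exists_away_descent (S : Finset (Loc σ)) :
    ∃ (t : E) (ht : IsUnit (σ t)), ∀ a ∈ S, ∃ b : Localization.Away t, awayToLoc σ t ht b = a := by
  obtain ⟨b, hb⟩ := IsLocalization.exist_integer_multiples_of_finset (ptMonoid σ) S
  have ht : IsUnit (σ (b : E)) := b.2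
  refine ⟨b, ht, fun a ha => ?_⟩
  obtain ⟨x, hx⟩ := hb a ha
  let tb : Submonoid.powers (b : E) := ⟨(b : E), ⟨1, pow_one _⟩⟩
  refine ⟨IsLocalization.mk' (Localization.Away (b : E)) x tb, ?_⟩
  have hu : IsUnit (algebraMap E (Loc σ) (b : E)) := IsLocalization.map_units _ b
  apply hu.mul_left_injective
  show awayToLoc σ b ht (IsLocalization.mk' _ x tb) * algebraMap E (Loc σ) (b : E) = _
  rw [← awayToLoc_algebraMap σ b ht (b : E), ← map_mul]
  have : IsLocalization.mk' (Localization.Away (b : E)) x tb *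
      algebraMap E _ (b : E) = algebraMap E _ x := IsLocalization.mk'_spec _ _ _
  rw [this, awayToLoc_algebraMap, hx, Algebra.smul_def, mul_comm, awayToLoc_algebraMap]

theorem exists_monic_descent (f : (Loc σ)[X]) (hf : f.Monic) (a₀ : Loc σ) :
    ∃ (t : E) (ht : IsUnit (σ t)) (f_t : (Localization.Away t)[X]) (a_t : Localization.Away t),
      f_t.Monic ∧ f_t.map (awayToLoc σ t ht).toRingHom = f ∧ awayToLoc σ t ht a_t = a₀ := by
  classical
  obtain ⟨t, ht, h⟩ := exists_away_descent σ (insert a₀ (f.support.image f.coeff))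
  have hlifts : f ∈ Polynomial.lifts (awayToLoc σ t ht).toRingHom := by
    rw [Polynomial.lifts_iff_coeff_lifts]
    intro n
    by_cases hn : n ∈ f.support
    · obtain ⟨b, hb⟩ := h (f.coeff n)
        (Finset.mem_insert_of_mem (Finset.mem_image_of_mem _ hn))
      exact ⟨b, hb⟩
    · rw [Polynomial.notMem_support_iff.mp hn]
      exact ⟨0, map_zero _⟩
  obtain ⟨f_t, hft, -, hmon⟩ := Polynomial.lifts_and_natDegree_eq_and_monic hlifts hf
  obtain ⟨a_t, hat⟩ := h a₀ (Finset.mem_insert_self _ _)
  exact ⟨t, ht, f_t, a_t, hmon, hft, hat⟩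

end Loc

end Groth.Agent.H8.PairHens
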