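/-
Helper8 library: henselization of a pair — lifting points to henselian pairs, adjoining roots.
-/
import Mathlib
import Groth.Agent.Lib.Helper8.PairHens.Pointed
import Groth.Agent.Lib.Helper8.HensPair.Basic

open TensorProduct Polynomial

namespace Groth.Agent.H8.PairHens

universe u

section Lift

variable {R K : Type*} [CommRing R] [CommRing K] [Algebra R K]
variable {E : Type*} [CommRing E] [Algebra R E]

theorem isUnit_of_isUnit_mk {T : Type*} [CommRing T] {J : Ideal T} (hJ : J ≤ Ideal.jacobson ⊥)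
    {u : T} (hu : IsUnit (Ideal.Quotient.mk J u)) : IsUnit u := by
  obtain ⟨c, hc⟩ := HensPair.isUnit_mk_iff_exists.mp hu
  have h1 : IsUnit (u * c) := by
    have := Ideal.mem_jacobson_bot.mp (hJ hc) 1
    rwa [mul_one, sub_add_cancel] at this
  exact isUnit_of_mul_isUnit_left h1

/-- A `K`-point of an étale `R`-algebra lifts to any `R`-algebra `T` henselian along `J`
equipped with `τ : K → T/J`. -/
theorem exists_algHom_of_henselianRing [Algebra.Etale R E] (σ : E →ₐ[R] K)
    {T : Type*} [CommRing T] [Algebra R T] (J : Ideal T) [HenselianRing T J]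
    (τ : K →ₐ[R] T ⧸ J) :
    ∃ g : E →ₐ[R] T, ∀ x, Ideal.Quotient.mk J (g x) = τ (σ x) := by
  let σ' : T ⊗[R] E →ₐ[T] T ⧸ J :=
    Algebra.TensorProduct.lift (Algebra.ofId T (T ⧸ J)) (τ.comp σ) (fun _ _ => Commute.all _ _)
  obtain ⟨ρ, hρ⟩ := HensPair.exists_lift_of_henselianRing (I := J) (T ⊗[R] E) σ'
  refine ⟨(ρ.restrictScalars R).comp Algebra.TensorProduct.includeRight, fun x => ?_⟩
  have := DFunLike.congr_fun hρ (1 ⊗ₜ x)
  have h1 : σ' (1 ⊗ₜ x) = τ (σ x) := by
    show Algebra.TensorProduct.lift _ _ _ _ = _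
    rw [Algebra.TensorProduct.lift_tmul, map_one, one_mul]
    rfl
  rw [h1] at this
  exact this

/-- Version for the localization at the point. -/
theorem Loc.exists_algHom_of_henselianRing [Algebra.Etale R E] (σ : E →ₐ[R] K)
    {T : Type*} [CommRing T] [Algebra R T] (J : Ideal T) [hT : HenselianRing T J]
    (τ : K →ₐ[R] T ⧸ J) :
    ∃ g : Loc σ →ₐ[R] T, ∀ x, Ideal.Quotient.mk J (g x) = τ (Loc.pt σ x) := by
  obtain ⟨g, hg⟩ := PairHens.exists_algHom_of_henselianRing σ J τ
  have hunit : ∀ y : ptMonoid σ, IsUnit (g y) := by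
    intro y
    apply isUnit_of_isUnit_mk hT.jac
    rw [hg]
    exact (y.2 : IsUnit (σ y)).map τ
  let g' : Loc σ →ₐ[R] T := IsLocalization.liftAlgHom (M := ptMonoid σ) (f := g) hunit
  refine ⟨g', fun x => ?_⟩
  have key : (Ideal.Quotient.mkₐ R J).comp g' = τ.comp (Loc.pt σ) := by
    apply IsLocalization.algHom_ext (ptMonoid σ)
    ext y
    simp [Algebra.algHom, g', hg]
  exact congrArg (fun w => w x) key

end Lift

section Root

variable {R K : Type*} [CommRing R] [CommRing K] [Algebra R K]

/-- Adjoining a simple root at a `K`-point: the standard étale extension. -/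
theorem exists_root_of_point {E : Type u} [CommRing E] [Algebra R E]
    [Algebra.Etale R E] (σ : E →ₐ[R] K) (f : E[X]) (hf : f.Monic)
    (a₀ : E) (h1 : σ (f.eval a₀) = 0) (h2 : IsUnit (σ (f.derivative.eval a₀))) :
    ∃ (E' : Type u) (_ : CommRing E') (_ : Algebra R E') (_ : Algebra.Etale R E')
      (σ' : E' →ₐ[R] K) (g : E →ₐ[R] E') (_ : σ'.comp g = σ) (a : E'),
      (f.map g.toRingHom).IsRoot a ∧ σ' a = σ a₀ := by
  let P : StandardEtalePair E := ⟨f, hf, derivative f, ⟨1, 0, 1, by simp⟩⟩
  let _ : Algebra R P.Ring := ((algebraMap E P.Ring).comp (algebraMap R E)).toAlgebra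
  have : IsScalarTower R E P.Ring := IsScalarTower.of_algebraMap_eq' rfl
  have : Algebra.Etale R P.Ring := Algebra.Etale.comp R E P.Ring
  let _ : Algebra E K := σ.toRingHom.toAlgebra
  have : IsScalarTower R E K := IsScalarTower.of_algebraMap_eq' σ.comp_algebraMap.symm
  have hσ : ∀ x : E, algebraMap E K x = σ x := fun _ => rfl
  have haev : ∀ p : E[X], aeval (σ a₀) p = σ (p.eval a₀) := by
    intro p
    rw [← hσ a₀, aeval_algebraMap_apply, coe_aeval_eq_eval, hσ]
  have hmap : P.HasMap (σ a₀) := by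
    refine ⟨?_, ?_⟩
    · show aeval (σ a₀) f = 0
      rw [haev, h1]
    · show IsUnit (aeval (σ a₀) (derivative f))
      rw [haev]
      exact h2
  let σ'E : P.Ring →ₐ[E] K := P.lift (σ a₀) hmap
  let σ' : P.Ring →ₐ[R] K := σ'E.restrictScalars R
  let g : E →ₐ[R] P.Ring := IsScalarTower.toAlgHom R E P.Ring
  have hg : σ'.comp g = σ := by
    ext x
    show σ'E (algebraMap E P.Ring x) = σ x
    rw [σ'E.commutes, hσ]
  refine ⟨P.Ring, inferInstance, inferInstance, inferInstance, σ', g, hg, P.X, ?_, ?_⟩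
  · show eval P.X (f.map (algebraMap E P.Ring)) = 0
    rw [eval_map_algebraMap]
    exact P.hasMap_X.1
  · show σ'E P.X = σ a₀
    exact P.lift_X _ hmap

instance etale_away {E : Type*} [CommRing E] [Algebra R E] [Algebra.Etale R E] (t : E) :
    Algebra.Etale R (Localization.Away t) :=
  Algebra.Etale.comp R E _

/-- The henselian step: a monic polynomial over the localization at a point of an étale algebra
with a simple root in `K` acquires a root in the localization at a point of a bigger étale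
algebra. -/
theorem Loc.exists_root_extension {E : Type u} [CommRing E] [Algebra R E] [Algebra.Etale R E]
    (σ : E →ₐ[R] K) (f : (Loc σ)[X]) (hf : f.Monic) (a₀ : Loc σ)
    (h1 : Loc.pt σ (f.eval a₀) = 0) (h2 : IsUnit (Loc.pt σ (f.derivative.eval a₀))) :
    ∃ (E' : Type u) (_ : CommRing E') (_ : Algebra R E') (_ : Algebra.Etale R E')
      (σ' : E' →ₐ[R] K) (g : E →ₐ[R] E') (hg : σ'.comp g = σ) (a : Loc σ'),
      (f.map (Loc.map σ σ' g hg).toRingHom).IsRoot a ∧ Loc.pt σ' a = Loc.pt σ a₀ := by
  obtain ⟨t, ht, f_t, a_t, hmon, hft, hat⟩ := exists_monic_descent σ f hf a₀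
  have e1 : awayPt σ t ht (f_t.eval a_t) = 0 := by
    rw [← pt_awayToLoc]
    have : awayToLoc σ t ht (f_t.eval a_t) = f.eval a₀ := by
      rw [← hft, ← hat, eval_map]
      exact (Polynomial.eval₂_at_apply (awayToLoc σ t ht).toRingHom a_t).symm ▸ rfl
    rw [this]; exact h1
  have e2 : IsUnit (awayPt σ t ht (f_t.derivative.eval a_t)) := by
    rw [← pt_awayToLoc]
    have : awayToLoc σ t ht (f_t.derivative.eval a_t) = f.derivative.eval a₀ := by
      rw [← hft, ← hat, derivative_map, eval_map]
      exact (Polynomial.eval₂_at_apply (awayToLoc σ t ht).toRingHom a_t).symm ▸ rfl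
    rw [this]; exact h2
  obtain ⟨E', _, _, _, σ', g', hg', a', hroot, hpt⟩ :=
    exists_root_of_point (awayPt σ t ht) f_t hmon a_t e1 e2
  let g : E →ₐ[R] E' := g'.comp (IsScalarTower.toAlgHom R E (Localization.Away t))
  have hg : σ'.comp g = σ := by
    ext x
    have := congrArg (fun w => w (algebraMap E (Localization.Away t) x)) hg'
    simpa [g] using this
  refine ⟨E', inferInstance, inferInstance, inferInstance, σ', g, hg,
    algebraMap E' (Loc σ') a', ?_, ?_⟩
  · have hcomp : (Loc.map σ σ' g hg).toRingHom.comp (awayToLoc σ t ht).toRingHom =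
        (algebraMap E' (Loc σ')).comp g'.toRingHom := by
      apply IsLocalization.ringHom_ext (.powers t)
      ext x
      simp [g]
    rw [← hft, Polynomial.map_map, hcomp, ← Polynomial.map_map, IsRoot, eval_map_algebraMap,
      aeval_algebraMap_apply, coe_aeval_eq_eval, hroot, map_zero]
  · rw [Loc.pt_algebraMap, hpt, ← hat, pt_awayToLoc]

end Root

end Groth.Agent.H8.PairHens
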