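/-
Helper8 library: henselization of a pair — the direct limit `H R K` of the localizations at the
point of all étale `R`-algebras with a `K`-valued point, for an arbitrary `R`-algebra `K`.
For `K = R ⧸ I` this is the henselization of the pair `(R, I)`.
-/
import Mathlib
import Groth.Agent.Lib.Helper8.PairHens.Nbhd

open TensorProduct Polynomial

namespace Groth.Agent.H8.PairHens

universe u

variable (R : Type u) (K : Type u) [CommRing R] [CommRing K] [Algebra R K]

/-- The transition ring homomorphisms. -/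
noncomputable def transR (i j : EtPt R K) (h : i ≤ j) : i.Loc →+* j.Loc :=
  (EtPt.trans h).toRingHom

instance : DirectedSystem (fun i : EtPt R K => i.Loc) (fun i j h => transR R K i j h) where
  map_self i x := by
    show EtPt.trans _ x = x
    rw [EtPt.trans_self]; rfl
  map_map k j i hij hjk x := by
    show EtPt.trans hjk (EtPt.trans hij x) = EtPt.trans _ x
    rw [← EtPt.trans_comp hij hjk]; rfl

/-- The `K`-henselization of `R`: the direct limit of the local rings of all étale `R`-algebras
at a `K`-point. -/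
def H : Type u :=
  Ring.DirectLimit (fun i : EtPt R K => i.Loc) (fun i j h => transR R K i j h)

noncomputable instance : CommRing (H R K) :=
  inferInstanceAs (CommRing (Ring.DirectLimit _ _))

namespace H

variable {R K}

/-- The canonical map from a stage. -/
noncomputable def of (i : EtPt R K) : i.Loc →+* H R K :=
  Ring.DirectLimit.of _ _ i

theorem of_trans {i j : EtPt R K} (h : i ≤ j) (x : i.Loc) : of j (EtPt.trans h x) = of i x :=
  Ring.DirectLimit.of_f (f := fun i j h => transR R K i j h) h x

theorem exists_of (z : H R K) : ∃ (i : EtPt R K) (x : i.Loc), of i x = z :=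
  Ring.DirectLimit.exists_of z

theorem exists_of₂ (z w : H R K) : ∃ (i : EtPt R K) (x y : i.Loc), of i x = z ∧ of i y = w := by
  obtain ⟨i, x, rfl⟩ := exists_of z
  obtain ⟨j, y, rfl⟩ := exists_of w
  obtain ⟨k, hik, hjk⟩ := exists_ge_ge i j
  exact ⟨k, EtPt.trans hik x, EtPt.trans hjk y, of_trans _ _, of_trans _ _⟩

theorem of_eq_zero {i : EtPt R K} {x : i.Loc} (h : of i x = 0) :
    ∃ (j : EtPt R K) (hij : i ≤ j), EtPt.trans hij x = 0 :=
  Ring.DirectLimit.of.zero_exact (f' := fun i j h => transR R K i j h) h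

theorem of_eq_of {i : EtPt R K} {x y : i.Loc} (h : of i x = of i y) :
    ∃ (j : EtPt R K) (hij : i ≤ j), EtPt.trans hij x = EtPt.trans hij y := by
  have h0 : of i (x - y) = 0 := by rw [map_sub, h, sub_self]
  obtain ⟨j, hij, hj⟩ := of_eq_zero h0
  exact ⟨j, hij, by rwa [map_sub, sub_eq_zero] at hj⟩

variable (R K) in
/-- The point of the direct limit. -/
noncomputable def pt : H R K →+* K :=
  Ring.DirectLimit.lift _ _ K (fun i => i.locPt.toRingHom)
    (fun _ _ hij x => EtPt.locPt_trans hij x)

@[simp]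
theorem pt_of (i : EtPt R K) (x : i.Loc) : pt R K (of i x) = i.locPt x :=
  Ring.DirectLimit.lift_of _ _ _ _ _

theorem isUnit_iff (z : H R K) : IsUnit z ↔ IsUnit (pt R K z) := by
  constructor
  · intro h
    exact h.map (pt R K)
  · intro h
    obtain ⟨i, x, rfl⟩ := exists_of z
    rw [pt_of] at h
    exact ((Loc.isUnit_iff i.pt x).mpr h).map (of i)

theorem ker_pt_le_jacobson : RingHom.ker (pt R K) ≤ Ideal.jacobson ⊥ := by
  intro x hx
  rw [Ideal.mem_jacobson_bot]
  intro y
  rw [isUnit_iff, map_add, map_mul, RingHom.mem_ker.mp hx, zero_mul, zero_add, map_one]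
  exact isUnit_one

/-! ### Algebra structure -/

theorem of_algebraMap_eq (i j : EtPt R K) (r : R) :
    of i (algebraMap R i.Loc r) = of j (algebraMap R j.Loc r) := by
  obtain ⟨k, hik, hjk⟩ := exists_ge_ge i j
  rw [← of_trans hik, ← of_trans hjk, AlgHom.commutes, AlgHom.commutes]

noncomputable instance : Algebra R (H R K) :=
  ((of (Classical.arbitrary (EtPt R K))).comp (algebraMap R _)).toAlgebra

theorem algebraMap_eq (i : EtPt R K) (r : R) :
    algebraMap R (H R K) r = of i (algebraMap R i.Loc r) :=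
  of_algebraMap_eq _ i r

/-- The canonical map from a stage, as an algebra map. -/
noncomputable def ofₐ (i : EtPt R K) : i.Loc →ₐ[R] H R K :=
  { of i with commutes' := fun r => (algebraMap_eq i r).symm }

@[simp] theorem ofₐ_apply (i : EtPt R K) (x : i.Loc) : ofₐ i x = of i x := rfl

variable (R K) in
/-- The point, as an algebra map. -/
noncomputable def ptₐ : H R K →ₐ[R] K :=
  { pt R K with
    commutes' := fun r => by
      show pt R K (algebraMap R (H R K) r) = _
      rw [algebraMap_eq (Classical.arbitrary _) r, pt_of, AlgHom.commutes] }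

@[simp] theorem ptₐ_apply (z : H R K) : ptₐ R K z = pt R K z := rfl

/-- Every pointed étale algebra maps to `H`. -/
noncomputable def ofAlg (E : Type u) [CommRing E] [Algebra R E] [Algebra.Etale R E]
    (σ : E →ₐ[R] K) : Loc σ →ₐ[R] H R K :=
  (ofₐ (EtPt.of E σ)).comp (EtPt.toOf E σ)

theorem pt_ofAlg (E : Type u) [CommRing E] [Algebra R E] [Algebra.Etale R E]
    (σ : E →ₐ[R] K) (x : Loc σ) : pt R K (ofAlg E σ x) = Loc.pt σ x := by
  simp only [ofAlg, AlgHom.coe_comp, Function.comp_apply, ofₐ_apply, pt_of]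
  exact EtPt.locPt_toOf E σ x

/-- Compatibility of `ofAlg` with maps of pointed algebras out of a stage. -/
theorem ofAlg_map {i : EtPt R K} (E : Type u) [CommRing E] [Algebra R E] [Algebra.Etale R E]
    (σ : E →ₐ[R] K) (g : i.Ring →ₐ[R] E) (hg : σ.comp g = i.pt) (x : i.Loc) :
    ofAlg E σ (Loc.map i.pt σ g hg x) = of i x := by
  have hle : i ≤ EtPt.of E σ := EtPt.le_of_algHom E σ g hg
  have h1 : (EtPt.toOf E σ).comp (Loc.map i.pt σ g hg) = EtPt.trans hle := by
    apply EtPt.eq_trans
    ext y
    simp only [AlgHom.coe_comp, Function.comp_apply]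
    rw [EtPt.locPt_toOf, Loc.pt_map]
  have h2 : EtPt.toOf E σ (Loc.map i.pt σ g hg x) = EtPt.trans hle x :=
    congrArg (fun w => w x) h1
  simp only [ofAlg, AlgHom.coe_comp, Function.comp_apply, ofₐ_apply]
  rw [h2, of_trans]

/-! ### `H` is henselian along the kernel of the point -/

theorem of_eq_ofAlg_comp {i : EtPt R K} (E : Type u) [CommRing E] [Algebra R E]
    [Algebra.Etale R E] (σ : E →ₐ[R] K) (g : i.Ring →ₐ[R] E) (hg : σ.comp g = i.pt) :
    of i = (ofAlg E σ).toRingHom.comp (Loc.map i.pt σ g hg).toRingHom := by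
  ext x
  exact (ofAlg_map E σ g hg x).symm

instance henselianRing : HenselianRing (H R K) (RingHom.ker (pt R K)) where
  jac := ker_pt_le_jacobson
  is_henselian f hf a₀ h1 h2 := by
    have h2' : IsUnit (pt R K (f.derivative.eval a₀)) := by
      have := h2.map (RingHom.kerLift (pt R K))
      rwa [RingHom.kerLift_mk] at this
    obtain ⟨i, p, hp⟩ := Ring.DirectLimit.Polynomial.exists_of
      (f' := fun i j h => transR R K i j h) f
    have hlift : f ∈ Polynomial.lifts (of i) := (Polynomial.mem_lifts _).mpr ⟨p, hp⟩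
    obtain ⟨q, hq, -, hqmon⟩ := Polynomial.lifts_and_natDegree_eq_and_monic hlift hf
    obtain ⟨j, b, hb⟩ := exists_of a₀
    obtain ⟨k, hik, hjk⟩ := exists_ge_ge i j
    obtain ⟨q', hq'⟩ : ∃ q' : (k.Loc)[X], q' = q.map (EtPt.trans hik).toRingHom := ⟨_, rfl⟩
    obtain ⟨b', hb'⟩ : ∃ b' : k.Loc, b' = EtPt.trans hjk b := ⟨_, rfl⟩
    have hq'mon : q'.Monic := hq' ▸ hqmon.map _
    have hq'f : q'.map (of k) = f := by
      rw [hq', Polynomial.map_map, ← hq]
      congr 1
      ext x
      exact of_trans hik x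
    have hb'a : of k b' = a₀ := by rw [hb', of_trans, hb]
    have e1 : k.locPt (q'.eval b') = 0 := by
      rw [← pt_of]
      have : of k (q'.eval b') = f.eval a₀ := by
        rw [← hq'f, ← hb'a, eval_map_apply]
      rw [this]; exact h1
    have e2 : IsUnit (k.locPt (q'.derivative.eval b')) := by
      rw [← pt_of]
      have : of k (q'.derivative.eval b') = f.derivative.eval a₀ := by
        rw [← hq'f, ← hb'a, derivative_map, eval_map_apply]
      rw [this]; exact h2'
    obtain ⟨E', _, _, _, σ', g, hg, a, hroot, hpt⟩ :=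
      Loc.exists_root_extension k.pt q' hq'mon b' e1 e2
    refine ⟨ofAlg E' σ' a, ?_, ?_⟩
    · have h3 : eval a (q'.map (Loc.map k.pt σ' g hg).toRingHom) = 0 := hroot
      have h4 := eval_map_apply (p := q'.map (Loc.map k.pt σ' g hg).toRingHom)
        (ofAlg E' σ').toRingHom a
      rw [h3, map_zero, Polynomial.map_map, ← of_eq_ofAlg_comp E' σ' g hg, hq'f] at h4
      exact h4
    · rw [RingHom.mem_ker, map_sub, pt_ofAlg, hpt, ← hb'a, pt_of, sub_self]

/-! ### Flatness -/

theorem exists_of_fin {l : ℕ} (x : Fin l → H R K) :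
    ∃ (i : EtPt R K) (x' : Fin l → i.Loc), ∀ m, of i (x' m) = x m := by
  classical
  choose i₀ x₀ hx₀ using fun m => exists_of (x m)
  obtain ⟨k, hk⟩ := Finset.exists_le (Finset.univ.image i₀)
  have hle : ∀ m, i₀ m ≤ k := fun m => hk _ (Finset.mem_image_of_mem _ (Finset.mem_univ m))
  exact ⟨k, fun m => EtPt.trans (hle m) (x₀ m), fun m => by rw [of_trans, hx₀]⟩

instance flat : Module.Flat R (H R K) := by
  apply Module.Flat.of_forall_isTrivialRelation
  intro l f x hfx
  obtain ⟨i, x', hx'⟩ := exists_of_fin x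
  have h1 : of i (∑ m, f m • x' m) = 0 := by
    rw [← hfx, ← ofₐ_apply, map_sum]
    refine Finset.sum_congr rfl fun m _ => ?_
    rw [map_smul, ofₐ_apply, hx']
  obtain ⟨j, hij, hj⟩ := of_eq_zero h1
  have h2 : ∑ m, f m • (EtPt.trans hij (x' m)) = 0 := by
    rw [← hj, map_sum]
    refine Finset.sum_congr rfl fun m _ => ?_
    rw [map_smul]
  have : Module.Flat R j.Loc := Module.Flat.trans R j.Ring j.Loc
  obtain ⟨k, a, y, hy1, hy2⟩ := Module.Flat.isTrivialRelation_of_sum_smul_eq_zero
    (R := R) (M := j.Loc) (f := f) (x := fun m => EtPt.trans hij (x' m)) h2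
  refine ⟨k, a, fun n => of j (y n), fun m => ?_, hy2⟩
  have hy1' : EtPt.trans hij (x' m) = ∑ n, a m n • y n := hy1 m
  rw [← hx' m, ← of_trans hij, hy1', ← ofₐ_apply, map_sum]
  refine Finset.sum_congr rfl fun n _ => ?_
  rw [map_smul, ofₐ_apply]

/-! ### The universal property -/

theorem _root_.Groth.Agent.H8.PairHens.Loc.algHom_ext_of_mk {E : Type*} [CommRing E] [Algebra R E]
    [Algebra.EssFiniteType R E] [Algebra.FormallyUnramified R E] (σ : E →ₐ[R] K)
    {T : Type*} [CommRing T] [Algebra R T] (J : Ideal T) (hJ : J ≤ Ideal.jacobson ⊥)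
    (u v : Loc σ →ₐ[R] T) (h : ∀ x, Ideal.Quotient.mk J (u x) = Ideal.Quotient.mk J (v x)) :
    u = v := by
  apply IsLocalization.algHom_ext (ptMonoid σ)
  apply HensPair.algHom_ext_of_unramified J hJ
  intro x
  rw [← Ideal.Quotient.eq]
  exact h _

section Universal

variable {T : Type u} [CommRing T] [Algebra R T] (J : Ideal T) [hT : HenselianRing T J]
  (τ : K →ₐ[R] T ⧸ J)

/-- The stage-wise lifts into a henselian pair. -/
noncomputable def stageLift (i : EtPt R K) : i.Loc →ₐ[R] T :=
  (Loc.exists_algHom_of_henselianRing i.pt J τ).choose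

theorem mk_stageLift (i : EtPt R K) (x : i.Loc) :
    Ideal.Quotient.mk J (stageLift J τ i x) = τ (i.locPt x) :=
  (Loc.exists_algHom_of_henselianRing i.pt J τ).choose_spec x

theorem stageLift_trans {i j : EtPt R K} (h : i ≤ j) (x : i.Loc) :
    stageLift J τ j (EtPt.trans h x) = stageLift J τ i x := by
  have : (stageLift J τ j).comp (EtPt.trans h) = stageLift J τ i := by
    apply Loc.algHom_ext_of_mk i.pt J hT.jac
    intro y
    simp only [AlgHom.coe_comp, Function.comp_apply]
    rw [mk_stageLift, mk_stageLift, EtPt.locPt_trans]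
  exact congrArg (fun w => w x) this

/-- The induced ring map out of `H`. -/
noncomputable def liftR : H R K →+* T :=
  Ring.DirectLimit.lift _ _ T (fun i => (stageLift J τ i).toRingHom)
    (fun _ _ hij x => stageLift_trans J τ hij x)

theorem liftR_of (i : EtPt R K) (x : i.Loc) : liftR J τ (of i x) = stageLift J τ i x :=
  Ring.DirectLimit.lift_of _ _ _ _ _

/-- The induced map out of `H`. -/
noncomputable def lift : H R K →ₐ[R] T :=
  { liftR J τ with
    commutes' := fun r => by
      show liftR J τ (algebraMap R (H R K) r) = _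
      rw [algebraMap_eq (Classical.arbitrary _) r, liftR_of]
      exact (stageLift J τ _).commutes r }

@[simp]
theorem lift_of (i : EtPt R K) (x : i.Loc) : lift J τ (of i x) = stageLift J τ i x :=
  liftR_of J τ i x

theorem mk_lift (z : H R K) : Ideal.Quotient.mk J (lift J τ z) = τ (pt R K z) := by
  obtain ⟨i, x, rfl⟩ := exists_of z
  rw [lift_of, mk_stageLift, pt_of]

theorem lift_unique (g : H R K →ₐ[R] T)
    (hg : ∀ z, Ideal.Quotient.mk J (g z) = τ (pt R K z)) : g = lift J τ := by
  ext z
  obtain ⟨i, x, rfl⟩ := exists_of z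
  have : g.comp (ofₐ i) = (lift J τ).comp (ofₐ i) := by
    apply Loc.algHom_ext_of_mk i.pt J hT.jac
    intro y
    simp only [AlgHom.coe_comp, Function.comp_apply, ofₐ_apply]
    rw [hg, mk_lift]
  exact congrArg (fun w => w x) this

end Universal

end H

end Groth.Agent.H8.PairHens
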