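import Mathlib
import Groth.Agent.Lib.Helper8.PairHens.Construction
import Groth.Prelude.Def_Hens2

open TensorProduct Polynomial

namespace Groth.Agent.H8.PairHens

universe u

section Stage

variable {A : Type*} [CommRing A] {I : Ideal A} {E : Type*} [CommRing E] [Algebra A E]
  [Algebra.FormallyUnramified A E] [Algebra.EssFiniteType A E] (σ : E →ₐ[A] A ⧸ I)

/-- For an unramified algebra with a section modulo `I`, there is an element which is `1` at the
section and kills, modulo `IE`, everything vanishing at the section. -/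
theorem exists_mul_mem_of_section :
    ∃ e : E, σ e = 1 ∧ ∀ a : E, σ a = 0 → e * a ∈ I.map (algebraMap A E) := by
  obtain ⟨t, ht1, ht2⟩ :=
    Algebra.FormallyUnramified.iff_exists_tensorProduct.mp ‹Algebra.FormallyUnramified A E›
  let B := E ⧸ I.map (algebraMap A E)
  let ι : A ⧸ I →ₐ[A] B := Ideal.Quotient.liftₐ I (Algebra.ofId A B) (by
    intro a ha
    show algebraMap A B a = 0
    rw [IsScalarTower.algebraMap_apply A E B]
    exact Ideal.Quotient.eq_zero_iff_mem.mpr (Ideal.mem_map_of_mem _ ha))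
  let Θ : E ⊗[A] E →ₐ[A] B :=
    Algebra.TensorProduct.productMap (ι.comp σ) (Ideal.Quotient.mkₐ A _)
  have hΘ : ∀ x y : E, Θ (x ⊗ₜ y) = ι (σ x) * Ideal.Quotient.mk _ y := fun x y => by
    simp [Θ]
    rfl
  have hσI : I.map (algebraMap A E) ≤ RingHom.ker σ.toRingHom := by
    rw [Ideal.map_le_iff_le_comap]
    intro x hx
    rw [Ideal.mem_comap, RingHom.mem_ker]
    show σ (algebraMap A E x) = 0
    rw [σ.commutes]
    exact Ideal.Quotient.eq_zero_iff_mem.mpr hx
  let sB : B →ₐ[A] A ⧸ I := Ideal.Quotient.liftₐ _ σ (fun x hx => hσI hx)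
  have hsBι : ∀ y : A ⧸ I, sB (ι y) = y := by
    intro y
    obtain ⟨a, rfl⟩ := Ideal.Quotient.mk_surjective y
    have h1 : ι (Ideal.Quotient.mk I a) = algebraMap A B a := by
      rw [← Ideal.Quotient.algebraMap_eq, ι.commutes]
    rw [h1, sB.commutes]
    rfl
  have hsBΘ : sB (Θ t) = 1 := by
    have : sB.comp Θ = σ.comp (Algebra.TensorProduct.lmul' A) := by
      apply Algebra.TensorProduct.ext'
      intro x y
      show sB (Θ (x ⊗ₜ y)) = σ (Algebra.TensorProduct.lmul' A (x ⊗ₜ y))
      rw [hΘ, map_mul, hsBι, Algebra.TensorProduct.lmul'_apply_tmul, map_mul]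
      rfl
    have h1 := congrArg (fun f => f t) this
    simp only [AlgHom.comp_apply] at h1
    rw [h1, ht2, map_one]
  obtain ⟨e, he⟩ := Ideal.Quotient.mk_surjective (Θ t)
  refine ⟨e, ?_, fun a ha => ?_⟩
  · have : sB (Ideal.Quotient.mk _ e) = σ e := rfl
    rw [← this, he, hsBΘ]
  · rw [← Ideal.Quotient.eq_zero_iff_mem, map_mul, he]
    have h3 := congrArg Θ (ht1 a)
    simp only [map_mul, map_sub, hΘ, map_one, one_mul, mul_one, ha, map_zero] at h3
    rw [mul_comm]
    have : (Ideal.Quotient.mk (I.map (algebraMap A E))) a * Θ t = 0 := by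
      simpa using h3
    exact this

/-- The kernel of the point of `Loc σ` is `I · Loc σ`. -/
theorem Loc.ker_pt_eq : RingHom.ker (Loc.pt σ) = I.map (algebraMap A (Loc σ)) := by
  apply le_antisymm
  · intro x hx
    obtain ⟨a, s, rfl⟩ := IsLocalization.exists_mk'_eq (ptMonoid σ) x
    have h1 : Loc.pt σ (IsLocalization.mk' (Loc σ) a s) * σ s = σ a := by
      rw [← Loc.pt_algebraMap σ a, ← Loc.pt_algebraMap σ (s : E), ← map_mul,
        IsLocalization.mk'_spec]
    have ha : σ a = 0 := by rw [← h1, RingHom.mem_ker.mp hx, zero_mul]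
    obtain ⟨e, he1, he2⟩ := exists_mul_mem_of_section σ
    have hes : e * (s : E) ∈ ptMonoid σ := by
      rw [mem_ptMonoid, map_mul, he1, one_mul]; exact s.2
    have h2 : IsLocalization.mk' (Loc σ) a s =
        IsLocalization.mk' (Loc σ) (e * a) ⟨e * s, hes⟩ := by
      rw [IsLocalization.mk'_eq_iff_eq]
      congr 1
      show (e * (s : E)) * a = (s : E) * (e * a)
      ring
    rw [h2, IsLocalization.mk'_eq_mul_mk'_one]
    apply Ideal.mul_mem_right
    have := Ideal.mem_map_of_mem (algebraMap E (Loc σ)) (he2 a ha)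
    rwa [Ideal.map_map, ← IsScalarTower.algebraMap_eq] at this
  · rw [Ideal.map_le_iff_le_comap]
    intro a ha
    rw [Ideal.mem_comap, RingHom.mem_ker, AlgHom.commutes]
    exact Ideal.Quotient.eq_zero_iff_mem.mpr ha

end Stage

section Henselization

variable (A : Type u) [CommRing A] (I : Ideal A)

/-- The henselization of the pair `(A, I)`. -/
abbrev Hp : Type u := H A (A ⧸ I)

variable {A I}

theorem Hp.pt_algebraMap (a : A) : H.pt A (A ⧸ I) (algebraMap A (Hp A I) a) = Ideal.Quotient.mk I a :=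
  (H.ptₐ A (A ⧸ I)).commutes a

theorem Hp.pt_surjective : Function.Surjective (H.pt A (A ⧸ I)) := by
  intro y
  obtain ⟨a, rfl⟩ := Ideal.Quotient.mk_surjective y
  exact ⟨algebraMap A (Hp A I) a, Hp.pt_algebraMap a⟩

theorem Hp.ker_pt : RingHom.ker (H.pt A (A ⧸ I)) = I.map (algebraMap A (Hp A I)) := by
  apply le_antisymm
  · intro z hz
    obtain ⟨i, x, rfl⟩ := H.exists_of z
    rw [RingHom.mem_ker, H.pt_of] at hz
    have hx : x ∈ RingHom.ker (Loc.pt i.pt) := hz
    rw [Loc.ker_pt_eq] at hx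
    have := Ideal.mem_map_of_mem (H.ofₐ i).toRingHom hx
    rw [Ideal.map_map] at this
    have e : (H.ofₐ i).toRingHom.comp (algebraMap A i.Loc) = algebraMap A (Hp A I) :=
      (H.ofₐ i).comp_algebraMap
    rw [e] at this
    exact this
  · rw [Ideal.map_le_iff_le_comap]
    intro a ha
    rw [Ideal.mem_comap, RingHom.mem_ker, Hp.pt_algebraMap]
    exact Ideal.Quotient.eq_zero_iff_mem.mpr ha

instance Hp.henselianRing : HenselianRing (Hp A I) (I.map (algebraMap A (Hp A I))) := by
  rw [← Hp.ker_pt]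
  exact H.henselianRing

theorem Hp.exists_sub_mem (z : Hp A I) :
    ∃ a : A, z - algebraMap A (Hp A I) a ∈ I.map (algebraMap A (Hp A I)) := by
  obtain ⟨a, ha⟩ := Ideal.Quotient.mk_surjective (H.pt A (A ⧸ I) z)
  refine ⟨a, ?_⟩
  rw [← Hp.ker_pt, RingHom.mem_ker, map_sub, Hp.pt_algebraMap, ha, sub_self]

variable (A I) in
/-- `Hp A I` is a henselization of the pair `(A, I)`. -/
theorem isPairHenselization : Hens2.IsPairHenselization A I (Hp A I) := by
  refine ⟨Hp.henselianRing, ?_⟩
  intro C _ J f hC hfJ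
  letI : Algebra A C := f.toAlgebra
  have hτ : ∀ a ∈ I, (Ideal.Quotient.mkₐ A J).comp (Algebra.ofId A C) a = 0 := by
    intro a ha
    show Ideal.Quotient.mk J (f a) = 0
    exact Ideal.Quotient.eq_zero_iff_mem.mpr (hfJ (Ideal.mem_map_of_mem _ ha))
  let τ : A ⧸ I →ₐ[A] C ⧸ J :=
    Ideal.Quotient.liftₐ I ((Ideal.Quotient.mkₐ A J).comp (Algebra.ofId A C)) hτ
  have hτmk : ∀ a : A, τ (Ideal.Quotient.mk I a) = Ideal.Quotient.mk J (f a) := fun a => rfl
  refine ⟨(H.lift J τ).toRingHom, (H.lift J τ).comp_algebraMap, ?_⟩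
  intro g hg
  let g' : Hp A I →ₐ[A] C := { g with commutes' := fun a => congrArg (fun w => w a) hg }
  have hg' : g' = H.lift J τ := by
    apply H.lift_unique
    intro z
    obtain ⟨a, ha⟩ := Hp.exists_sub_mem z
    have hz : H.pt A (A ⧸ I) z = Ideal.Quotient.mk I a := by
      rw [← Hp.ker_pt, RingHom.mem_ker, map_sub, Hp.pt_algebraMap, sub_eq_zero] at ha
      exact ha
    rw [hz, hτmk]
    rw [Ideal.Quotient.eq]
    have h1 : g' z - f a = g' (z - algebraMap A (Hp A I) a) := by
      rw [map_sub, g'.commutes]; rfl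
    rw [h1]
    have h2 : I.map (algebraMap A (Hp A I)) ≤ J.comap g'.toRingHom := by
      rw [Ideal.map_le_iff_le_comap]
      intro b hb
      rw [Ideal.mem_comap, Ideal.mem_comap]
      show g' (algebraMap A _ b) ∈ J
      rw [g'.commutes]
      exact hfJ (Ideal.mem_map_of_mem _ hb)
    exact h2 ha
  ext z
  exact congrArg (fun w => w z) hg'

end Henselization

end Groth.Agent.H8.PairHens
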