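import Mathlib
import Groth.Agent.Lib.Helper8.PairHens.Henselization
import Groth.Agent.Lib.Helper8.HensPair.Equiv

open TensorProduct Polynomial

namespace Groth.Agent.H8.PairHens

universe u

section Unique

variable {A : Type u} [CommRing A] {I : Ideal A}

/-- Two henselizations of a pair are isomorphic. -/
theorem nonempty_algEquiv_of_isPairHenselization {B B' : Type u} [CommRing B] [CommRing B']
    [Algebra A B] [Algebra A B'] (hB : Hens2.IsPairHenselization A I B)
    (hB' : Hens2.IsPairHenselization A I B') : Nonempty (B ≃ₐ[A] B') := by
  obtain ⟨g, hg, -⟩ := hB.2 B' _ (algebraMap A B') hB'.1 le_rfl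
  obtain ⟨g', hg', -⟩ := hB'.2 B _ (algebraMap A B) hB.1 le_rfl
  have h1 : g'.comp g = RingHom.id _ := by
    obtain ⟨u, -, hu⟩ := hB.2 B _ (algebraMap A B) hB.1 le_rfl
    have e1 : (g'.comp g).comp (algebraMap A B) = algebraMap A B := by
      rw [RingHom.comp_assoc, hg, hg']
    have e2 : (RingHom.id B).comp (algebraMap A B) = algebraMap A B := RingHom.id_comp _
    rw [hu _ e1, hu _ e2]
  have h2 : g.comp g' = RingHom.id _ := by
    obtain ⟨u, -, hu⟩ := hB'.2 B' _ (algebraMap A B') hB'.1 le_rfl
    have e1 : (g.comp g').comp (algebraMap A B') = algebraMap A B' := by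
      rw [RingHom.comp_assoc, hg', hg]
    have e2 : (RingHom.id B').comp (algebraMap A B') = algebraMap A B' := RingHom.id_comp _
    rw [hu _ e1, hu _ e2]
  exact ⟨{ RingEquiv.ofRingHom g g' h2 h1 with
    commutes' := fun r => congrArg (fun w => w r) hg }⟩

/-- Any henselization of the pair is isomorphic to the constructed one. -/
theorem nonempty_algEquiv {B : Type u} [CommRing B] [Algebra A B]
    (hB : Hens2.IsPairHenselization A I B) : Nonempty (Hp A I ≃ₐ[A] B) :=
  nonempty_algEquiv_of_isPairHenselization (isPairHenselization A I) hB

/-- A chosen isomorphism from the constructed henselization. -/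
noncomputable def algEquiv {B : Type u} [CommRing B] [Algebra A B]
    (hB : Hens2.IsPairHenselization A I B) : Hp A I ≃ₐ[A] B := (nonempty_algEquiv hB).some

/-- Transport of the henselization property along an isomorphism. -/
theorem isPairHenselization_of_algEquiv {B B' : Type u} [CommRing B] [CommRing B']
    [Algebra A B] [Algebra A B'] (hB : Hens2.IsPairHenselization A I B) (e : B ≃ₐ[A] B') :
    Hens2.IsPairHenselization A I B' := by
  refine ⟨?_, ?_⟩
  · haveI := hB.1
    exact HensPair.henselianRing_map_of_algEquiv e I
  · intro C _ J f hC hfJ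
    obtain ⟨g, hg, huniq⟩ := hB.2 C J f hC hfJ
    refine ⟨g.comp (e.symm : B' →+* B), ?_, ?_⟩
    · ext a
      simp only [RingHom.comp_apply]
      have : (e.symm : B' →+* B) (algebraMap A B' a) = algebraMap A B a := e.symm.commutes a
      rw [this]
      exact congrArg (fun w => w a) hg
    · intro g' hg'
      have := huniq (g'.comp (e : B →+* B')) (by
        ext a
        simp only [RingHom.comp_apply]
        have : (e : B →+* B') (algebraMap A B a) = algebraMap A B' a := e.commutes a
        rw [this]
        exact congrArg (fun w => w a) hg')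
      rw [← this]
      ext b
      simp

/-- A henselization of a pair is flat. -/
theorem flat_of_isPairHenselization {B : Type u} [CommRing B] [Algebra A B]
    (hB : Hens2.IsPairHenselization A I B) : Module.Flat A B :=
  Module.Flat.of_linearEquiv (algEquiv hB).symm.toLinearEquiv

end Unique

end Groth.Agent.H8.PairHens
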