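import Mathlib
import Groth.Agent.Lib.Helper8.PairHens.Unique
import Groth.Agent.Lib.Helper8.HensPair.HomLift
import Groth.Agent.Lib.Helper8.HensPair.Basic

open TensorProduct Polynomial

namespace Groth.Agent.H8.PairHens

universe u

/-- A pair with nilpotent ideal is henselian. -/
theorem henselianRing_of_isNilpotent {A : Type u} [CommRing A] (I : Ideal A) (h : IsNilpotent I) :
    HenselianRing A I := by
  refine HensPair.henselianRing_of_etale_lift fun A' _ _ _ σ => ?_
  have hs : Function.Surjective (Ideal.Quotient.mkₐ A I) := Ideal.Quotient.mkₐ_surjective A I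
  have hk : IsNilpotent (RingHom.ker ((Ideal.Quotient.mkₐ A I : A →ₐ[A] A ⧸ I) : A →+* A ⧸ I)) := by
    have : RingHom.ker ((Ideal.Quotient.mkₐ A I : A →ₐ[A] A ⧸ I) : A →+* A ⧸ I) = I := by
      ext x
      simp
    rw [this]; exact h
  exact ⟨Algebra.FormallySmooth.liftOfSurjective σ (Ideal.Quotient.mkₐ A I) hs hk,
    Algebra.FormallySmooth.comp_liftOfSurjective σ (Ideal.Quotient.mkₐ A I) hs hk⟩

section EtaleBase

variable (R : Type u) [CommRing R] (I : Ideal R)
    (S : Type u) [CommRing S] [Algebra R S] [Algebra.Etale R S]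

/-- Maps out of an étale `R`-algebra `S` with `R/I → S/IS` surjective, into a henselian pair
`(C, J)` with `I C ≤ J`, are determined by their restriction to `R`. -/
theorem ringHom_ext_of_etale_of_surjective
    (hq : Function.Surjective
      (Ideal.quotientMap (I.map (algebraMap R S)) (algebraMap R S) Ideal.le_comap_map))
    {C : Type u} [CommRing C] (J : Ideal C) [HenselianRing C J] (φ φ' : S →+* C)
    (hφ : I.map (φ.comp (algebraMap R S)) ≤ J)
    (h : φ.comp (algebraMap R S) = φ'.comp (algebraMap R S)) : φ = φ' := by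
  letI : Algebra R C := (φ.comp (algebraMap R S)).toAlgebra
  let ψ : S →ₐ[R] C := { φ with commutes' := fun r => rfl }
  let ψ' : S →ₐ[R] C := { φ' with commutes' := fun r => (congrArg (fun w => w r) h).symm }
  have key : ∀ (χ : S →ₐ[R] C) (x : S), x ∈ I.map (algebraMap R S) → χ x ∈ J := by
    intro χ x hx
    have h1 : χ x ∈ (I.map (algebraMap R S)).map (χ : S →+* C) := Ideal.mem_map_of_mem _ hx
    rw [Ideal.map_map] at h1
    have h2 : (χ : S →+* C).comp (algebraMap R S) = φ.comp (algebraMap R S) := by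
      ext r
      exact χ.commutes r
    rw [h2] at h1
    exact hφ h1
  have : ψ = ψ' := by
    refine HensPair.algHom_ext_of_unramified J HenselianRing.jac ψ ψ' ?_
    intro s
    obtain ⟨rb, hr⟩ := hq (Ideal.Quotient.mk _ s)
    obtain ⟨r, rfl⟩ := Ideal.Quotient.mk_surjective rb
    rw [Ideal.quotientMap_mk, Ideal.Quotient.eq] at hr
    have e1 : ψ s - ψ' s = ψ' (algebraMap R S r - s) - ψ (algebraMap R S r - s) := by
      rw [map_sub, map_sub, ψ.commutes, ψ'.commutes]; ring
    rw [e1]
    exact J.sub_mem (key ψ' _ hr) (key ψ _ hr)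
  ext s
  exact congrArg (fun w => w s) this

variable {R I S} in
/-- Henselization of `(S, IS)` for `S` étale over `R` with `R/I ≅ S/IS` is a henselization of
`(R, I)`. -/
theorem isPairHenselization_of_etale_of_bijective
    (hq : Function.Bijective
      (Ideal.quotientMap (I.map (algebraMap R S)) (algebraMap R S) Ideal.le_comap_map))
    (H : Type u) [CommRing H] [Algebra S H] [Algebra R H] [IsScalarTower R S H]
    (hH : Hens2.IsPairHenselization S (I.map (algebraMap R S)) H) :
    Hens2.IsPairHenselization R I H := by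
  have hmap : I.map (algebraMap R H) = (I.map (algebraMap R S)).map (algebraMap S H) := by
    rw [Ideal.map_map, ← IsScalarTower.algebraMap_eq]
  refine ⟨by rw [hmap]; exact hH.1, ?_⟩
  intro C _ J f hC hfJ
  haveI := hC
  -- existence
  letI : Algebra R C := f.toAlgebra
  let e : (R ⧸ I) ≃+* (S ⧸ I.map (algebraMap R S)) := RingEquiv.ofBijective _ hq
  let σ : S →ₐ[R] R ⧸ I :=
    { (e.symm : (S ⧸ I.map (algebraMap R S)) →+* R ⧸ I).comp (Ideal.Quotient.mk _) with
      commutes' := fun r => by
        change e.symm (Ideal.Quotient.mk _ (algebraMap R S r)) = _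
        rw [RingEquiv.symm_apply_eq]
        rfl }
  let τ : R ⧸ I →ₐ[R] C ⧸ J := Ideal.Quotient.liftₐ I (Algebra.ofId R (C ⧸ J)) (by
    intro a ha
    change Ideal.Quotient.mk J (f a) = 0
    rw [Ideal.Quotient.eq_zero_iff_mem]
    exact hfJ (Ideal.mem_map_of_mem _ ha))
  obtain ⟨gS, -⟩ := exists_algHom_of_henselianRing σ J τ
  have hgS : (gS : S →+* C).comp (algebraMap R S) = f := by
    ext r
    exact gS.commutes r
  have hle : (I.map (algebraMap R S)).map (gS : S →+* C) ≤ J := by
    rw [Ideal.map_map, hgS]; exact hfJ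
  obtain ⟨g, hg, huniq⟩ := hH.2 C J (gS : S →+* C) hC hle
  refine ⟨g, ?_, ?_⟩
  · change g.comp (algebraMap R H) = f
    rw [IsScalarTower.algebraMap_eq R S H, ← RingHom.comp_assoc, hg, hgS]
  · intro g' hg'
    apply huniq
    refine ringHom_ext_of_etale_of_surjective R I S hq.2 J _ _ ?_ ?_
    · rw [RingHom.comp_assoc, ← IsScalarTower.algebraMap_eq, hg']; exact hfJ
    · rw [RingHom.comp_assoc, ← IsScalarTower.algebraMap_eq, hg', hgS]

end EtaleBase

end Groth.Agent.H8.PairHens
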