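import Mathlib
import Groth.Agent.Lib.Helper8.PairHens.EtaleBase

open TensorProduct Polynomial

namespace Groth.Agent.H8.PairHens

universe u

section PowQuot

variable {A : Type u} [CommRing A] {I : Ideal A} {B : Type u} [CommRing B] [Algebra A B]

theorem map_algEquiv_eq {B' : Type u} [CommRing B'] [Algebra A B'] (e : B ≃ₐ[A] B') (K : Ideal A) :
    (K.map (algebraMap A B)).map (e : B →+* B') = K.map (algebraMap A B') := by
  rw [Ideal.map_map]
  congr 1
  ext a
  exact e.commutes a

/-- `B = A + I B` for a henselization `B` of `(A, I)`. -/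
theorem exists_sub_mem_of_isPairHenselization (hB : Hens2.IsPairHenselization A I B) (z : B) :
    ∃ a : A, z - algebraMap A B a ∈ I.map (algebraMap A B) := by
  let e := algEquiv hB
  obtain ⟨a, ha⟩ := Hp.exists_sub_mem (A := A) (I := I) (e.symm z)
  refine ⟨a, ?_⟩
  have h1 : (e : Hp A I →+* B) (e.symm z - algebraMap A (Hp A I) a) ∈
      (I.map (algebraMap A (Hp A I))).map (e : Hp A I →+* B) := Ideal.mem_map_of_mem _ ha
  rw [map_algEquiv_eq] at h1
  have h2 : (e : Hp A I →+* B) (e.symm z - algebraMap A (Hp A I) a) = z - algebraMap A B a := by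
    rw [map_sub]
    change e (e.symm z) - e (algebraMap A (Hp A I) a) = _
    rw [e.apply_symm_apply, e.commutes]
  rwa [h2] at h1

theorem range_sup_pow_smul_top (h : ∀ z : B, ∃ a : A, z - algebraMap A B a ∈ I.map (algebraMap A B))
    (n : ℕ) :
    LinearMap.range (Algebra.linearMap A B) ⊔ (I ^ n) • (⊤ : Submodule A B) = ⊤ := by
  have h1 : LinearMap.range (Algebra.linearMap A B) ⊔ I • (⊤ : Submodule A B) = ⊤ := by
    rw [eq_top_iff]
    intro z _
    obtain ⟨a, ha⟩ := h z
    rw [Submodule.mem_sup]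
    refine ⟨algebraMap A B a, ⟨a, rfl⟩, z - algebraMap A B a, ?_, by ring⟩
    rw [Ideal.smul_top_eq_map]
    exact ha
  induction n with
  | zero =>
    rw [pow_zero, Ideal.one_eq_top, Submodule.top_smul]
    exact sup_top_eq _
  | succ n ih =>
    have key : (I ^ n) • (⊤ : Submodule A B) ≤
        LinearMap.range (Algebra.linearMap A B) ⊔ (I ^ (n + 1)) • (⊤ : Submodule A B) := by
      conv_lhs => rw [← h1, Submodule.smul_sup]
      refine sup_le ?_ ?_
      · exact le_trans Submodule.smul_le_right le_sup_left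
      · rw [← Submodule.mul_smul, ← pow_succ]
        exact le_sup_right
    rw [eq_top_iff]
    calc (⊤ : Submodule A B) = LinearMap.range (Algebra.linearMap A B) ⊔
          (I ^ n) • (⊤ : Submodule A B) := ih.symm
      _ ≤ _ := sup_le le_sup_left key

theorem exists_sub_mem_pow (h : ∀ z : B, ∃ a : A, z - algebraMap A B a ∈ I.map (algebraMap A B))
    (n : ℕ) (z : B) : ∃ a : A, z - algebraMap A B a ∈ (I ^ n).map (algebraMap A B) := by
  have hz : z ∈ LinearMap.range (Algebra.linearMap A B) ⊔ (I ^ n) • (⊤ : Submodule A B) := by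
    rw [range_sup_pow_smul_top h n]; trivial
  rw [Submodule.mem_sup] at hz
  obtain ⟨y, ⟨a, rfl⟩, w, hw, rfl⟩ := hz
  refine ⟨a, ?_⟩
  rw [Ideal.smul_top_eq_map] at hw
  simpa using hw

/-- `A ∩ I^n B = I^n` for a henselization `B` of `(A, I)`. -/
theorem mem_pow_of_algebraMap_mem (hB : Hens2.IsPairHenselization A I B) (n : ℕ) (a : A)
    (ha : algebraMap A B a ∈ (I ^ n).map (algebraMap A B)) : a ∈ I ^ n := by
  have hC : HenselianRing (A ⧸ I ^ n) (I.map (Ideal.Quotient.mk (I ^ n))) := by
    apply henselianRing_of_isNilpotent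
    refine ⟨n, ?_⟩
    rw [← Ideal.map_pow, Ideal.zero_eq_bot, Ideal.map_quotient_self]
  obtain ⟨g, hg, -⟩ := hB.2 (A ⧸ I ^ n) _ (Ideal.Quotient.mk (I ^ n)) hC le_rfl
  have h1 : g (algebraMap A B a) ∈ ((I ^ n).map (algebraMap A B)).map g := Ideal.mem_map_of_mem _ ha
  rw [Ideal.map_map, hg, Ideal.map_quotient_self] at h1
  have h2 : g (algebraMap A B a) = Ideal.Quotient.mk (I ^ n) a := congrArg (fun w => w a) hg
  rw [h2, Ideal.mem_bot, Ideal.Quotient.eq_zero_iff_mem] at h1
  exact h1

theorem bijective_quotientMap_pow (hB : Hens2.IsPairHenselization A I B) (n : ℕ) :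
    Function.Bijective
      (Ideal.quotientMap ((I ^ n).map (algebraMap A B)) (algebraMap A B) Ideal.le_comap_map) := by
  constructor
  · rw [injective_iff_map_eq_zero]
    intro x hx
    obtain ⟨a, rfl⟩ := Ideal.Quotient.mk_surjective x
    rw [Ideal.quotientMap_mk, Ideal.Quotient.eq_zero_iff_mem] at hx
    rw [Ideal.Quotient.eq_zero_iff_mem]
    exact mem_pow_of_algebraMap_mem hB n a hx
  · intro y
    obtain ⟨z, rfl⟩ := Ideal.Quotient.mk_surjective y
    obtain ⟨a, ha⟩ := exists_sub_mem_pow (exists_sub_mem_of_isPairHenselization hB) n z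
    refine ⟨Ideal.Quotient.mk _ a, ?_⟩
    rw [Ideal.quotientMap_mk, eq_comm, Ideal.Quotient.eq]
    exact ha

end PowQuot

end Groth.Agent.H8.PairHens
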