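import Mathlib
import Groth.Agent.Lib.Helper8.PairHens.PowQuot

open TensorProduct Polynomial

namespace Groth.Agent.H8.PairHens

universe u

section IsoMod

variable {A : Type u} [CommRing A] (I : Ideal A)

/-- `A/I → A'/IA'` is bijective. -/
def IsoMod (A' : Type*) [CommRing A'] [Algebra A A'] : Prop :=
  Function.Bijective
    (Ideal.quotientMap (I.map (algebraMap A A')) (algebraMap A A') Ideal.le_comap_map)

variable {I}
variable {A' : Type*} [CommRing A'] [Algebra A A']

theorem isoMod_of_section (σ : A' →ₐ[A] A ⧸ I)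
    (hσ : ∀ x, σ x = 0 → x ∈ I.map (algebraMap A A')) : IsoMod I A' := by
  constructor
  · rw [injective_iff_map_eq_zero]
    intro x hx
    obtain ⟨a, rfl⟩ := Ideal.Quotient.mk_surjective x
    rw [Ideal.quotientMap_mk, Ideal.Quotient.eq_zero_iff_mem] at hx
    have h1 : σ (algebraMap A A' a) = 0 := by
      have h2 : I.map (algebraMap A A') ≤ RingHom.ker (σ : A' →+* A ⧸ I) := by
        rw [Ideal.map_le_iff_le_comap]
        intro b hb
        rw [Ideal.mem_comap, RingHom.mem_ker]
        change σ (algebraMap A A' b) = 0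
        rw [σ.commutes]
        exact Ideal.Quotient.eq_zero_iff_mem.mpr hb
      exact h2 hx
    rw [σ.commutes] at h1
    exact h1
  · intro y
    obtain ⟨x, rfl⟩ := Ideal.Quotient.mk_surjective y
    obtain ⟨a, ha⟩ := Ideal.Quotient.mk_surjective (σ x)
    refine ⟨Ideal.Quotient.mk I a, ?_⟩
    rw [Ideal.quotientMap_mk, Ideal.Quotient.eq]
    apply hσ
    rw [map_sub, σ.commutes, ← ha]
    exact sub_self _

/-- The section attached to an algebra with `A/I ≅ A'/IA'`. -/
noncomputable def IsoMod.section (h : IsoMod I A') : A' →ₐ[A] A ⧸ I :=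
  { ((RingEquiv.ofBijective _ h).symm : (A' ⧸ I.map (algebraMap A A')) →+* A ⧸ I).comp
      (Ideal.Quotient.mk _) with
    commutes' := fun r => by
      change (RingEquiv.ofBijective _ h).symm (Ideal.Quotient.mk _ (algebraMap A A' r)) = _
      rw [RingEquiv.symm_apply_eq]
      rfl }

theorem IsoMod.section_apply (h : IsoMod I A') (x : A') :
    h.section x = (RingEquiv.ofBijective _ h).symm (Ideal.Quotient.mk _ x) := rfl

theorem IsoMod.section_eq_zero_iff (h : IsoMod I A') (x : A') :
    h.section x = 0 ↔ x ∈ I.map (algebraMap A A') := by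
  rw [IsoMod.section_apply, RingEquiv.symm_apply_eq, map_zero, Ideal.Quotient.eq_zero_iff_mem]

theorem IsoMod.section_unique (h : IsoMod I A') (σ : A' →ₐ[A] A ⧸ I) : σ = h.section := by
  ext x
  obtain ⟨ab, hab⟩ := h.2 (Ideal.Quotient.mk _ x)
  obtain ⟨a, rfl⟩ := Ideal.Quotient.mk_surjective ab
  rw [Ideal.quotientMap_mk, Ideal.Quotient.eq] at hab
  have key : ∀ τ : A' →ₐ[A] A ⧸ I, τ x = Ideal.Quotient.mk I a := by
    intro τ
    have h2 : I.map (algebraMap A A') ≤ RingHom.ker (τ : A' →+* A ⧸ I) := by
      rw [Ideal.map_le_iff_le_comap]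
      intro b hb
      rw [Ideal.mem_comap, RingHom.mem_ker]
      change τ (algebraMap A A' b) = 0
      rw [τ.commutes]
      exact Ideal.Quotient.eq_zero_iff_mem.mpr hb
    have h3 : τ (algebraMap A A' a - x) = 0 := h2 hab
    rw [map_sub, τ.commutes, sub_eq_zero] at h3
    exact h3.symm
  rw [key σ, key h.section]

/-- Localizing an algebra with a section at a suitable element gives `A/I ≅ A'/IA'`. -/
theorem isoMod_away {E : Type*} [CommRing E] [Algebra A E] (σ : E →ₐ[A] A ⧸ I) (e : E)
    (he : IsUnit (σ e)) (h : ∀ a, σ a = 0 → e * a ∈ I.map (algebraMap A E)) :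
    IsoMod I (Localization.Away e) := by
  refine isoMod_of_section (awayPt σ e he) ?_
  intro x hx
  obtain ⟨a, s, rfl⟩ := IsLocalization.exists_mk'_eq (Submonoid.powers e) x
  have h1 : awayPt σ e he (IsLocalization.mk' (Localization.Away e) a s) * σ s = σ a := by
    rw [← awayPt_algebraMap σ e he a, ← awayPt_algebraMap σ e he (s : E), ← map_mul,
      IsLocalization.mk'_spec]
  have ha : σ a = 0 := by rw [← h1, hx, zero_mul]
  have hes : e * (s : E) ∈ Submonoid.powers e :=
    Submonoid.mul_mem _ (Submonoid.mem_powers e) s.2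
  have h2 : IsLocalization.mk' (Localization.Away e) a s =
      IsLocalization.mk' (Localization.Away e) (e * a) ⟨e * s, hes⟩ := by
    rw [IsLocalization.mk'_eq_iff_eq]
    congr 1
    show (e * (s : E)) * a = (s : E) * (e * a)
    ring
  rw [h2, IsLocalization.mk'_eq_mul_mk'_one]
  apply Ideal.mul_mem_right
  have := Ideal.mem_map_of_mem (algebraMap E (Localization.Away e)) (h a ha)
  rwa [Ideal.map_map, ← IsScalarTower.algebraMap_eq] at this

/-- Every unramified algebra with a section has a principal localization with `A/I ≅ A'/IA'`,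
which can be taken inside any prescribed principal localization at a unit of the section. -/
theorem exists_isoMod_away {E : Type*} [CommRing E] [Algebra A E]
    [Algebra.FormallyUnramified A E] [Algebra.EssFiniteType A E] (σ : E →ₐ[A] A ⧸ I)
    (s : E) (hs : IsUnit (σ s)) :
    ∃ e : E, σ e = 1 ∧ IsUnit (σ (s * e)) ∧ IsoMod I (Localization.Away (s * e)) := by
  obtain ⟨e, he1, he2⟩ := exists_mul_mem_of_section σ
  have hu : IsUnit (σ (s * e)) := by rw [map_mul, he1, mul_one]; exact hs
  refine ⟨e, he1, hu, isoMod_away σ (s * e) hu ?_⟩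
  intro a ha
  rw [mul_assoc]
  exact Ideal.mul_mem_left _ _ (he2 a ha)

end IsoMod

end Groth.Agent.H8.PairHens
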