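import Mathlib
import Groth.Agent.Lib.Helper8.PairHens.IsoMod

open TensorProduct Polynomial

namespace Groth.Agent.H8.PairHens

universe u

section Filtered

variable {A : Type u} [CommRing A] {I : Ideal A}

theorem isoMod_directed (A₁ A₂ : Type u) [CommRing A₁] [Algebra A A₁] [Algebra.Etale A A₁]
    [CommRing A₂] [Algebra A A₂] [Algebra.Etale A A₂] (h₁ : IsoMod I A₁) (h₂ : IsoMod I A₂) :
    ∃ (A₃ : Type u) (_ : CommRing A₃) (_ : Algebra A A₃) (_ : Algebra.Etale A A₃),
      IsoMod I A₃ ∧ Nonempty (A₁ →ₐ[A] A₃) ∧ Nonempty (A₂ →ₐ[A] A₃) := by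
  haveI : Algebra.Etale A (A₁ ⊗[A] A₂) := Algebra.Etale.comp A A₁ _
  let σ : A₁ ⊗[A] A₂ →ₐ[A] A ⧸ I := Algebra.TensorProduct.productMap h₁.section h₂.section
  obtain ⟨e, -, -, he⟩ := exists_isoMod_away σ 1 (by rw [map_one]; exact isUnit_one)
  refine ⟨Localization.Away ((1 : A₁ ⊗[A] A₂) * e), inferInstance, inferInstance, inferInstance,
    he, ⟨?_⟩, ⟨?_⟩⟩
  · exact (IsScalarTower.toAlgHom A (A₁ ⊗[A] A₂) _).comp Algebra.TensorProduct.includeLeft
  · exact (IsScalarTower.toAlgHom A (A₁ ⊗[A] A₂) _).comp Algebra.TensorProduct.includeRight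

theorem isoMod_coequalize (A₁ A₂ : Type u) [CommRing A₁] [Algebra A A₁] [Algebra.Etale A A₁]
    [CommRing A₂] [Algebra A A₂] [Algebra.Etale A A₂] (h₁ : IsoMod I A₁) (h₂ : IsoMod I A₂)
    (f g : A₁ →ₐ[A] A₂) :
    ∃ (A₃ : Type u) (_ : CommRing A₃) (_ : Algebra A A₃) (_ : Algebra.Etale A A₃),
      IsoMod I A₃ ∧ ∃ h : A₂ →ₐ[A] A₃, h.comp f = h.comp g := by
  obtain ⟨t, ht1, ht2⟩ :=
    Algebra.FormallyUnramified.iff_exists_tensorProduct.mp
      (inferInstance : Algebra.FormallyUnramified A A₁)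
  let Θ : A₁ ⊗[A] A₁ →ₐ[A] A₂ := Algebra.TensorProduct.productMap f g
  let θ : A₂ := Θ t
  have hθ : ∀ a : A₁, (g a - f a) * θ = 0 := by
    intro a
    have := congrArg Θ (ht1 a)
    simpa [Θ] using this
  have hσ : ∀ φ : A₁ →ₐ[A] A₂, h₂.section.comp φ = h₁.section := fun φ =>
    h₁.section_unique _
  have hσθ : h₂.section θ = 1 := by
    have h3 : h₂.section.comp Θ = h₁.section.comp (Algebra.TensorProduct.lmul' A) := by
      apply Algebra.TensorProduct.ext'
      intro x y
      show h₂.section (Θ (x ⊗ₜ y)) = h₁.section (Algebra.TensorProduct.lmul' A (x ⊗ₜ y))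
      have e1 : Θ (x ⊗ₜ y) = f x * g y := by simp [Θ]
      rw [e1, map_mul, Algebra.TensorProduct.lmul'_apply_tmul, map_mul]
      have e2 : h₂.section (f x) = h₁.section x := congrArg (fun w => w x) (hσ f)
      have e3 : h₂.section (g y) = h₁.section y := congrArg (fun w => w y) (hσ g)
      rw [e2, e3]
    have h4 := congrArg (fun w => w t) h3
    simp only [AlgHom.comp_apply] at h4
    rw [ht2, map_one] at h4
    exact h4
  have hu : IsUnit (h₂.section θ) := by rw [hσθ]; exact isUnit_one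
  have hiso : IsoMod I (Localization.Away θ) := by
    refine isoMod_away h₂.section θ hu ?_
    intro a ha
    exact Ideal.mul_mem_left _ _ ((h₂.section_eq_zero_iff a).mp ha)
  refine ⟨Localization.Away θ, inferInstance, inferInstance, inferInstance, hiso,
    IsScalarTower.toAlgHom A A₂ _, ?_⟩
  ext a
  show algebraMap A₂ (Localization.Away θ) (f a) = algebraMap A₂ (Localization.Away θ) (g a)
  rw [IsLocalization.eq_iff_exists (Submonoid.powers θ)]
  refine ⟨⟨θ, Submonoid.mem_powers θ⟩, ?_⟩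
  have := hθ a
  show θ * f a = θ * g a
  linear_combination (-1 : A₂) * this

end Filtered

end Groth.Agent.H8.PairHens
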