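import Mathlib
import Groth.Agent.Lib.Helper8.PairHens.Filtered

open TensorProduct Polynomial

namespace Groth.Agent.H8.PairHens

universe u

section Colimit

variable {A : Type u} [CommRing A] {I : Ideal A} {B : Type u} [CommRing B] [Algebra A B]

/-- An étale algebra with `A/I ≅ A'/IA'` maps uniquely to the henselization. -/
theorem exists_algHom_of_isoMod (hB : Hens2.IsPairHenselization A I B)
    (A' : Type u) [CommRing A'] [Algebra A A'] [Algebra.Etale A A'] (h : IsoMod I A') :
    Nonempty (A' →ₐ[A] B) := by
  haveI := hB.1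
  let τ : A ⧸ I →ₐ[A] B ⧸ I.map (algebraMap A B) :=
    Ideal.Quotient.liftₐ I (Algebra.ofId A (B ⧸ I.map (algebraMap A B))) (by
      intro a ha
      change algebraMap A (B ⧸ I.map (algebraMap A B)) a = 0
      rw [IsScalarTower.algebraMap_apply A B (B ⧸ I.map (algebraMap A B))]
      exact Ideal.Quotient.eq_zero_iff_mem.mpr (Ideal.mem_map_of_mem _ ha))
  obtain ⟨g, -⟩ := exists_algHom_of_henselianRing h.section (I.map (algebraMap A B)) τ
  exact ⟨g⟩

theorem algHom_ext_of_isoMod (hB : Hens2.IsPairHenselization A I B)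
    (A' : Type u) [CommRing A'] [Algebra A A'] [Algebra.Etale A A'] (h : IsoMod I A')
    (φ φ' : A' →ₐ[A] B) : φ = φ' := by
  haveI := hB.1
  have key : ∀ χ : A' →ₐ[A] B, (χ : A' →+* B).comp (algebraMap A A') = algebraMap A B := by
    intro χ
    ext a
    exact χ.commutes a
  have := ringHom_ext_of_etale_of_surjective A I A' h.2 (I.map (algebraMap A B))
    (φ : A' →+* B) (φ' : A' →+* B) (by rw [key]) (by rw [key, key])
  ext x
  exact congrArg (fun w => w x) this

theorem unique_algHom_of_isoMod (hB : Hens2.IsPairHenselization A I B)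
    (A' : Type u) [CommRing A'] [Algebra A A'] [Algebra.Etale A A'] (h : IsoMod I A') :
    Nonempty (Unique (A' →ₐ[A] B)) := by
  obtain ⟨g⟩ := exists_algHom_of_isoMod hB A' h
  exact ⟨⟨⟨g⟩, fun g' => algHom_ext_of_isoMod hB A' h g' g⟩⟩

/-- The henselization of `(A, I)` is also the henselization of `(A', IA')` for every étale `A'`
with `A/I ≅ A'/IA'`. -/
theorem isPairHenselization_of_isoMod (hB : Hens2.IsPairHenselization A I B)
    (A' : Type u) [CommRing A'] [Algebra A A'] [Algebra.Etale A A'] (h : IsoMod I A')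
    [Algebra A' B] [IsScalarTower A A' B] :
    Hens2.IsPairHenselization A' (I.map (algebraMap A A')) B := by
  let B' := Hp A' (I.map (algebraMap A A'))
  letI : Algebra A B' := ((algebraMap A' B').comp (algebraMap A A')).toAlgebra
  haveI : IsScalarTower A A' B' := IsScalarTower.of_algebraMap_eq (fun _ => rfl)
  have hB' : Hens2.IsPairHenselization A I B' :=
    isPairHenselization_of_etale_of_bijective h B' (isPairHenselization A' _)
  obtain ⟨e⟩ := nonempty_algEquiv_of_isPairHenselization hB' hB
  have hcomm : ∀ x : A', e (algebraMap A' B' x) = algebraMap A' B x := by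
    intro x
    have := algHom_ext_of_isoMod hB A' h
      ((e : B' →ₐ[A] B).comp (IsScalarTower.toAlgHom A A' B')) (IsScalarTower.toAlgHom A A' B)
    exact congrArg (fun w => w x) this
  let e' : B' ≃ₐ[A'] B := { (e : B' ≃+* B) with commutes' := hcomm }
  exact isPairHenselization_of_algEquiv (isPairHenselization A' _) e'

/-- If an element of an étale algebra with `A/I ≅ A'/IA'` dies in the henselization, it is killed by
an element congruent to `1` modulo `IA'`. -/
theorem exists_kill_of_isoMod (hB : Hens2.IsPairHenselization A I B)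
    (A' : Type u) [CommRing A'] [Algebra A A'] [Algebra.Etale A A'] (h : IsoMod I A')
    (φ : A' →ₐ[A] B) (s : A') (hs : φ s = 0) :
    ∃ t : A', t * s = 0 ∧ t - 1 ∈ I.map (algebraMap A A') := by
  letI : Algebra A' B := φ.toRingHom.toAlgebra
  haveI : IsScalarTower A A' B := IsScalarTower.of_algebraMap_eq (fun a => (φ.commutes a).symm)
  have hB' := isPairHenselization_of_isoMod hB A' h
  haveI : Module.Flat A' B := flat_of_isPairHenselization hB'
  have hrel : ∑ i : Fin 1, (fun _ => s) i • (fun _ => (1 : B)) i = 0 := by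
    simp only [Finset.univ_unique, Finset.sum_singleton]
    rw [Algebra.smul_def, mul_one]
    exact hs
  obtain ⟨k, a, y, hx, ha⟩ := Module.Flat.isTrivialRelation_of_sum_smul_eq_zero (R := A') (M := B)
    (f := fun _ : Fin 1 => s) (x := fun _ : Fin 1 => (1 : B)) hrel
  choose c hc using fun j => exists_sub_mem_of_isPairHenselization hB' (y j)
  refine ⟨∑ j, a 0 j * c j, ?_, ?_⟩
  · rw [Finset.sum_mul]
    apply Finset.sum_eq_zero
    intro j _
    have := ha j
    simp only [Finset.univ_unique, Finset.sum_singleton] at this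
    have e1 : a 0 j * c j * s = (s * a default j) * c j := by
      have : (0 : Fin 1) = default := rfl
      rw [this]; ring
    rw [e1, this, zero_mul]
  · have h1 := mem_pow_of_algebraMap_mem hB' 1 (∑ j, a 0 j * c j - 1)
    rw [pow_one] at h1
    apply h1
    have e1 : algebraMap A' B (∑ j, a 0 j * c j - 1) =
        - ∑ j, algebraMap A' B (a 0 j) * (y j - algebraMap A' B (c j)) := by
      rw [map_sub, map_one, map_sum]
      have := hx 0
      simp only at this
      rw [this, ← Finset.sum_neg_distrib, ← Finset.sum_sub_distrib]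
      apply Finset.sum_congr rfl
      intro j _
      rw [Algebra.smul_def, map_mul]
      ring
    rw [e1]
    apply neg_mem
    apply Ideal.sum_mem
    intro j _
    exact Ideal.mul_mem_left _ _ (hc j)

theorem exists_isoMod_kill (hB : Hens2.IsPairHenselization A I B)
    (A' : Type u) [CommRing A'] [Algebra A A'] [Algebra.Etale A A'] (h : IsoMod I A')
    (φ : A' →ₐ[A] B) (s : A') (hs : φ s = 0) :
    ∃ (A'' : Type u) (_ : CommRing A'') (_ : Algebra A A'') (_ : Algebra.Etale A A''),
      IsoMod I A'' ∧ ∃ ψ : A' →ₐ[A] A'', ψ s = 0 := by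
  obtain ⟨t, hts, ht1⟩ := exists_kill_of_isoMod hB A' h φ s hs
  have hσt : h.section t = 1 := by
    have := (h.section_eq_zero_iff (t - 1)).mpr ht1
    rwa [map_sub, map_one, sub_eq_zero] at this
  have hu : IsUnit (h.section t) := by rw [hσt]; exact isUnit_one
  have hiso : IsoMod I (Localization.Away t) := by
    refine isoMod_away h.section t hu ?_
    intro a ha
    exact Ideal.mul_mem_left _ _ ((h.section_eq_zero_iff a).mp ha)
  refine ⟨Localization.Away t, inferInstance, inferInstance, inferInstance, hiso,
    IsScalarTower.toAlgHom A A' _, ?_⟩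
  show algebraMap A' (Localization.Away t) s = 0
  rw [IsLocalization.map_eq_zero_iff (Submonoid.powers t) (Localization.Away t)]
  exact ⟨⟨t, Submonoid.mem_powers t⟩, hts⟩

theorem exists_isoMod_of_mem (hB : Hens2.IsPairHenselization A I B) (x : B) :
    ∃ (A' : Type u) (_ : CommRing A') (_ : Algebra A A') (_ : Algebra.Etale A A'),
      IsoMod I A' ∧ ∃ (φ : A' →ₐ[A] B) (s : A'), φ s = x := by
  let e := algEquiv hB
  obtain ⟨i, y, hy⟩ := H.exists_of (e.symm x)
  obtain ⟨a, s, rfl⟩ := IsLocalization.exists_mk'_eq (ptMonoid i.pt) y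
  obtain ⟨e₀, he1, hu, hiso⟩ := exists_isoMod_away i.pt (s : i.Ring) s.2
  let t : i.Ring := (s : i.Ring) * e₀
  let w : Localization.Away t :=
    IsLocalization.mk' (Localization.Away t) (a * e₀) ⟨t, Submonoid.mem_powers t⟩
  refine ⟨Localization.Away t, inferInstance, inferInstance, inferInstance, hiso,
    (e : Hp A I →ₐ[A] B).comp ((H.ofₐ i).comp (awayToLoc i.pt t hu)), w, ?_⟩
  have h1 : awayToLoc i.pt t hu w = IsLocalization.mk' i.Loc a s := by
    have hut : IsUnit (algebraMap i.Ring i.Loc t) :=
      IsLocalization.map_units i.Loc (⟨t, hu⟩ : ptMonoid i.pt)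
    rw [← hut.mul_left_inj]
    have e1 : w * algebraMap i.Ring (Localization.Away t) t =
        algebraMap i.Ring (Localization.Away t) (a * e₀) :=
      IsLocalization.mk'_spec _ _ _
    have e2 := congrArg (awayToLoc i.pt t hu) e1
    rw [map_mul, awayToLoc_algebraMap, awayToLoc_algebraMap] at e2
    rw [e2]
    have e3 : IsLocalization.mk' i.Loc a s * algebraMap i.Ring i.Loc (s : i.Ring) =
        algebraMap i.Ring i.Loc a := IsLocalization.mk'_spec _ _ _
    rw [show t = (s : i.Ring) * e₀ from rfl, map_mul, map_mul, ← mul_assoc, e3]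
  simp only [AlgHom.comp_apply]
  rw [h1, H.ofₐ_apply, hy]
  exact e.apply_symm_apply x

end Colimit

end Groth.Agent.H8.PairHens
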