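import Mathlib
import Groth.Agent.Lib.Helper8.PairHens.Colimit

open TensorProduct Polynomial

namespace Groth.Agent.H8.PairHens

universe u

section BaseQuot

variable {A : Type u} [CommRing A] (I : Ideal A)
  {R : Type u} [CommRing R] [Algebra A R]
  {B : Type u} [CommRing B] [Algebra R B] [Algebra A B] [IsScalarTower A R B]

theorem map_pow_tower (r : ℕ) :
    ((I.map (algebraMap A R)) ^ r).map (algebraMap R B) = (I ^ r).map (algebraMap A B) := by
  rw [← Ideal.map_pow, Ideal.map_map, ← IsScalarTower.algebraMap_eq]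

theorem map_pow_tower' (r : ℕ) :
    ((I ^ r).map (algebraMap A R)).map (algebraMap R B) = (I ^ r).map (algebraMap A B) := by
  rw [Ideal.map_map, ← IsScalarTower.algebraMap_eq]

variable {I}

/-- The comparison map `R/I^r R → B/I^r B`. -/
noncomputable def quotPowHom (r : ℕ) :
    (R ⧸ (I ^ r).map (algebraMap A R)) →ₐ[A ⧸ I ^ r] (B ⧸ (I ^ r).map (algebraMap A B)) :=
  { Ideal.quotientMap ((I ^ r).map (algebraMap A B)) (algebraMap R B) (by
      rw [← Ideal.map_le_iff_le_comap, map_pow_tower']) with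
    commutes' := fun x => by
      obtain ⟨a, rfl⟩ := Ideal.Quotient.mk_surjective x
      change Ideal.quotientMap _ (algebraMap R B) _ (algebraMap (A ⧸ I ^ r) _ _) = _
      rw [Ideal.Quotient.algebraMap_quotient_map_quotient,
        Ideal.Quotient.algebraMap_quotient_map_quotient, Ideal.quotientMap_mk,
        ← IsScalarTower.algebraMap_apply] }

theorem quotPowHom_mk (r : ℕ) (x : R) :
    quotPowHom (I := I) (B := B) r (Ideal.Quotient.mk _ x) =
      Ideal.Quotient.mk _ (algebraMap R B x) := rfl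

/-- For a henselization `B` of `(R, IR)`, `R/I^r R → B/I^r B` is bijective. -/
theorem quotPowHom_bijective (hB : Hens2.IsPairHenselization R (I.map (algebraMap A R)) B)
    (r : ℕ) : Function.Bijective (quotPowHom (I := I) (R := R) (B := B) r) := by
  constructor
  · rw [injective_iff_map_eq_zero]
    intro x hx
    obtain ⟨a, rfl⟩ := Ideal.Quotient.mk_surjective x
    rw [quotPowHom_mk, Ideal.Quotient.eq_zero_iff_mem, ← map_pow_tower (R := R)] at hx
    rw [Ideal.Quotient.eq_zero_iff_mem, Ideal.map_pow]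
    exact mem_pow_of_algebraMap_mem hB r a hx
  · intro y
    obtain ⟨z, rfl⟩ := Ideal.Quotient.mk_surjective y
    obtain ⟨a, ha⟩ := exists_sub_mem_pow (exists_sub_mem_of_isPairHenselization hB) r z
    refine ⟨Ideal.Quotient.mk _ a, ?_⟩
    rw [quotPowHom_mk, eq_comm, Ideal.Quotient.eq, ← map_pow_tower (R := R)]
    exact ha

/-- The isomorphism `R/I^r R ≅ B/I^r B`. -/
noncomputable def quotPowEquiv (hB : Hens2.IsPairHenselization R (I.map (algebraMap A R)) B)
    (r : ℕ) :
    (R ⧸ (I ^ r).map (algebraMap A R)) ≃ₐ[A ⧸ I ^ r] (B ⧸ (I ^ r).map (algebraMap A B)) :=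
  AlgEquiv.ofBijective (quotPowHom r) (quotPowHom_bijective hB r)

theorem flat_of_tower [Module.Flat A R]
    (hB : Hens2.IsPairHenselization R (I.map (algebraMap A R)) B) : Module.Flat A B :=
  haveI := flat_of_isPairHenselization hB
  Module.Flat.trans A R B

theorem etale_quotient_pow [Algebra.Etale A R]
    (hB : Hens2.IsPairHenselization R (I.map (algebraMap A R)) B) (r : ℕ) :
    Algebra.Etale (A ⧸ I ^ r) (B ⧸ (I ^ r).map (algebraMap A B)) := by
  haveI : Algebra.Etale (A ⧸ I ^ r) (R ⧸ (I ^ r).map (algebraMap A R)) :=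
    Algebra.Etale.of_equiv (Algebra.TensorProduct.quotIdealMapEquivQuotTensor R (I ^ r)).symm
  exact Algebra.Etale.of_equiv (quotPowEquiv hB r)

theorem smooth_quotient_pow [Algebra.Smooth A R]
    (hB : Hens2.IsPairHenselization R (I.map (algebraMap A R)) B) (r : ℕ) :
    Algebra.Smooth (A ⧸ I ^ r) (B ⧸ (I ^ r).map (algebraMap A B)) := by
  haveI : Algebra.Smooth (A ⧸ I ^ r) (R ⧸ (I ^ r).map (algebraMap A R)) :=
    Algebra.Smooth.of_equiv (Algebra.TensorProduct.quotIdealMapEquivQuotTensor R (I ^ r)).symm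
  exact Algebra.Smooth.of_equiv (quotPowEquiv hB r)

end BaseQuot

end Groth.Agent.H8.PairHens
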