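import Mathlib
import Groth.Agent.Lib.Helper8.PairHens.BaseQuot

open TensorProduct Polynomial

namespace Groth.Agent.H8.PairHens

universe u

section Maps

variable {A : Type u} [CommRing A] {I : Ideal A}
  {R : Type u} [CommRing R] [Algebra A R]
  {B : Type u} [CommRing B] [Algebra R B] [Algebra A B] [IsScalarTower A R B]

theorem map_tower_eq : (I.map (algebraMap A R)).map (algebraMap R B) = I.map (algebraMap A B) := by
  rw [Ideal.map_map, ← IsScalarTower.algebraMap_eq]

/-- Ring maps out of a henselization of `(R, IR)` into a henselian pair `(B', IB')` are determined by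
their restriction to `R`. -/
theorem algHom_ext_of_comp_eq (hB : Hens2.IsPairHenselization R (I.map (algebraMap A R)) B)
    {B' : Type u} [CommRing B'] [Algebra A B'] [hB' : HenselianRing B' (I.map (algebraMap A B'))]
    (φ ψ : B →ₐ[A] B')
    (h : φ.comp (IsScalarTower.toAlgHom A R B) = ψ.comp (IsScalarTower.toAlgHom A R B)) :
    φ = ψ := by
  have hle : (I.map (algebraMap A R)).map
      ((φ.comp (IsScalarTower.toAlgHom A R B) : R →ₐ[A] B') : R →+* B') ≤
      I.map (algebraMap A B') := by
    rw [Ideal.map_map]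
    have : ((φ.comp (IsScalarTower.toAlgHom A R B) : R →ₐ[A] B') : R →+* B').comp
        (algebraMap A R) = algebraMap A B' := by
      ext a
      exact (φ.comp (IsScalarTower.toAlgHom A R B)).commutes a
    rw [this]
  obtain ⟨g, -, hg⟩ := hB.2 B' _ _ hB' hle
  have h1 : (φ : B →+* B') = g := hg _ (by ext r; rfl)
  have h2 : (ψ : B →+* B') = g := hg _ (by
    ext r
    exact (congrArg (fun w => w r) h).symm)
  ext b
  exact congrArg (fun w => w b) (h1.trans h2.symm)

/-- Extension of an algebra map `R → B'` to the henselization. -/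
theorem exists_algHom_extension (hB : Hens2.IsPairHenselization R (I.map (algebraMap A R)) B)
    {B' : Type u} [CommRing B'] [Algebra A B'] [hB' : HenselianRing B' (I.map (algebraMap A B'))]
    (φR : R →ₐ[A] B') :
    ∃ φ : B →ₐ[A] B', φ.comp (IsScalarTower.toAlgHom A R B) = φR := by
  have hcomp : (φR : R →+* B').comp (algebraMap A R) = algebraMap A B' := by
    ext a
    exact φR.commutes a
  have hle : (I.map (algebraMap A R)).map (φR : R →+* B') ≤ I.map (algebraMap A B') := by
    rw [Ideal.map_map, hcomp]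
  obtain ⟨g, hg, -⟩ := hB.2 B' _ _ hB' hle
  refine ⟨{ g with commutes' := fun a => ?_ }, ?_⟩
  · change g (algebraMap A B a) = _
    rw [IsScalarTower.algebraMap_apply A R B]
    have := congrArg (fun w => w (algebraMap A R a)) hg
    simp only [RingHom.comp_apply] at this
    rw [this]
    exact φR.commutes a
  · ext r
    exact congrArg (fun w => w r) hg

theorem algHom_ext_of_tower [Algebra.FormallyUnramified A R] [Algebra.EssFiniteType A R]
    (hB : Hens2.IsPairHenselization R (I.map (algebraMap A R)) B)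
    {B' : Type u} [CommRing B'] [Algebra A B'] [hB' : HenselianRing B' (I.map (algebraMap A B'))]
    (φ ψ : B →ₐ[A] B') (h : ∀ b, φ b - ψ b ∈ I.map (algebraMap A B')) : φ = ψ := by
  apply algHom_ext_of_comp_eq hB
  exact HensPair.algHom_ext_of_unramified _ hB'.jac _ _ (fun r => h _)

theorem exists_algHom_of_tower [Algebra.Etale A R]
    (hB : Hens2.IsPairHenselization R (I.map (algebraMap A R)) B)
    {B' : Type u} [CommRing B'] [Algebra A B'] [hB' : HenselianRing B' (I.map (algebraMap A B'))]
    (χ : (B ⧸ I.map (algebraMap A B)) →ₐ[A] (B' ⧸ I.map (algebraMap A B'))) :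
    ∃ φ : B →ₐ[A] B', ∀ b : B,
      Ideal.Quotient.mk (I.map (algebraMap A B')) (φ b) =
        χ (Ideal.Quotient.mk (I.map (algebraMap A B)) b) := by
  let χR : R →ₐ[A] B' ⧸ I.map (algebraMap A B') :=
    χ.comp ((Ideal.Quotient.mkₐ A _).comp (IsScalarTower.toAlgHom A R B))
  obtain ⟨φR, hφR⟩ := HensPair.exists_algHom_lift I χR
  obtain ⟨φ, hφ⟩ := exists_algHom_extension hB φR
  refine ⟨φ, fun b => ?_⟩
  obtain ⟨r, hr⟩ := exists_sub_mem_of_isPairHenselization hB b
  rw [map_tower_eq] at hr
  have h1 : φ (b - algebraMap R B r) ∈ I.map (algebraMap A B') := by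
    have := Ideal.mem_map_of_mem (φ : B →+* B') hr
    rw [Ideal.map_map] at this
    have e : (φ : B →+* B').comp (algebraMap A B) = algebraMap A B' := by
      ext a
      exact φ.commutes a
    rwa [e] at this
  have h2 : φ (algebraMap R B r) = φR r := congrArg (fun w => w r) hφ
  have h3 : Ideal.Quotient.mk (I.map (algebraMap A B)) b =
      Ideal.Quotient.mk (I.map (algebraMap A B)) (algebraMap R B r) :=
    Ideal.Quotient.eq.mpr hr
  rw [h3]
  have h4 : Ideal.Quotient.mk (I.map (algebraMap A B')) (φ b) =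
      Ideal.Quotient.mk (I.map (algebraMap A B')) (φ (algebraMap R B r)) := by
    rw [Ideal.Quotient.eq, ← map_sub]
    exact h1
  rw [h4, h2, hφR]
  rfl

end Maps

section Away

variable (A : Type u) [CommRing A] (I : Ideal A) (f₁ f₂ : A)
    (h : (PrimeSpectrum.basicOpen f₂ : Set (PrimeSpectrum A)) ∩ PrimeSpectrum.zeroLocus (I : Set A) ⊆
      (PrimeSpectrum.basicOpen f₁ : Set (PrimeSpectrum A)) ∩ PrimeSpectrum.zeroLocus (I : Set A))
    (H₁ : Type u) [CommRing H₁] [Algebra (Localization.Away f₁) H₁] [Algebra A H₁]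
    [IsScalarTower A (Localization.Away f₁) H₁]
    (hH₁ : Hens2.IsPairHenselization (Localization.Away f₁)
      (I.map (algebraMap A (Localization.Away f₁))) H₁)
    (H₂ : Type u) [CommRing H₂] [Algebra (Localization.Away f₂) H₂] [Algebra A H₂]
    [IsScalarTower A (Localization.Away f₂) H₂]
    (hH₂ : Hens2.IsPairHenselization (Localization.Away f₂)
      (I.map (algebraMap A (Localization.Away f₂))) H₂)

include h hH₂ in
theorem isUnit_algebraMap_of_basicOpen_subset : IsUnit (algebraMap A H₂ f₁) := by
  have hJ : HenselianRing H₂ (I.map (algebraMap A H₂)) := by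
    rw [← map_tower_eq (R := Localization.Away f₂)]
    exact hH₂.1
  by_contra hnu
  obtain ⟨m, hm, hfm⟩ := exists_max_ideal_of_mem_nonunits hnu
  have hJm : I.map (algebraMap A H₂) ≤ m :=
    le_trans hJ.jac (sInf_le ⟨bot_le, hm⟩)
  haveI : m.IsPrime := hm.isPrime
  let p : PrimeSpectrum A := ⟨m.comap (algebraMap A H₂), inferInstance⟩
  have hp : p ∈ (PrimeSpectrum.basicOpen f₂ : Set (PrimeSpectrum A)) ∩
      PrimeSpectrum.zeroLocus (I : Set A) := by
    constructor
    · show f₂ ∉ m.comap (algebraMap A H₂)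
      rw [Ideal.mem_comap]
      intro hf
      have hu : IsUnit (algebraMap A H₂ f₂) := by
        rw [IsScalarTower.algebraMap_apply A (Localization.Away f₂) H₂]
        exact (IsLocalization.Away.algebraMap_isUnit f₂).map _
      exact hm.ne_top (Ideal.eq_top_of_isUnit_mem _ hf hu)
    · rw [PrimeSpectrum.mem_zeroLocus]
      intro a ha
      exact hJm (Ideal.mem_map_of_mem _ ha)
  exact (h hp).1 hfm

include h hH₁ hH₂ in
theorem unique_algHom_of_basicOpen_subset :
    Nonempty (H₁ →ₐ[A] H₂) ∧ Subsingleton (H₁ →ₐ[A] H₂) := by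
  have hJ : HenselianRing H₂ (I.map (algebraMap A H₂)) := by
    rw [← map_tower_eq (R := Localization.Away f₂)]
    exact hH₂.1
  have hu := isUnit_algebraMap_of_basicOpen_subset A I f₁ f₂ h H₂ hH₂
  let ℓ : Localization.Away f₁ →ₐ[A] H₂ :=
    IsLocalization.liftAlgHom (M := Submonoid.powers f₁) (f := Algebra.ofId A H₂) (by
      rintro ⟨_, n, rfl⟩
      rw [map_pow]
      exact hu.pow n)
  constructor
  · obtain ⟨φ, -⟩ := exists_algHom_extension hH₁ ℓ
    exact ⟨φ⟩
  · constructor
    intro φ ψ
    apply algHom_ext_of_comp_eq hH₁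
    apply AlgHom.coe_ringHom_injective
    apply IsLocalization.ringHom_ext (Submonoid.powers f₁)
    ext a
    simp

end Away

end Groth.Agent.H8.PairHens
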