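import Mathlib
import Groth.Agent.Lib.Helper8.PairHens.Maps
import Groth.Agent.S0526

open TensorProduct Polynomial

namespace Groth.Agent.H8.PairHens

universe u

section Quotient

variable {R : Type u} [CommRing R] {J : Ideal R} {B : Type u} [CommRing B] [Algebra R B]

/-- A surjective image of a henselian pair is henselian. -/
theorem henselianRing_map_of_surjective {B' : Type u} [CommRing B'] (K : Ideal B)
    [HenselianRing B K] (p : B →+* B') (hp : Function.Surjective p) :
    HenselianRing B' (K.map p) := by
  letI : Algebra B B' := p.toAlgebra
  haveI : Algebra.IsIntegral B B' := Algebra.isIntegral_of_surjective hp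
  exact Groth.Agent.S0526.result B K B'

/-- Henselization is compatible with surjections: if `B` is a henselization of `(R, J)`,
`q : R → R'` and `p : B → B'` are compatible surjections with `ker p = (ker q) B`, then `B'` is a
henselization of `(R', J R')`. -/
theorem isPairHenselization_of_surjective (hB : Hens2.IsPairHenselization R J B)
    {R' : Type u} [CommRing R'] {B' : Type u} [CommRing B'] [Algebra R' B']
    (q : R →+* R') (hq : Function.Surjective q) (p : B →+* B') (hp : Function.Surjective p)
    (hcomm : p.comp (algebraMap R B) = (algebraMap R' B').comp q)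
    (hker : RingHom.ker p = (RingHom.ker q).map (algebraMap R B)) :
    Hens2.IsPairHenselization R' (J.map q) B' := by
  refine ⟨?_, ?_⟩
  · haveI := hB.1
    have := henselianRing_map_of_surjective (J.map (algebraMap R B)) p hp
    rwa [Ideal.map_map, hcomm, ← Ideal.map_map] at this
  · intro C _ J' f' hC hf'
    have hle : J.map (f'.comp q) ≤ J' := by rw [← Ideal.map_map]; exact hf'
    obtain ⟨g, hg, huniq⟩ := hB.2 C J' (f'.comp q) hC hle
    have hgker : RingHom.ker p ≤ RingHom.ker g := by
      rw [hker, Ideal.map_le_iff_le_comap]
      intro x hx
      rw [Ideal.mem_comap, RingHom.mem_ker]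
      have h1 : g (algebraMap R B x) = f' (q x) := congrArg (fun w => w x) hg
      rw [h1, RingHom.mem_ker.mp hx, map_zero]
    refine ⟨p.liftOfSurjective hp ⟨g, hgker⟩, ?_, ?_⟩
    · apply RingHom.cancel_right hq |>.mp
      rw [RingHom.comp_assoc, ← hcomm, ← RingHom.comp_assoc, RingHom.liftOfSurjective_comp]
      exact hg
    · intro g' hg'
      apply RingHom.eq_liftOfSurjective
      apply huniq
      show (g'.comp p).comp (algebraMap R B) = f'.comp q
      rw [RingHom.comp_assoc, hcomm, ← RingHom.comp_assoc, hg']

end Quotient

end Groth.Agent.H8.PairHens
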