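import Mathlib
import Groth.Agent.Lib.Helper8.PairHens.Quotient

open TensorProduct Polynomial

namespace Groth.Agent.H8.PairHens

universe u

section Finset

variable {A : Type u} [CommRing A] {I : Ideal A} {B : Type u} [CommRing B] [Algebra A B]

theorem isoMod_self : IsoMod I A := by
  refine isoMod_of_section (Ideal.Quotient.mkₐ A I) ?_
  intro x hx
  rw [Ideal.Quotient.mkₐ_eq_mk, Ideal.Quotient.eq_zero_iff_mem] at hx
  simpa using hx

/-- Finitely many elements of the henselization come from a single étale algebra with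
`A/I ≅ A'/IA'`. -/
theorem exists_isoMod_of_finset (hB : Hens2.IsPairHenselization A I B) (s : Finset B) :
    ∃ (A' : Type u) (_ : CommRing A') (_ : Algebra A A') (_ : Algebra.Etale A A'),
      IsoMod I A' ∧ ∃ (φ : A' →ₐ[A] B), ∀ x ∈ s, x ∈ Set.range φ := by
  classical
  induction s using Finset.induction with
  | empty =>
    exact ⟨A, inferInstance, inferInstance, inferInstance, isoMod_self, Algebra.ofId A B, by simp⟩
  | insert a s _ ih =>
    obtain ⟨E₁, _, _, _, h₁, φ₁, hφ₁⟩ := ih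
    obtain ⟨E₂, _, _, _, h₂, φ₂, t, ht⟩ := exists_isoMod_of_mem hB a
    obtain ⟨E₃, _, _, _, h₃, ⟨α₁⟩, ⟨α₂⟩⟩ := isoMod_directed E₁ E₂ h₁ h₂
    obtain ⟨φ₃⟩ := exists_algHom_of_isoMod hB E₃ h₃
    have e1 : φ₃.comp α₁ = φ₁ := algHom_ext_of_isoMod hB E₁ h₁ _ _
    have e2 : φ₃.comp α₂ = φ₂ := algHom_ext_of_isoMod hB E₂ h₂ _ _
    refine ⟨E₃, inferInstance, inferInstance, inferInstance, h₃, φ₃, ?_⟩
    intro x hx
    rw [Finset.mem_insert] at hx
    rcases hx with rfl | hx
    · exact ⟨α₂ t, by rw [← ht, ← e2]; rfl⟩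
    · obtain ⟨y, hy⟩ := hφ₁ x hx
      exact ⟨α₁ y, by rw [← hy, ← e1]; rfl⟩

end Finset

end Groth.Agent.H8.PairHens
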