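import Mathlib
import Groth.Agent.Lib.Helper8.PairHens.FinsetDescent

open TensorProduct Polynomial

namespace Groth.Agent.H8.PairHens

universe u

section HFP

variable (A : Type u) [CommRing A] (I : Ideal A) (B : Type u) [CommRing B] [Algebra A B]

/-- (ii) ⟹ (i): a henselization of a finitely presented algebra is a quotient of a henselized
polynomial ring by a finitely generated ideal. -/
theorem exists_mvPolynomial_of_hfp
    (R : Type u) [CommRing R] [Algebra A R] [Algebra R B] [IsScalarTower A R B]
    [Algebra.FinitePresentation A R]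
    (hB : Hens2.IsPairHenselization R (I.map (algebraMap A R)) B) :
    ∃ (n : ℕ) (P : Type u) (_ : CommRing P) (_ : Algebra (MvPolynomial (Fin n) A) P)
      (_ : Algebra A P) (_ : IsScalarTower A (MvPolynomial (Fin n) A) P),
      Hens2.IsPairHenselization (MvPolynomial (Fin n) A)
        (I.map (algebraMap A (MvPolynomial (Fin n) A))) P ∧
      ∃ φ : P →ₐ[A] B, Function.Surjective φ ∧ (RingHom.ker φ).FG := by
  obtain ⟨n, f, hf, hker⟩ := Algebra.FinitePresentation.out (R := A) (A := R)
  let Pn := MvPolynomial (Fin n) A
  let Jn : Ideal Pn := I.map (algebraMap A Pn)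
  let P := Hp Pn Jn
  letI : Algebra A P := ((algebraMap Pn P).comp (algebraMap A Pn)).toAlgebra
  haveI : IsScalarTower A Pn P := IsScalarTower.of_algebraMap_eq (fun _ => rfl)
  have hP : Hens2.IsPairHenselization Pn Jn P := isPairHenselization Pn Jn
  let K : Ideal P := (RingHom.ker f.toRingHom).map (algebraMap Pn P)
  let P' := P ⧸ K
  have hle : RingHom.ker f.toRingHom ≤
      RingHom.ker ((Ideal.Quotient.mk K).comp (algebraMap Pn P)) := by
    intro x hx
    rw [RingHom.mem_ker, RingHom.comp_apply, Ideal.Quotient.eq_zero_iff_mem]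
    exact Ideal.mem_map_of_mem _ hx
  letI : Algebra R P' :=
    (f.toRingHom.liftOfSurjective hf ⟨(Ideal.Quotient.mk K).comp (algebraMap Pn P), hle⟩).toAlgebra
  have hcomm : (Ideal.Quotient.mk K).comp (algebraMap Pn P) =
      (algebraMap R P').comp f.toRingHom :=
    (RingHom.liftOfSurjective_comp f.toRingHom hf ⟨_, hle⟩).symm
  have hP' : Hens2.IsPairHenselization R (Jn.map f.toRingHom) P' :=
    isPairHenselization_of_surjective hP f.toRingHom hf (Ideal.Quotient.mk K)
      Ideal.Quotient.mk_surjective hcomm (by rw [Ideal.mk_ker])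
  have hJ : Jn.map f.toRingHom = I.map (algebraMap A R) := by
    rw [Ideal.map_map]
    congr 1
    ext a
    exact f.commutes a
  rw [hJ] at hP'
  obtain ⟨e⟩ := nonempty_algEquiv_of_isPairHenselization hP' hB
  let φ : P →ₐ[A] B :=
    { (e : P' →+* B).comp (Ideal.Quotient.mk K) with
      commutes' := fun a => by
        change e (Ideal.Quotient.mk K (algebraMap Pn P (algebraMap A Pn a))) = _
        have h1 : Ideal.Quotient.mk K (algebraMap Pn P (algebraMap A Pn a)) =
            algebraMap R P' (f (algebraMap A Pn a)) :=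
          congrArg (fun w : Pn →+* P' => w (algebraMap A Pn a)) hcomm
        rw [h1, e.commutes, f.commutes, ← IsScalarTower.algebraMap_apply] }
  refine ⟨n, P, inferInstance, inferInstance, inferInstance, inferInstance, hP, φ, ?_, ?_⟩
  · intro b
    obtain ⟨x, hx⟩ := e.surjective b
    obtain ⟨y, rfl⟩ := Ideal.Quotient.mk_surjective x
    exact ⟨y, hx⟩
  · have : RingHom.ker φ = K := by
      ext x
      rw [RingHom.mem_ker]
      change e (Ideal.Quotient.mk K x) = 0 ↔ _
      rw [map_eq_zero_iff _ e.injective, Ideal.Quotient.eq_zero_iff_mem]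
    rw [this]
    exact hker.map _

/-- A quotient of a henselization of a finitely presented algebra by a finitely generated ideal
is again a henselization of a finitely presented algebra. -/
theorem exists_hfp_of_surjective
    (R₀ : Type u) [CommRing R₀] [Algebra A R₀] [Algebra.FinitePresentation A R₀]
    (P : Type u) [CommRing P] [Algebra R₀ P] [Algebra A P] [IsScalarTower A R₀ P]
    (hP : Hens2.IsPairHenselization R₀ (I.map (algebraMap A R₀)) P)
    (φ : P →ₐ[A] B) (hφ : Function.Surjective φ) (hker : (RingHom.ker φ).FG) :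
    ∃ (R : Type u) (_ : CommRing R) (_ : Algebra A R) (_ : Algebra R B) (_ : IsScalarTower A R B),
      Algebra.FinitePresentation A R ∧
        Hens2.IsPairHenselization R (I.map (algebraMap A R)) B := by
  classical
  obtain ⟨s, hs⟩ := hker
  obtain ⟨E, _, _, _, hiso, ψ, hψ⟩ := exists_isoMod_of_finset hP s
  letI : Algebra A E := ((algebraMap R₀ E).comp (algebraMap A R₀)).toAlgebra
  haveI : IsScalarTower A R₀ E := IsScalarTower.of_algebraMap_eq (fun _ => rfl)
  letI : Algebra E P := ψ.toRingHom.toAlgebra
  haveI : IsScalarTower R₀ E P := IsScalarTower.of_algebraMap_eq (fun x => (ψ.commutes x).symm)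
  have hPE : Hens2.IsPairHenselization E ((I.map (algebraMap A R₀)).map (algebraMap R₀ E)) P :=
    isPairHenselization_of_isoMod hP E hiso
  let g : P → E := fun x => if h : x ∈ s then (hψ x h).choose else 0
  have hg : ∀ x ∈ s, ψ (g x) = x := by
    intro x hx
    simp only [g, dif_pos hx]
    exact (hψ x hx).choose_spec
  let s' : Finset E := s.image g
  let KE : Ideal E := Ideal.span (s' : Set E)
  let R := E ⧸ KE
  haveI : Algebra.FinitePresentation R₀ E := inferInstance
  haveI : Algebra.FinitePresentation A E := Algebra.FinitePresentation.trans A R₀ E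
  haveI : Algebra.FinitePresentation A R :=
    Algebra.FinitePresentation.quotient ⟨s', rfl⟩
  have hkill : ∀ y ∈ KE, ((φ : P →+* B).comp (ψ : E →+* P)) y = 0 := by
    intro y hy
    have : KE ≤ RingHom.ker ((φ : P →+* B).comp (ψ : E →+* P)) := by
      rw [Ideal.span_le]
      intro z hz
      obtain ⟨x, hx, rfl⟩ := Finset.mem_image.mp hz
      rw [SetLike.mem_coe, RingHom.mem_ker, RingHom.comp_apply]
      change φ (ψ (g x)) = 0
      rw [hg x hx]
      have : x ∈ RingHom.ker φ := hs ▸ Ideal.subset_span hx
      exact this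
    exact this hy
  letI : Algebra R B := (Ideal.Quotient.lift KE _ hkill).toAlgebra
  haveI : IsScalarTower A R B := IsScalarTower.of_algebraMap_eq (fun a => by
    change algebraMap A B a = φ (ψ (algebraMap R₀ E (algebraMap A R₀ a)))
    rw [ψ.commutes, ← IsScalarTower.algebraMap_apply, φ.commutes])
  have hQ : Hens2.IsPairHenselization R
      (((I.map (algebraMap A R₀)).map (algebraMap R₀ E)).map (Ideal.Quotient.mk KE)) B := by
    refine isPairHenselization_of_surjective hPE (Ideal.Quotient.mk KE)
      Ideal.Quotient.mk_surjective (φ : P →+* B) hφ ?_ ?_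
    · ext y
      rfl
    · rw [Ideal.mk_ker]
      change RingHom.ker φ = KE.map (ψ : E →+* P)
      rw [Ideal.map_span, ← hs]
      congr 1
      ext x
      simp only [Finset.coe_image, Set.mem_image, SetLike.mem_coe, s']
      constructor
      · intro hx
        exact ⟨g x, ⟨x, hx, rfl⟩, hg x hx⟩
      · rintro ⟨_, ⟨y, hy, rfl⟩, rfl⟩
        have : (ψ : E →+* P) (g y) = y := hg y hy
        rw [this]
        exact hy
  have hJ : ((I.map (algebraMap A R₀)).map (algebraMap R₀ E)).map (Ideal.Quotient.mk KE) =
      I.map (algebraMap A R) := by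
    rw [Ideal.map_map, Ideal.map_map]
    rfl
  rw [hJ] at hQ
  exact ⟨R, inferInstance, inferInstance, inferInstance, inferInstance, inferInstance, hQ⟩

end HFP

end Groth.Agent.H8.PairHens
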