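import Mathlib
import Groth.Agent.Lib.Helper8.PairHens.HFP

open TensorProduct Polynomial

namespace Groth.Agent.H8.PairHens

universe u

section Surj

variable {R₁ : Type u} [CommRing R₁] {J₁ : Ideal R₁} {P : Type u} [CommRing P] [Algebra R₁ P]
  {R₂ : Type u} [CommRing R₂] {B : Type u} [CommRing B] [Algebra R₂ B]

/-- Functoriality of henselization along a surjection: the induced map is surjective with kernel
generated by the kernel of the surjection. -/
theorem exists_surjective_of_surjective (hP : Hens2.IsPairHenselization R₁ J₁ P)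
    (q : R₁ →+* R₂) (hq : Function.Surjective q)
    (hB : Hens2.IsPairHenselization R₂ (J₁.map q) B) :
    ∃ φ : P →+* B, φ.comp (algebraMap R₁ P) = (algebraMap R₂ B).comp q ∧
      Function.Surjective φ ∧ RingHom.ker φ = (RingHom.ker q).map (algebraMap R₁ P) := by
  let K : Ideal P := (RingHom.ker q).map (algebraMap R₁ P)
  let P' := P ⧸ K
  have hle : RingHom.ker q ≤ RingHom.ker ((Ideal.Quotient.mk K).comp (algebraMap R₁ P)) := by
    intro x hx
    rw [RingHom.mem_ker, RingHom.comp_apply, Ideal.Quotient.eq_zero_iff_mem]
    exact Ideal.mem_map_of_mem _ hx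
  letI : Algebra R₂ P' :=
    (q.liftOfSurjective hq ⟨(Ideal.Quotient.mk K).comp (algebraMap R₁ P), hle⟩).toAlgebra
  have hcomm : (Ideal.Quotient.mk K).comp (algebraMap R₁ P) = (algebraMap R₂ P').comp q :=
    (RingHom.liftOfSurjective_comp q hq ⟨_, hle⟩).symm
  have hP' : Hens2.IsPairHenselization R₂ (J₁.map q) P' :=
    isPairHenselization_of_surjective hP q hq (Ideal.Quotient.mk K)
      Ideal.Quotient.mk_surjective hcomm (by rw [Ideal.mk_ker])
  obtain ⟨e⟩ := nonempty_algEquiv_of_isPairHenselization hP' hB
  refine ⟨(e : P' →+* B).comp (Ideal.Quotient.mk K), ?_, ?_, ?_⟩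
  · rw [RingHom.comp_assoc, hcomm, ← RingHom.comp_assoc]
    congr 1
    ext x
    exact e.commutes x
  · intro b
    obtain ⟨x, hx⟩ := e.surjective b
    obtain ⟨y, rfl⟩ := Ideal.Quotient.mk_surjective x
    exact ⟨y, hx⟩
  · ext x
    rw [RingHom.mem_ker]
    change e (Ideal.Quotient.mk K x) = 0 ↔ _
    rw [map_eq_zero_iff _ e.injective, Ideal.Quotient.eq_zero_iff_mem]

end Surj

section Poly

variable {R : Type u} [CommRing R] {J : Ideal R} {B : Type u} [CommRing B] [Algebra R B]
  (σ : Type)

/-- Henselization commutes with adjoining polynomial variables: a henselization of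
`(B[Y], J B[Y])`, for `B` a henselization of `(R, J)`, is a henselization of `(R[Y], J R[Y])`. -/
theorem isPairHenselization_mvPolynomial (hB : Hens2.IsPairHenselization R J B)
    (C₁ : Type u) [CommRing C₁] [Algebra (MvPolynomial σ B) C₁] [Algebra (MvPolynomial σ R) C₁]
    (halg : algebraMap (MvPolynomial σ R) C₁ =
      (algebraMap (MvPolynomial σ B) C₁).comp (MvPolynomial.map (algebraMap R B)))
    (hC₁ : Hens2.IsPairHenselization (MvPolynomial σ B)
      ((J.map (algebraMap R B)).map MvPolynomial.C) C₁) :
    Hens2.IsPairHenselization (MvPolynomial σ R) (J.map MvPolynomial.C) C₁ := by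
  have hideal : (J.map (MvPolynomial.C (σ := σ))).map (algebraMap (MvPolynomial σ R) C₁) =
      ((J.map (algebraMap R B)).map (MvPolynomial.C (σ := σ))).map
        (algebraMap (MvPolynomial σ B) C₁) := by
    rw [halg, Ideal.map_map, Ideal.map_map, Ideal.map_map]
    congr 1
    ext x
    simp
  refine ⟨by rw [hideal]; exact hC₁.1, ?_⟩
  intro C' _ J' f hC' hf
  -- the restriction to `R`
  have hle : J.map (f.comp MvPolynomial.C) ≤ J' := by rw [← Ideal.map_map]; exact hf
  obtain ⟨β, hβ, hβuniq⟩ := hB.2 C' J' (f.comp MvPolynomial.C) hC' hle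
  let F : MvPolynomial σ B →+* C' := MvPolynomial.eval₂Hom β (fun i => f (MvPolynomial.X i))
  have hFC : F.comp MvPolynomial.C = β := by
    ext b
    simp [F]
  have hFmap : F.comp (MvPolynomial.map (algebraMap R B)) = f := by
    apply MvPolynomial.ringHom_ext
    · intro r
      have h1 : β (algebraMap R B r) = f (MvPolynomial.C r) := congrArg (fun w => w r) hβ
      simp [F, h1]
    · intro i
      simp [F]
  have hleF : ((J.map (algebraMap R B)).map (MvPolynomial.C (σ := σ))).map F ≤ J' := by
    rw [Ideal.map_map, hFC, Ideal.map_map, hβ]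
    exact hle
  obtain ⟨g, hg, hguniq⟩ := hC₁.2 C' J' F hC' hleF
  refine ⟨g, ?_, ?_⟩
  · show g.comp (algebraMap (MvPolynomial σ R) C₁) = f
    rw [halg, ← RingHom.comp_assoc, hg, hFmap]
  · intro g' hg'
    apply hguniq
    show g'.comp (algebraMap (MvPolynomial σ B) C₁) = F
    have hg'' : (g'.comp (algebraMap (MvPolynomial σ B) C₁)).comp
        (MvPolynomial.map (algebraMap R B)) = f := by
      rw [RingHom.comp_assoc, ← halg]; exact hg'
    apply MvPolynomial.ringHom_ext
    · intro b
      have h1 : (g'.comp (algebraMap (MvPolynomial σ B) C₁)).comp MvPolynomial.C = β := by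
        apply hβuniq
        show ((g'.comp (algebraMap (MvPolynomial σ B) C₁)).comp MvPolynomial.C).comp
          (algebraMap R B) = f.comp MvPolynomial.C
        rw [← hg'']
        ext r
        simp
      have h2 := congrArg (fun w => w b) h1
      simp only [RingHom.comp_apply] at h2
      simp only [RingHom.comp_apply]
      rw [h2]
      simp [F]
    · intro i
      have h2 := congrArg (fun w => w (MvPolynomial.X i)) hg''
      simp only [RingHom.comp_apply, MvPolynomial.map_X] at h2
      simp only [RingHom.comp_apply]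
      rw [h2]
      simp [F]

end Poly

section Comp

variable (A : Type u) [CommRing A] (I : Ideal A)
    (R : Type u) [CommRing R] [Algebra A R] [Algebra.FinitePresentation A R]
    (B : Type u) [CommRing B] [Algebra R B] [Algebra A B] [IsScalarTower A R B]
    (hB : Hens2.IsPairHenselization R (I.map (algebraMap A R)) B)
    (S : Type u) [CommRing S] [Algebra B S] [Algebra A S] [IsScalarTower A B S]
    [Algebra.FinitePresentation B S]
    (C : Type u) [CommRing C] [Algebra S C] [Algebra B C] [Algebra A C] [IsScalarTower B S C]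
    [IsScalarTower A B C]
    (hC : Hens2.IsPairHenselization S (I.map (algebraMap A S)) C)

include hB hC in
/-- Henselian finitely presented maps compose. -/
theorem exists_hfp_comp :
    ∃ (T : Type u) (_ : CommRing T) (_ : Algebra A T) (_ : Algebra T C) (_ : IsScalarTower A T C),
      Algebra.FinitePresentation A T ∧
        Hens2.IsPairHenselization T (I.map (algebraMap A T)) C := by
  obtain ⟨k, f, hf, hker⟩ := Algebra.FinitePresentation.out (R := B) (A := S)
  let Bk := MvPolynomial (Fin k) B
  let Rk := MvPolynomial (Fin k) R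
  let JR : Ideal R := I.map (algebraMap A R)
  let JBk : Ideal Bk := (JR.map (algebraMap R B)).map MvPolynomial.C
  let C₁ := Hp Bk JBk
  have hC₁ : Hens2.IsPairHenselization Bk JBk C₁ := isPairHenselization Bk JBk
  letI : Algebra Rk C₁ :=
    ((algebraMap Bk C₁).comp (MvPolynomial.map (algebraMap R B))).toAlgebra
  have hC₁R : Hens2.IsPairHenselization Rk (JR.map MvPolynomial.C) C₁ :=
    isPairHenselization_mvPolynomial (Fin k) hB C₁ rfl hC₁
  have hJRk : JR.map (MvPolynomial.C (σ := Fin k)) = I.map (algebraMap A Rk) := by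
    rw [Ideal.map_map]
    congr 1
  rw [hJRk] at hC₁R
  letI : Algebra A C₁ := ((algebraMap Bk C₁).comp (algebraMap A Bk)).toAlgebra
  haveI : IsScalarTower A Rk C₁ := IsScalarTower.of_algebraMap_eq (fun a => by
    change algebraMap Bk C₁ (algebraMap A Bk a) =
      algebraMap Bk C₁ (MvPolynomial.map (algebraMap R B) (algebraMap A Rk a))
    congr 1
    rw [MvPolynomial.algebraMap_apply, MvPolynomial.algebraMap_apply, MvPolynomial.map_C,
      ← IsScalarTower.algebraMap_apply])
  have hAS : ∀ a : A, algebraMap A C a = algebraMap S C (algebraMap A S a) := by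
    intro a
    rw [IsScalarTower.algebraMap_apply A B C, IsScalarTower.algebraMap_apply B S C,
      ← IsScalarTower.algebraMap_apply A B S]
  have hJS : JBk.map f.toRingHom = I.map (algebraMap A S) := by
    rw [Ideal.map_map, Ideal.map_map, Ideal.map_map]
    congr 1
    ext a
    simp only [RingHom.comp_apply]
    change f (MvPolynomial.C (algebraMap R B (algebraMap A R a))) = _
    rw [← IsScalarTower.algebraMap_apply A R B, ← MvPolynomial.algebraMap_eq, f.commutes,
      ← IsScalarTower.algebraMap_apply]
  have hC' : Hens2.IsPairHenselization S (JBk.map f.toRingHom) C := by rw [hJS]; exact hC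
  obtain ⟨φ, hφ1, hφ2, hφ3⟩ := exists_surjective_of_surjective hC₁ f.toRingHom hf hC'
  let φA : C₁ →ₐ[A] C :=
    { φ with
      commutes' := fun a => by
        change φ (algebraMap Bk C₁ (algebraMap A Bk a)) = _
        have h1 : φ (algebraMap Bk C₁ (algebraMap A Bk a)) =
            algebraMap S C (f (algebraMap A Bk a)) :=
          congrArg (fun w : Bk →+* C => w (algebraMap A Bk a)) hφ1
        rw [h1, hAS, IsScalarTower.algebraMap_apply A B Bk, f.commutes,
          ← IsScalarTower.algebraMap_apply A B S] }
  haveI : Algebra.FinitePresentation A Rk := Algebra.FinitePresentation.trans A R Rk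
  have hFG : (RingHom.ker φA).FG := by
    have : RingHom.ker φA = (RingHom.ker f.toRingHom).map (algebraMap Bk C₁) := hφ3
    rw [this]
    exact hker.map _
  exact exists_hfp_of_surjective A I C Rk C₁ hC₁R φA hφ2 hFG

end Comp

end Groth.Agent.H8.PairHens
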