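import Mathlib
import Groth.Agent.Lib.Helper8.PairHens.HFPComp

open TensorProduct Polynomial

namespace Groth.Agent.H8.PairHens

universe u

section Cancel

variable (A : Type u) [CommRing A] (I : Ideal A)
    (R : Type u) [CommRing R] [Algebra A R] [Algebra.FiniteType A R]
    (B : Type u) [CommRing B] [Algebra R B] [Algebra A B] [IsScalarTower A R B]
    (hB : Hens2.IsPairHenselization R (I.map (algebraMap A R)) B)
    (S : Type u) [CommRing S] [Algebra A S] [Algebra.FinitePresentation A S]
    (C : Type u) [CommRing C] [Algebra S C] [Algebra A C] [IsScalarTower A S C]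
    (hC : Hens2.IsPairHenselization S (I.map (algebraMap A S)) C)
    [Algebra B C] [IsScalarTower A B C]

include hB hC in
/-- Cancellation for henselian finitely presented maps. -/
theorem exists_hfp_cancel :
    ∃ (T : Type u) (_ : CommRing T) (_ : Algebra B T) (_ : Algebra T C) (_ : IsScalarTower B T C),
      Algebra.FinitePresentation B T ∧
      Hens2.IsPairHenselization T ((I.map (algebraMap A B)).map (algebraMap B T)) C := by
  classical
  obtain ⟨n, fR, hfR⟩ := Algebra.FiniteType.iff_quotient_mvPolynomial''.mp
    (inferInstance : Algebra.FiniteType A R)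
  let x : Fin n → R := fun k => fR (MvPolynomial.X k)
  let c' : Fin n → C := fun k => algebraMap B C (algebraMap R B (x k))
  obtain ⟨E, _, _, _, hiso, ψE, hψE⟩ := exists_isoMod_of_finset hC (Finset.univ.image c')
  choose c hc using fun k => hψE (c' k) (Finset.mem_image_of_mem _ (Finset.mem_univ k))
  letI : Algebra A E := ((algebraMap S E).comp (algebraMap A S)).toAlgebra
  haveI : IsScalarTower A S E := IsScalarTower.of_algebraMap_eq (fun _ => rfl)
  haveI : Algebra.FinitePresentation S E := inferInstance
  haveI : Algebra.FinitePresentation A E := Algebra.FinitePresentation.trans A S E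
  letI : Algebra E C := ψE.toRingHom.toAlgebra
  haveI : IsScalarTower S E C := IsScalarTower.of_algebraMap_eq (fun s => (ψE.commutes s).symm)
  haveI : IsScalarTower A E C := IsScalarTower.of_algebraMap_eq (fun a => by
    change algebraMap A C a = ψE (algebraMap S E (algebraMap A S a))
    rw [ψE.commutes, ← IsScalarTower.algebraMap_apply])
  have hCE : Hens2.IsPairHenselization E ((I.map (algebraMap A S)).map (algebraMap S E)) C :=
    isPairHenselization_of_isoMod hC E hiso
  have hJE : (I.map (algebraMap A S)).map (algebraMap S E) = I.map (algebraMap A E) := by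
    rw [Ideal.map_map]; rfl
  rw [hJE] at hCE
  -- the algebra `T`
  let T₀ := B ⊗[A] E
  let ρ : Fin n → T₀ := fun k => (algebraMap R B (x k)) ⊗ₜ[A] (1 : E) - (1 : B) ⊗ₜ[A] c k
  let K : Ideal T₀ := Ideal.span (Set.range ρ)
  let T := T₀ ⧸ K
  haveI : Algebra.FinitePresentation B T :=
    Algebra.FinitePresentation.quotient (Submodule.fg_span (Set.finite_range ρ))
  let μ : T₀ →ₐ[A] C := Algebra.TensorProduct.productMap
    (IsScalarTower.toAlgHom A B C) (IsScalarTower.toAlgHom A E C)
  have hμ : ∀ (b : B) (e : E), μ (b ⊗ₜ e) = algebraMap B C b * ψE e := fun b e => by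
    simp [μ]
    rfl
  have hkill : ∀ y ∈ K, (μ : T₀ →+* C) y = 0 := by
    intro y hy
    have : K ≤ RingHom.ker (μ : T₀ →+* C) := by
      rw [Ideal.span_le]
      rintro _ ⟨k, rfl⟩
      rw [SetLike.mem_coe, RingHom.mem_ker]
      change μ (ρ k) = 0
      simp only [ρ, map_sub, hμ, map_one, mul_one, one_mul, hc]
      exact sub_self _
    exact this hy
  letI : Algebra T C := (Ideal.Quotient.lift K (μ : T₀ →+* C) hkill).toAlgebra
  have hTC : ∀ t : T₀, algebraMap T C (Ideal.Quotient.mk K t) = μ t := fun t => rfl
  haveI : @IsScalarTower B T C Algebra.toSMul Algebra.toSMul Algebra.toSMul :=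
    IsScalarTower.of_algebraMap_eq (fun b => by
      change algebraMap B C b = μ (b ⊗ₜ 1)
      rw [hμ, map_one, mul_one])
  have hBT : ∀ b : B, algebraMap B T b = Ideal.Quotient.mk K (b ⊗ₜ 1) := fun b => rfl
  refine ⟨T, inferInstance, inferInstance, inferInstance, inferInstance, inferInstance, ?_, ?_⟩
  · have e1 : ((I.map (algebraMap A B)).map (algebraMap B T)).map (algebraMap T C) =
        (I.map (algebraMap A E)).map (algebraMap E C) := by
      rw [Ideal.map_map, Ideal.map_map, Ideal.map_map, ← IsScalarTower.algebraMap_eq B T C,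
        ← IsScalarTower.algebraMap_eq A B C, ← IsScalarTower.algebraMap_eq A E C]
    rw [e1]
    exact hCE.1
  · intro C' _ J' τ hC' hτ
    let β : B →+* C' := τ.comp (algebraMap B T)
    let ε : E →+* C' := τ.comp ((Ideal.Quotient.mk K).comp
      (Algebra.TensorProduct.includeRight : E →ₐ[A] T₀).toRingHom)
    have hε : ∀ e : E, ε e = τ (Ideal.Quotient.mk K ((1 : B) ⊗ₜ e)) := fun e => rfl
    have hβ : ∀ b : B, β b = τ (Ideal.Quotient.mk K (b ⊗ₜ (1 : E))) := fun b => rfl
    have hAA : ∀ a : A, ε (algebraMap A E a) = β (algebraMap A B a) := by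
      intro a
      rw [hε, hβ]
      congr 2
      rw [Algebra.algebraMap_eq_smul_one, Algebra.algebraMap_eq_smul_one, TensorProduct.smul_tmul]
    have hIβ : I.map (β.comp (algebraMap A B)) ≤ J' := by
      have : β.comp (algebraMap A B) = τ.comp ((algebraMap B T).comp (algebraMap A B)) := rfl
      rw [this, ← Ideal.map_map, ← Ideal.map_map]
      exact hτ
    have hIε : (I.map (algebraMap A E)).map ε ≤ J' := by
      rw [Ideal.map_map]
      have : ε.comp (algebraMap A E) = β.comp (algebraMap A B) := by
        ext a
        exact hAA a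
      rw [this]
      exact hIβ
    obtain ⟨γ, hγ, hγuniq⟩ := hCE.2 C' J' ε hC' hIε
    have hγE : ∀ e : E, γ (ψE e) = ε e := fun e => congrArg (fun w => w e) hγ
    -- `γ ∘ algebraMap B C = β`
    have hγB : γ.comp (algebraMap B C) = β := by
      have hle : (I.map (algebraMap A R)).map (β.comp (algebraMap R B)) ≤ J' := by
        rw [Ideal.map_map, RingHom.comp_assoc, ← IsScalarTower.algebraMap_eq]
        exact hIβ
      obtain ⟨g, -, hguniq⟩ := hB.2 C' J' (β.comp (algebraMap R B)) hC' hle
      rw [hguniq β rfl]
      apply hguniq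
      show (γ.comp (algebraMap B C)).comp (algebraMap R B) = β.comp (algebraMap R B)
      apply (RingHom.cancel_right (f := (fR : MvPolynomial (Fin n) A →+* R)) hfR).mp
      apply MvPolynomial.ringHom_ext
      · intro a
        simp only [RingHom.comp_apply, RingHom.coe_coe]
        rw [← MvPolynomial.algebraMap_eq, fR.commutes, ← IsScalarTower.algebraMap_apply A R B,
          ← IsScalarTower.algebraMap_apply A B C, ← hAA,
          IsScalarTower.algebraMap_apply A E C]
        exact hγE _
      · intro k
        simp only [RingHom.comp_apply, RingHom.coe_coe]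
        change γ (c' k) = β (algebraMap R B (x k))
        rw [← hc k, hγE, hε, hβ]
        congr 1
        rw [eq_comm, Ideal.Quotient.eq]
        exact Ideal.subset_span ⟨k, rfl⟩
    refine ⟨γ, ?_, ?_⟩
    · show γ.comp (algebraMap T C) = τ
      apply (RingHom.cancel_right (f := Ideal.Quotient.mk K) Ideal.Quotient.mk_surjective).mp
      refine RingHom.ext fun (t : B ⊗[A] E) => ?_
      simp only [RingHom.comp_apply]
      rw [hTC]
      induction t using TensorProduct.induction_on with
      | zero => simp
      | tmul b e =>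
        rw [hμ, map_mul]
        have h1 : γ (algebraMap B C b) = β b := congrArg (fun w => w b) hγB
        rw [h1, hγE, hβ, hε, ← map_mul, ← map_mul, Algebra.TensorProduct.tmul_mul_tmul,
          mul_one, one_mul]
      | add t₁ t₂ h₁ h₂ => rw [map_add, map_add, map_add, map_add, h₁, h₂]
    · intro γ' hγ'
      apply hγuniq
      show γ'.comp (algebraMap E C) = ε
      ext e
      have h1 : γ' (algebraMap T C (Ideal.Quotient.mk K ((1 : B) ⊗ₜ e))) =
          τ (Ideal.Quotient.mk K ((1 : B) ⊗ₜ e)) :=
        congrArg (fun w : T →+* C' => w _) hγ'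
      rw [hTC, hμ, map_one, one_mul] at h1
      exact h1

end Cancel

end Groth.Agent.H8.PairHens
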