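import Mathlib
import Groth.Agent.Lib.Helper8.PairHens.Quotient
import Groth.Agent.Lib.Helper8.HensPair.MultiHensel

open TensorProduct

namespace Groth.Agent.H8.PairHens

universe u

section CoeffIdeal

variable {A : Type*} [CommRing A] (I : Ideal A) {n : ℕ}

theorem eval_mem_of_mem_map_C {B : Type*} [CommRing B] [Algebra A B]
    (G : MvPolynomial (Fin n) A) (hG : G ∈ I.map (MvPolynomial.C (σ := Fin n)))
    (u : Fin n → B) : MvPolynomial.aeval u G ∈ I.map (algebraMap A B) := by
  have h1 : (MvPolynomial.aeval u : MvPolynomial (Fin n) A →ₐ[A] B) G ∈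
      (I.map (MvPolynomial.C (σ := Fin n))).map
        ((MvPolynomial.aeval u : MvPolynomial (Fin n) A →ₐ[A] B) : MvPolynomial (Fin n) A →+* B) :=
    Ideal.mem_map_of_mem _ hG
  rw [Ideal.map_map] at h1
  have h2 : ((MvPolynomial.aeval u : MvPolynomial (Fin n) A →ₐ[A] B) :
      MvPolynomial (Fin n) A →+* B).comp MvPolynomial.C = algebraMap A B := by
    ext a
    simp
  rwa [h2] at h1

theorem pderiv_mem_map_C (G : MvPolynomial (Fin n) A)
    (hG : G ∈ I.map (MvPolynomial.C (σ := Fin n))) (l : Fin n) :
    MvPolynomial.pderiv l G ∈ I.map (MvPolynomial.C (σ := Fin n)) := by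
  have e : (I.map (MvPolynomial.C (σ := Fin n))).restrictScalars A =
      I • (⊤ : Submodule A (MvPolynomial (Fin n) A)) := by
    rw [Ideal.smul_top_eq_map, MvPolynomial.algebraMap_eq]
  have hG' : G ∈ I • (⊤ : Submodule A (MvPolynomial (Fin n) A)) := by
    rw [← e]; exact hG
  have : MvPolynomial.pderiv l G ∈ I • (⊤ : Submodule A (MvPolynomial (Fin n) A)) := by
    refine Submodule.smul_induction_on hG' ?_ ?_
    · intro i hi p _
      rw [Derivation.map_smul]
      exact Submodule.smul_mem_smul hi Submodule.mem_top
    · intro x y hx hy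
      rw [map_add]
      exact Submodule.add_mem _ hx hy
  rw [← e] at this
  exact this

/-- Difference of values of a polynomial with coefficients in `I`. -/
theorem aeval_sub_aeval_mem {B : Type*} [CommRing B] [Algebra A B]
    (G : MvPolynomial (Fin n) A) (hG : G ∈ I.map (MvPolynomial.C (σ := Fin n)))
    (u v : Fin n → B) :
    MvPolynomial.aeval u G - MvPolynomial.aeval v G ∈
      I.map (algebraMap A B) * Ideal.span (Set.range fun l => u l - v l) := by
  set D : Ideal B := Ideal.span (Set.range fun l => u l - v l) with hD
  -- every polynomial has difference in `D`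
  have key : ∀ p : MvPolynomial (Fin n) A,
      MvPolynomial.aeval u p - MvPolynomial.aeval v p ∈ D := by
    intro p
    rw [← Ideal.Quotient.eq]
    have h1 : ∀ w : Fin n → B, Ideal.Quotient.mk D (MvPolynomial.aeval w p) =
        MvPolynomial.aeval (fun l => Ideal.Quotient.mk D (w l)) p := by
      intro w
      have := MvPolynomial.aeval_algebraMap_apply (B ⧸ D) w p
      rw [Ideal.Quotient.algebraMap_eq] at this
      exact this.symm
    rw [h1, h1]
    have : (fun l => Ideal.Quotient.mk D (u l)) = fun l => Ideal.Quotient.mk D (v l) :=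
      funext fun l => Ideal.Quotient.eq.mpr (Ideal.subset_span ⟨l, rfl⟩)
    rw [this]
  have e : (I.map (MvPolynomial.C (σ := Fin n))).restrictScalars A =
      I • (⊤ : Submodule A (MvPolynomial (Fin n) A)) := by
    rw [Ideal.smul_top_eq_map, MvPolynomial.algebraMap_eq]
  have hG' : G ∈ I • (⊤ : Submodule A (MvPolynomial (Fin n) A)) := by
    rw [← e]; exact hG
  refine Submodule.smul_induction_on hG' ?_ ?_
  · intro i hi p _
    rw [map_smul, map_smul, ← smul_sub, Algebra.smul_def]
    exact Ideal.mul_mem_mul (Ideal.mem_map_of_mem _ hi) (key p)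
  · intro x y hx hy
    have : MvPolynomial.aeval u (x + y) - MvPolynomial.aeval v (x + y) =
        (MvPolynomial.aeval u x - MvPolynomial.aeval v x) +
        (MvPolynomial.aeval u y - MvPolynomial.aeval v y) := by
      rw [map_add, map_add]; ring
    rw [this]
    exact Ideal.add_mem _ hx hy

end CoeffIdeal

end Groth.Agent.H8.PairHens

namespace Groth.Agent.H8.PairHens

universe u

section Surjective

variable (A : Type u) [CommRing A] (I : Ideal A) [hA : HenselianRing A I]
    (R : Type u) [CommRing R] [Algebra A R] [Algebra.FiniteType A R]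
    (B : Type u) [CommRing B] [Algebra R B] [Algebra A B] [IsScalarTower A R B]
    (hB : Hens2.IsPairHenselization R (I.map (algebraMap A R)) B)

omit [Algebra.FiniteType A R] in
include hB in
/-- If the image of `R` in its henselization `B` lies in the image of `A`, then `A → B` is
surjective. -/
theorem surjective_of_range_le (h : ∀ r : R, algebraMap R B r ∈ (algebraMap A B).range) :
    Function.Surjective (algebraMap A B) := by
  let A₁ : Subring B := (algebraMap A B).range
  let ρ : R →+* A₁ := (algebraMap R B).codRestrict A₁ h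
  let π : A →+* A₁ := (algebraMap A B).rangeRestrict
  have hπ : Function.Surjective π := (algebraMap A B).rangeRestrict_surjective
  haveI : HenselianRing A₁ (I.map π) := henselianRing_map_of_surjective I π hπ
  have hρπ : ρ.comp (algebraMap A R) = π := by
    ext a
    show algebraMap R B (algebraMap A R a) = algebraMap A B a
    rw [← IsScalarTower.algebraMap_apply]
  have hle : (I.map (algebraMap A R)).map ρ ≤ I.map π := by
    rw [Ideal.map_map, hρπ]
  obtain ⟨g, hg, -⟩ := hB.2 A₁ (I.map π) ρ inferInstance hle
  obtain ⟨u, -, huniq⟩ := hB.2 B _ (algebraMap R B) hB.1 le_rfl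
  have h1 : (A₁.subtype.comp g) = u := huniq _ (by
    show (A₁.subtype.comp g).comp (algebraMap R B) = algebraMap R B
    rw [RingHom.comp_assoc, hg]
    ext r
    rfl)
  have h2 : RingHom.id B = u := huniq _ (RingHom.id_comp _)
  intro b
  have h3 : A₁.subtype (g b) = b := by
    have := congrArg (fun w => w b) (h1.trans h2.symm)
    exact this
  have h4 : b ∈ (algebraMap A B).range := by
    rw [← h3]
    exact (g b).2
  exact h4

include hA hB in
theorem surjective_algebraMap_of_surjective_quotient
    (hsurj : Function.Surjective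
      (Ideal.quotientMap (I.map (algebraMap A B)) (algebraMap A B) Ideal.le_comap_map)) :
    Function.Surjective (algebraMap A B) := by
  classical
  -- surjectivity at the level of `R`
  have hR : ∀ r : R, ∃ a : A, r - algebraMap A R a ∈ I.map (algebraMap A R) := by
    intro r
    obtain ⟨ab, hab⟩ := hsurj (Ideal.Quotient.mk _ (algebraMap R B r))
    obtain ⟨a, rfl⟩ := Ideal.Quotient.mk_surjective ab
    refine ⟨a, ?_⟩
    rw [Ideal.quotientMap_mk, Ideal.Quotient.eq] at hab
    have h1 := mem_pow_of_algebraMap_mem hB 1 (r - algebraMap A R a)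
    rw [pow_one] at h1
    apply h1
    rw [map_tower_eq, map_sub, ← IsScalarTower.algebraMap_apply]
    have := neg_mem hab
    rwa [neg_sub] at this
  obtain ⟨n, fR, hfR⟩ := Algebra.FiniteType.iff_quotient_mvPolynomial''.mp
    (inferInstance : Algebra.FiniteType A R)
  let x : Fin n → R := fun k => fR (MvPolynomial.X k)
  choose a ha using fun k => hR (x k)
  have hIR : I.map (algebraMap A R) =
      (I.map (MvPolynomial.C (σ := Fin n))).map (fR : MvPolynomial (Fin n) A →+* R) := by
    rw [Ideal.map_map]
    congr 1
    ext c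
    simp
  have hG : ∀ k, ∃ G ∈ I.map (MvPolynomial.C (σ := Fin n)),
      (fR : MvPolynomial (Fin n) A →+* R) G = x k - algebraMap A R (a k) := by
    intro k
    have := ha k
    rw [hIR] at this
    exact (Ideal.mem_map_iff_of_surjective (fR : MvPolynomial (Fin n) A →+* R) hfR).mp this
  choose G hGI hGx using hG
  let P : Fin n → MvPolynomial (Fin n) A := fun k =>
    MvPolynomial.X k - MvPolynomial.C (a k) - G k
  have hfP : ∀ k, fR (P k) = 0 := by
    intro k
    have h1 : fR (G k) = x k - algebraMap A R (a k) := hGx k
    simp only [P, map_sub, h1, MvPolynomial.algHom_C]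
    show x k - _ - _ = 0
    ring
  -- Hensel
  have h₀ : ∀ k, MvPolynomial.eval a (P k) ∈ I := by
    intro k
    have h1 : MvPolynomial.aeval a (G k) ∈ I.map (algebraMap A A) :=
      eval_mem_of_mem_map_C I (G k) (hGI k) a
    rw [Algebra.algebraMap_self, Ideal.map_id, MvPolynomial.aeval_eq_eval] at h1
    simp only [P, map_sub, MvPolynomial.eval_X, MvPolynomial.eval_C, sub_self, zero_sub]
    exact neg_mem h1
  have hJ : IsUnit (Ideal.Quotient.mk I
      (Matrix.of (fun i j => MvPolynomial.eval a (MvPolynomial.pderiv j (P i)))).det) := by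
    rw [RingHom.map_det]
    have : (Ideal.Quotient.mk I).mapMatrix
        (Matrix.of (fun i j => MvPolynomial.eval a (MvPolynomial.pderiv j (P i)))) = 1 := by
      ext i j
      have h1 : MvPolynomial.aeval a (MvPolynomial.pderiv j (G i)) ∈ I.map (algebraMap A A) :=
        eval_mem_of_mem_map_C I _ (pderiv_mem_map_C I (G i) (hGI i) j) a
      rw [Algebra.algebraMap_self, Ideal.map_id, MvPolynomial.aeval_eq_eval] at h1
      simp only [RingHom.mapMatrix_apply, Matrix.map_apply, Matrix.of_apply, P, map_sub,
        MvPolynomial.pderiv_X, MvPolynomial.pderiv_C, sub_zero]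
      rw [Ideal.Quotient.eq_zero_iff_mem.mpr h1, sub_zero, Matrix.one_apply]
      by_cases hij : i = j
      · subst hij
        simp
      · simp [hij]
    rw [this, Matrix.det_one]
    exact isUnit_one
  obtain ⟨α, hα, -⟩ := HensPair.exists_solution_of_jacobian A I n P a h₀ hJ
  -- comparison in `B`
  let β : Fin n → B := fun k => algebraMap A B (α k)
  let b : Fin n → B := fun k => algebraMap R B (x k)
  have hb : ∀ p : MvPolynomial (Fin n) A, algebraMap R B (fR p) = MvPolynomial.aeval b p := by
    intro p
    have : (IsScalarTower.toAlgHom A R B).comp fR = MvPolynomial.aeval b := by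
      apply MvPolynomial.algHom_ext
      intro k
      simp [b, x]
    exact congrArg (fun w => w p) this
  have hβ : ∀ p : MvPolynomial (Fin n) A,
      algebraMap A B (MvPolynomial.eval α p) = MvPolynomial.aeval β p := by
    intro p
    have := MvPolynomial.aeval_algebraMap_apply B α p
    rw [MvPolynomial.aeval_eq_eval] at this
    exact this.symm
  have hbP : ∀ k, b k = algebraMap A B (a k) + MvPolynomial.aeval b (G k) := by
    intro k
    have := hb (P k)
    rw [hfP, map_zero] at this
    simp only [P, map_sub, MvPolynomial.aeval_X, MvPolynomial.aeval_C] at this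
    linear_combination -this
  have hβP : ∀ k, β k = algebraMap A B (a k) + MvPolynomial.aeval β (G k) := by
    intro k
    have := hβ (P k)
    rw [hα, map_zero] at this
    simp only [P, map_sub, MvPolynomial.aeval_X, MvPolynomial.aeval_C] at this
    linear_combination -this
  let D : Ideal B := Ideal.span (Set.range fun l => β l - b l)
  haveI := hB.1
  have hjac : I.map (algebraMap A B) ≤ Ideal.jacobson ⊥ := by
    rw [← map_tower_eq (R := R)]
    exact HenselianRing.jac
  have hD : D = ⊥ := by
    refine Submodule.eq_bot_of_le_smul_of_le_jacobson_bot (I.map (algebraMap A B)) D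
      (Submodule.fg_span (Set.finite_range _)) ?_ hjac
    rw [smul_eq_mul]
    show D ≤ _
    rw [Ideal.span_le]
    rintro _ ⟨l, rfl⟩
    show β l - b l ∈ _
    rw [hβP l, hbP l, add_sub_add_left_eq_sub]
    exact aeval_sub_aeval_mem I (G l) (hGI l) β b
  have hβb : ∀ k, b k = β k := by
    intro k
    have : β k - b k ∈ D := Ideal.subset_span ⟨k, rfl⟩
    rw [hD, Ideal.mem_bot, sub_eq_zero] at this
    exact this.symm
  apply surjective_of_range_le A I R B hB
  intro r
  obtain ⟨p, rfl⟩ := hfR r
  refine ⟨MvPolynomial.eval α p, ?_⟩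
  rw [hβ, hb]
  congr 2
  ext k
  exact (hβb k).symm

end Surjective

end Groth.Agent.H8.PairHens
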