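import Mathlib
import Groth.Agent.Lib.Helper8.HensPair.Integral
import Groth.Agent.Lib.Helper8.PairHens.Maps
import Groth.Agent.Lib.Helper8.PairHens.PowQuot
import Groth.Agent.Lib.Helper8.PairHens.Unique
import Groth.Agent.S0526

/-! Zariski's main theorem for henselian pairs: a henselian finitely presented map which is finite
modulo `I` is finite. -/

set_option autoImplicit false
universe u

namespace Groth.Agent.H8.PairHens.ZMT

open Groth.Agent.H8.HensPair Groth.Agent.H8.PairHens

section Abstract

variable {A : Type u} [CommRing A] (I : Ideal A)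
  {R' R : Type*} [CommRing R'] [CommRing R] [Algebra A R'] [Algebra A R] [Algebra R' R]
  [IsScalarTower A R' R]

/-- the set-theoretic image property -/
theorem exists_pow_mul_mem_of_mem_map (hinj : Function.Injective (algebraMap R' R))
    (r : R') (hr : ∀ ρ : R, ∃ m : ℕ, algebraMap R' R r ^ m * ρ ∈ (algebraMap R' R).range)
    (d : R') (hd : algebraMap R' R d ∈ I.map (algebraMap A R)) :
    ∃ k : ℕ, r ^ k * d ∈ I.map (algebraMap A R') := by
  have key : ∀ x ∈ I.map (algebraMap A R), ∃ k : ℕ, ∃ y ∈ I.map (algebraMap A R'),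
      algebraMap R' R y = algebraMap R' R r ^ k * x := by
    intro x hx
    refine Submodule.span_induction (p := fun x _ => ∃ k : ℕ, ∃ y ∈ I.map (algebraMap A R'),
      algebraMap R' R y = algebraMap R' R r ^ k * x) ?_ ?_ ?_ ?_ hx
    · rintro _ ⟨a, ha, rfl⟩
      refine ⟨0, algebraMap A R' a, Ideal.mem_map_of_mem _ ha, ?_⟩
      rw [pow_zero, one_mul, ← IsScalarTower.algebraMap_apply]
    · exact ⟨0, 0, Ideal.zero_mem _, by simp⟩
    · rintro x y _ _ ⟨k₁, y₁, hy₁, h₁⟩ ⟨k₂, y₂, hy₂, h₂⟩
      refine ⟨k₁ + k₂, r ^ k₂ * y₁ + r ^ k₁ * y₂,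
        Ideal.add_mem _ (Ideal.mul_mem_left _ _ hy₁) (Ideal.mul_mem_left _ _ hy₂), ?_⟩
      rw [map_add, map_mul, map_mul, h₁, h₂, map_pow, map_pow]
      ring
    · rintro ρ x _ ⟨k, y, hy, h⟩
      obtain ⟨m, σ, hσ⟩ := hr ρ
      refine ⟨m + k, σ * y, Ideal.mul_mem_left _ _ hy, ?_⟩
      rw [map_mul, h, hσ, smul_eq_mul]
      ring
  obtain ⟨k, y, hy, h⟩ := key _ hd
  refine ⟨k, ?_⟩
  have : y = r ^ k * d := hinj (by rw [h, map_mul, map_pow])
  rwa [← this]

/-- the comaximality via lying over -/
theorem comap_sup_span_eq_top [Algebra.IsIntegral A (R ⧸ I.map (algebraMap A R))]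
    (t : Set R')
    (h1 : I.map (algebraMap A R) ⊔ Ideal.span (algebraMap R' R '' t) = ⊤) :
    (I.map (algebraMap A R)).comap (algebraMap R' R) ⊔ Ideal.span t = ⊤ := by
  by_contra hne
  obtain ⟨m', hm', hle⟩ := Ideal.exists_le_maximal _ hne
  haveI : m'.IsPrime := hm'.isPrime
  haveI : Algebra.IsIntegral R' (R ⧸ I.map (algebraMap A R)) :=
    Algebra.IsIntegral.tower_top (R := A)
  obtain ⟨Q, -, hQ, hQm⟩ := Ideal.exists_ideal_over_prime_of_isIntegral m'
    (⊥ : Ideal (R ⧸ I.map (algebraMap A R))) (by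
      intro x hx
      apply hle
      apply Ideal.mem_sup_left
      rw [Ideal.mem_comap] at hx ⊢
      rw [Ideal.mem_bot] at hx
      exact Ideal.Quotient.eq_zero_iff_mem.mp hx)
  set q := Q.comap (Ideal.Quotient.mk (I.map (algebraMap A R))) with hq
  have hJq : I.map (algebraMap A R) ≤ q := by
    intro x hx
    rw [hq, Ideal.mem_comap, Ideal.Quotient.eq_zero_iff_mem.mpr hx]
    exact Ideal.zero_mem _
  have htq : Ideal.span (algebraMap R' R '' t) ≤ q := by
    rw [Ideal.span_le]
    rintro _ ⟨r, hr, rfl⟩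
    have : r ∈ m' := hle (Ideal.mem_sup_right (Ideal.subset_span hr))
    rw [← hQm] at this
    exact this
  have : (1 : R) ∈ q := by
    have h : (1 : R) ∈ I.map (algebraMap A R) ⊔ Ideal.span (algebraMap R' R '' t) := by
      rw [h1]; trivial
    exact (sup_le hJq htq) h
  have hqp : q.IsPrime := Ideal.comap_isPrime _ _
  exact hqp.ne_top ((Ideal.eq_top_iff_one _).mpr this)

theorem exists_idempotent_abstract [hI : HenselianRing A I] [Algebra.IsIntegral A R']
    [Algebra.IsIntegral A (R ⧸ I.map (algebraMap A R))]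
    (hinj : Function.Injective (algebraMap R' R)) (t : Finset R')
    (ht : ∀ r ∈ t, ∀ ρ : R, ∃ m : ℕ, algebraMap R' R r ^ m * ρ ∈ (algebraMap R' R).range)
    (h1 : I.map (algebraMap A R) ⊔ Ideal.span (algebraMap R' R '' (t : Set R')) = ⊤) :
    ∃ e : R', IsIdempotentElem e ∧ algebraMap R' R (1 - e) ∈ I.map (algebraMap A R) ∧
      ∀ ρ : R, algebraMap R' R e * ρ ∈ (algebraMap R' R).range := by
  classical
  have h2 := comap_sup_span_eq_top I (t : Set R') h1
  have h3 : (1 : R') ∈ (I.map (algebraMap A R)).comap (algebraMap R' R) ⊔ Ideal.span (t : Set R') := by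
    rw [h2]; trivial
  obtain ⟨d, hd, c, hc, hdc⟩ := Submodule.mem_sup.mp h3
  rw [Ideal.mem_comap] at hd
  -- c ∈ radical of the colon ideal
  have hrad : Ideal.span (t : Set R') ≤
      ((I.map (algebraMap A R')).colon ({d} : Set R')).radical := by
    rw [Ideal.span_le]
    intro r hr
    obtain ⟨k, hk⟩ := exists_pow_mul_mem_of_mem_map I hinj r (ht r hr) d hd
    refine ⟨k, ?_⟩
    rw [Submodule.mem_colon_singleton]
    exact hk
  obtain ⟨M, hM⟩ := hrad hc
  rw [Submodule.mem_colon_singleton, smul_eq_mul] at hM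
  set x := c ^ (M + 1) with hx
  have hxd : x * d ∈ I.map (algebraMap A R') := by
    rw [hx, pow_succ', mul_assoc]
    exact Ideal.mul_mem_left _ _ hM
  obtain ⟨u, hu⟩ : d ∣ 1 - x := by
    have h := sub_dvd_pow_sub_pow (1 : R') c (M + 1)
    rw [one_pow] at h
    have hd' : d = 1 - c := by rw [← hdc]; ring
    rw [hd']
    exact h
  have hy₀ : x * x - x ∈ I.map (algebraMap A R') := by
    have : x * x - x = -(u * (x * d)) := by
      have : x * x - x = -(x * (1 - x)) := by ring
      rw [this, hu]; ring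
    rw [this]
    exact neg_mem (Ideal.mul_mem_left _ _ hxd)
  obtain ⟨e, he, hex⟩ := exists_idempotent_of_isIntegral I x hy₀
  refine ⟨e, he, ?_, ?_⟩
  · have h4 : (1 : R') - e = d * u - (e - x) := by rw [← hu]; ring
    rw [h4, map_sub, map_mul]
    refine sub_mem (Ideal.mul_mem_right _ _ hd) ?_
    have := Ideal.mem_map_of_mem (algebraMap R' R) hex
    rwa [Ideal.map_map, ← IsScalarTower.algebraMap_eq] at this
  · -- span (insert (1-e) t) = ⊤
    have hjac : e - x ∈ Ideal.jacobson (⊥ : Ideal R') :=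
      map_le_jacobson_of_isIntegral hI.jac hex
    have hunit : IsUnit (1 - (e - x)) := by
      obtain ⟨z, hz⟩ := Ideal.mem_jacobson_iff.mp hjac (-1)
      rw [Ideal.mem_bot] at hz
      refine IsUnit.of_mul_eq_one z ?_
      linear_combination hz
    have hmem : 1 - (e - x) ∈ Ideal.span (insert (1 - e) (t : Set R')) := by
      have h5 : 1 - (e - x) = (1 - e) + c ^ M * c := by rw [hx, pow_succ]; ring
      rw [h5]
      refine add_mem (Ideal.subset_span (Set.mem_insert _ _)) (Ideal.mul_mem_left _ _ ?_)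
      exact Ideal.span_mono (Set.subset_insert _ _) hc
    have htop : Ideal.span (insert (1 - e) (t : Set R')) = ⊤ :=
      Ideal.eq_top_of_isUnit_mem _ hmem hunit
    intro ρ
    have hm : ∀ r : R', ∃ m : ℕ, r ∈ t → algebraMap R' R r ^ m * ρ ∈ (algebraMap R' R).range := by
      intro r
      by_cases hr : r ∈ t
      · obtain ⟨m, hm⟩ := ht r hr ρ
        exact ⟨m, fun _ => hm⟩
      · exact ⟨0, fun h => absurd h hr⟩
    choose m hm using hm
    set k := t.sup m with hk
    have hk' : ∀ r ∈ t, algebraMap R' R r ^ k * ρ ∈ (algebraMap R' R).range := by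
      intro r hr
      have hle : m r ≤ k := Finset.le_sup hr
      obtain ⟨σ, hσ⟩ := hm r hr
      refine ⟨r ^ (k - m r) * σ, ?_⟩
      rw [map_mul, hσ, map_pow, ← mul_assoc, ← pow_add, Nat.sub_add_cancel hle]
    have htop' := Ideal.span_pow_eq_top _ htop (k + 1)
    have h6 : ∀ z ∈ Ideal.span ((fun x => x ^ (k + 1)) '' insert (1 - e) (t : Set R')),
        algebraMap R' R (e * z) * ρ ∈ (algebraMap R' R).range := by
      intro z hz
      refine Submodule.span_induction (p := fun z _ =>
        algebraMap R' R (e * z) * ρ ∈ (algebraMap R' R).range) ?_ ?_ ?_ ?_ hz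
      · rintro _ ⟨r, hr, rfl⟩
        rcases hr with rfl | hr
        · refine ⟨0, ?_⟩
          have : e * (1 - e) ^ (k + 1) = 0 := by
            rw [pow_succ', ← mul_assoc, he.mul_one_sub_self, zero_mul]
          simp only [this, map_zero, zero_mul]
        · obtain ⟨σ, hσ⟩ := hk' r hr
          refine ⟨e * r * σ, ?_⟩
          show _ = algebraMap R' R (e * r ^ (k + 1)) * ρ
          rw [map_mul, hσ, map_mul, map_mul, map_pow, pow_succ']
          ring
      · exact ⟨0, by simp⟩
      · rintro z₁ z₂ _ _ ⟨σ₁, h₁⟩ ⟨σ₂, h₂⟩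
        refine ⟨σ₁ + σ₂, ?_⟩
        rw [map_add, h₁, h₂, mul_add, map_add, add_mul]
      · rintro a z _ ⟨σ, h⟩
        refine ⟨a * σ, ?_⟩
        rw [map_mul, h, smul_eq_mul, map_mul, map_mul, map_mul]
        ring
    have := h6 1 (by rw [htop']; trivial)
    rwa [mul_one] at this

end Abstract

section QF

variable {A R : Type*} [CommRing A] [CommRing R] [Algebra A R] [Algebra.FiniteType A R]
  (I : Ideal A)

theorem quasiFiniteAt_of_finite_quotient [Module.Finite A (R ⧸ I.map (algebraMap A R))]
    (q : Ideal R) [q.IsPrime] (hq : I.map (algebraMap A R) ≤ q) : Algebra.QuasiFiniteAt A q := by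
  set J := I.map (algebraMap A R) with hJ
  let qq : PrimeSpectrum R := ⟨q, inferInstance⟩
  refine (Algebra.quasiFiniteAt_iff_isOpen_singleton_fiber qq).mpr ?_
  set p := qq.comap (algebraMap A R) with hp
  have hIp : I ≤ p.asIdeal := by
    intro a ha
    show algebraMap A R a ∈ q
    exact hq (Ideal.mem_map_of_mem _ ha)
  -- the fibre is discrete
  have hdisc : IsDiscrete (PrimeSpectrum.comap (algebraMap A R) ⁻¹' {p}) := by
    have h1 : IsDiscrete (PrimeSpectrum.comap (algebraMap A (R ⧸ J)) ⁻¹' {p}) :=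
      Algebra.QuasiFinite.isDiscrete_comap_preimage_singleton p
    have h2 := h1.image
      (PrimeSpectrum.isClosedEmbedding_comap_of_surjective (R ⧸ J) (Ideal.Quotient.mk J)
        Ideal.Quotient.mk_surjective).isInducing
    refine h2.mono ?_
    intro q' hq'
    have hq'p : q'.comap (algebraMap A R) = p := hq'
    have hJq' : J ≤ q'.asIdeal := by
      rw [hJ, Ideal.map_le_iff_le_comap]
      intro a ha
      have : a ∈ (q'.comap (algebraMap A R)).asIdeal := by rw [hq'p]; exact hIp ha
      exact this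
    have hmem : q' ∈ Set.range (PrimeSpectrum.comap (Ideal.Quotient.mk J)) := by
      rw [range_comap_of_surjective _ _ Ideal.Quotient.mk_surjective,
        Ideal.mk_ker]
      exact hJq'
    obtain ⟨Q, rfl⟩ := hmem
    refine ⟨Q, ?_, rfl⟩
    show Q.comap (algebraMap A (R ⧸ J)) = p
    rw [← hq'p]
    rfl
  have := isDiscrete_iff_discreteTopology.mp hdisc
  exact isOpen_discrete _

end QF

section Main

variable (A : Type u) [CommRing A] (I : Ideal A) [hI : HenselianRing A I]
  (R : Type*) [CommRing R] [Algebra A R] [Algebra.FiniteType A R]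

theorem exists_idempotent_finite [Module.Finite A (R ⧸ I.map (algebraMap A R))] :
    ∃ e : R, IsIdempotentElem e ∧ 1 - e ∈ I.map (algebraMap A R) ∧
      Module.Finite A (R ⧸ Ideal.span {1 - e}) := by
  classical
  set J := I.map (algebraMap A R) with hJ
  -- the good elements
  let G : Set R := {r | IsIntegral A r ∧ ∀ x : R, ∃ m : ℕ, IsIntegral A (r ^ m * x)}
  have hcover : J ⊔ Ideal.span G = ⊤ := by
    by_contra hne
    obtain ⟨m, hm, hle⟩ := Ideal.exists_le_maximal _ hne
    haveI : m.IsPrime := hm.isPrime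
    haveI : Algebra.QuasiFiniteAt A m :=
      quasiFiniteAt_of_finite_quotient I m (le_sup_left.trans hle)
    obtain ⟨r, hrm, hr, hr'⟩ := Algebra.zariskisMainProperty_iff.mp
      (Algebra.ZariskisMainProperty.of_finiteType (R := A) m)
    exact hrm (hle (Ideal.mem_sup_right (Ideal.subset_span ⟨hr, hr'⟩)))
  have h1 : (1 : R) ∈ J ⊔ Ideal.span G := by rw [hcover]; trivial
  obtain ⟨j, hj, y, hy, hjy⟩ := Submodule.mem_sup.mp h1
  obtain ⟨t, htG, hyt⟩ := Submodule.mem_span_finite_of_mem_span hy
  -- the integral closure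
  let R' := integralClosure A R
  let t' : Finset R' := Finset.subtype (· ∈ R') t
  have hval : algebraMap R' R '' (t' : Set R') = (t : Set R) := by
    ext r
    constructor
    · rintro ⟨r', hr', rfl⟩
      exact Finset.mem_subtype.mp hr'
    · intro hr
      exact ⟨⟨r, (htG hr).1⟩, Finset.mem_subtype.mpr hr, rfl⟩
  haveI : Algebra.IsIntegral A (R ⧸ I.map (algebraMap A R)) := Algebra.IsIntegral.of_finite A _
  obtain ⟨e, he, he1, he2⟩ := exists_idempotent_abstract I (R' := R') (R := R)
    Subtype.val_injective t' (by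
      intro r hr ρ
      have hr' : (r : R) ∈ G := htG (Finset.mem_subtype.mp hr)
      obtain ⟨m, hm⟩ := hr'.2 ρ
      exact ⟨m, ⟨_, hm⟩, rfl⟩) (by
      rw [hval, Ideal.eq_top_iff_one, ← hjy]
      exact add_mem (Ideal.mem_sup_left hj) (Ideal.mem_sup_right hyt))
  refine ⟨e, ?_, ?_, ?_⟩
  · have := he.map (algebraMap R' R)
    exact this
  · simpa using he1
  · let φ : R' →ₐ[A] R ⧸ Ideal.span {1 - (e : R)} :=
      (Ideal.Quotient.mkₐ A _).comp R'.val
    have hφ : Function.Surjective φ := by
      intro z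
      obtain ⟨ρ, rfl⟩ := Ideal.Quotient.mk_surjective z
      obtain ⟨σ, hσ⟩ := he2 ρ
      refine ⟨σ, ?_⟩
      show Ideal.Quotient.mk _ (algebraMap R' R σ) = Ideal.Quotient.mk _ ρ
      rw [hσ, Ideal.Quotient.eq]
      have : algebraMap R' R e * ρ - ρ = -(ρ * (1 - (e : R))) := by
        show (e : R) * ρ - ρ = _
        ring
      rw [this]
      exact neg_mem (Ideal.mul_mem_left _ _ (Ideal.subset_span rfl))
    haveI : Algebra.IsIntegral A (R ⧸ Ideal.span {1 - (e : R)}) :=
      Algebra.IsIntegral.of_surjective φ hφ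
    exact Algebra.IsIntegral.finite

end Main

section Final

variable (A : Type u) [CommRing A] (I : Ideal A) [hA : HenselianRing A I]
  (R : Type u) [CommRing R] [Algebra A R]
  (B : Type u) [CommRing B] [Algebra R B] [Algebra A B] [IsScalarTower A R B]

include hA in
/-- the quotient by an idempotent congruent to `0` is a henselization as soon as it is integral -/
theorem isPairHenselization_quotient_idempotent (e : R) (he : IsIdempotentElem e)
    (he1 : 1 - e ∈ I.map (algebraMap A R))
    [Algebra.IsIntegral A (R ⧸ Ideal.span {1 - e})] :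
    Hens2.IsPairHenselization R (I.map (algebraMap A R)) (R ⧸ Ideal.span {1 - e}) := by
  refine ⟨?_, ?_⟩
  · rw [map_tower_eq]
    exact Groth.Agent.S0526.result A I _
  · intro C _ K f hC hfK
    have hf0 : f (1 - e) = 0 := by
      have hidem : IsIdempotentElem (f (1 - e)) := he.one_sub.map f
      have hK : f (1 - e) ∈ K := hfK (Ideal.mem_map_of_mem f he1)
      have hjac : f (1 - e) - 0 ∈ Ideal.jacobson (⊥ : Ideal C) := by
        rw [sub_zero]; exact hC.jac hK
      exact idempotent_eq_of_sub_mem_jacobson hidem IsIdempotentElem.zero hjac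
    refine ⟨Ideal.Quotient.lift _ f ?_, ?_, ?_⟩
    · intro x hx
      obtain ⟨y, rfl⟩ := Ideal.mem_span_singleton'.mp hx
      rw [map_mul, hf0, mul_zero]
    · ext x
      simp
    · intro g hg
      ext x
      simp only [RingHom.comp_apply, Ideal.Quotient.lift_mk]
      rw [← hg]
      rfl

include hA in
theorem finite_of_hfin [Algebra.FinitePresentation A R]
    (hB : Hens2.IsPairHenselization R (I.map (algebraMap A R)) B)
    (hfin : (Ideal.quotientMap (I.map (algebraMap A B)) (algebraMap A B) Ideal.le_comap_map).Finite) :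
    Module.Finite A B ∧ Algebra.FinitePresentation A B := by
  -- Step 0: R/IR is finite over A
  have h0 : Module.Finite A (B ⧸ I.map (algebraMap A B)) := by
    rw [← RingHom.finite_algebraMap]
    exact hfin.comp (RingHom.Finite.of_surjective _ Ideal.Quotient.mk_surjective)
  let ψ : R ⧸ I.map (algebraMap A R) →ₐ[A] B ⧸ I.map (algebraMap A B) :=
    Ideal.quotientMapₐ (I.map (algebraMap A B)) (IsScalarTower.toAlgHom A R B) (by
      rw [← Ideal.map_le_iff_le_comap]
      exact (map_tower_eq (I := I) (R := R) (B := B)).le)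
  have hψ : Function.Bijective ψ := by
    constructor
    · rw [injective_iff_map_eq_zero]
      intro x hx
      obtain ⟨r, rfl⟩ := Ideal.Quotient.mk_surjective x
      have h1 : algebraMap R B r ∈ I.map (algebraMap A B) := Ideal.Quotient.eq_zero_iff_mem.mp hx
      have h2 := mem_pow_of_algebraMap_mem hB 1 r (by rwa [pow_one, map_tower_eq])
      rw [pow_one] at h2
      exact Ideal.Quotient.eq_zero_iff_mem.mpr h2
    · intro z
      obtain ⟨b, rfl⟩ := Ideal.Quotient.mk_surjective z
      obtain ⟨r, hr⟩ := exists_sub_mem_of_isPairHenselization hB b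
      rw [map_tower_eq] at hr
      refine ⟨Ideal.Quotient.mk _ r, ?_⟩
      exact (Ideal.Quotient.eq.mpr hr).symm
  haveI : Module.Finite A (R ⧸ I.map (algebraMap A R)) :=
    Module.Finite.equiv (LinearEquiv.ofBijective ψ.toLinearMap hψ).symm
  obtain ⟨e, he, he1, hfe⟩ := exists_idempotent_finite A I R
  haveI : Algebra.IsIntegral A (R ⧸ Ideal.span {1 - e}) := Algebra.IsIntegral.of_finite A _
  have hB' := isPairHenselization_quotient_idempotent A I R e he he1
  obtain ⟨φ⟩ := nonempty_algEquiv_of_isPairHenselization hB' hB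
  let φA : (R ⧸ Ideal.span {1 - e}) ≃ₐ[A] B := φ.restrictScalars A
  refine ⟨Module.Finite.equiv φA.toLinearEquiv, ?_⟩
  haveI : Algebra.FinitePresentation A (R ⧸ Ideal.span {1 - e}) :=
    Algebra.FinitePresentation.quotient (Submodule.fg_span_singleton _)
  exact Algebra.FinitePresentation.equiv φA

end Final

end Groth.Agent.H8.PairHens.ZMT
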