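import Mathlib
import Groth.Agent.Lib.Helper8.Hens.Jacobian
import Groth.Agent.Lib.Helper8.PairHens.Surjective
import Groth.Agent.Lib.Helper8.PairHens.PowQuot
import Groth.Agent.Lib.Helper8.PairHens.Maps
import Groth.Agent.Lib.Helper8.PairHens.BaseQuot
import Groth.Agent.Lib.Helper8.PairHens.HFPCancel
import Groth.Agent.Lib.Helper8.PairHens.Unique
import Groth.Agent.Lib.Helper8.PairHens.ZMT

/-! Structure of h-formally étale henselian finitely presented maps (helper8). -/

set_option autoImplicit false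
universe u

namespace Groth.Agent.H8.PairHens.HEt

open MvPolynomial Groth.Agent.H8.PairHens Groth.Agent.H8.Hens

/-- For a formally unramified algebra with a polynomial presentation, there are relations whose
Jacobian matrix is the identity. -/
theorem exists_relations_of_formallyUnramified {Λ S : Type*} [CommRing Λ] [CommRing S]
    [Algebra Λ S] [Algebra.FormallyUnramified Λ S] {ι : Type*} [DecidableEq ι]
    (f : MvPolynomial ι Λ →ₐ[Λ] S) (hf : Function.Surjective f) :
    ∃ g : ι → MvPolynomial ι Λ, (∀ i, f (g i) = 0) ∧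
      ∀ i j, f (pderiv j (g i)) = Pi.single (M := fun _ => S) i 1 j := by

  let P : Algebra.Generators Λ S ι := Algebra.Generators.ofAlgHom f hf
  have hval : (aeval P.val : MvPolynomial ι Λ →ₐ[Λ] S) = f := by
    ext i
    simp [P, Algebra.Generators.ofAlgHom, Algebra.Generators.ofSurjective]
  have hsurj : Function.Surjective P.toExtension.cotangentComplex := by
    intro y
    have h0 : P.toExtension.toKaehler y = 0 := Subsingleton.elim _ _
    exact (P.toExtension.exact_cotangentComplex_toKaehler y).mp h0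
  have hex : ∀ i, ∃ g : MvPolynomial ι Λ, f g = 0 ∧
      ∀ j, f (pderiv j g) = Pi.single (M := fun _ => S) i 1 j := by
    intro i
    obtain ⟨c, hc⟩ := hsurj (P.cotangentSpaceBasis i)
    obtain ⟨x, rfl⟩ := Algebra.Extension.Cotangent.mk_surjective c
    refine ⟨x.1, ?_, fun j => ?_⟩
    · have := x.2
      rw [← hval]
      exact (RingHom.mem_ker).mp this
    · have h1 := congrArg (fun z => P.cotangentSpaceBasis.repr z j) hc
      simp only [Algebra.Extension.cotangentComplex_mk] at h1
      rw [P.cotangentSpaceBasis_repr_one_tmul] at h1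
      rw [← hval]
      rw [h1]
      simp [Finsupp.single_apply, Pi.single_apply, eq_comm]
  choose g hg1 hg2 using hex
  exact ⟨g, hg1, hg2⟩

section Formal

variable {Λ S₁ S₂ : Type*} [CommRing Λ] [CommRing S₁] [CommRing S₂] [Algebra Λ S₁] [Algebra Λ S₂]

/-- A surjection with nilpotent kernel from a formally unramified algebra onto a formally smooth
algebra is injective. -/
theorem injective_of_nilpotent_ker [Algebra.FormallyUnramified Λ S₁] [Algebra.FormallySmooth Λ S₂]
    (u : S₁ →ₐ[Λ] S₂) (hu : Function.Surjective u)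
    (hnil : IsNilpotent (RingHom.ker (u : S₁ →+* S₂))) : Function.Injective u := by
  let s : S₂ →ₐ[Λ] S₁ := Algebra.FormallySmooth.liftOfSurjective (AlgHom.id Λ S₂) u hu hnil
  have hs : u.comp s = AlgHom.id Λ S₂ := Algebra.FormallySmooth.comp_liftOfSurjective _ u hu hnil
  have h1 : s.comp u = AlgHom.id Λ S₁ := by
    apply Algebra.FormallyUnramified.lift_unique' u hnil
    rw [← AlgHom.comp_assoc, hs, AlgHom.id_comp, AlgHom.comp_id]
  intro x y hxy
  have := congrArg s hxy
  have hx : s (u x) = x := AlgHom.congr_fun h1 x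
  have hy : s (u y) = y := AlgHom.congr_fun h1 y
  rwa [hx, hy] at this

/-- The kernel of a surjection from a formally unramified algebra onto a formally smooth algebra
is idempotent. -/
theorem ker_isIdempotentElem [Algebra.FormallyUnramified Λ S₁] [Algebra.FormallySmooth Λ S₂]
    (u : S₁ →ₐ[Λ] S₂) (hu : Function.Surjective u) :
    IsIdempotentElem (RingHom.ker (u : S₁ →+* S₂)) := by
  set K := RingHom.ker (u : S₁ →+* S₂) with hK
  let T := S₁ ⧸ K ^ 2
  let ub : T →ₐ[Λ] S₂ := Ideal.Quotient.liftₐ (K ^ 2) u (by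
    intro a ha
    exact (Ideal.pow_le_self (by norm_num) ha : a ∈ K))
  have hub : Function.Surjective ub := by
    intro y
    obtain ⟨x, rfl⟩ := hu y
    exact ⟨Ideal.Quotient.mk _ x, rfl⟩
  have hker : RingHom.ker (ub : T →+* S₂) ≤ K.map (Ideal.Quotient.mk (K ^ 2)) := by
    intro x hx
    obtain ⟨y, rfl⟩ := Ideal.Quotient.mk_surjective x
    have : u y = 0 := hx
    exact Ideal.mem_map_of_mem _ this
  have hnil : IsNilpotent (RingHom.ker (ub : T →+* S₂)) := by
    refine ⟨2, ?_⟩
    rw [Ideal.zero_eq_bot, eq_bot_iff]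
    refine (Ideal.pow_right_mono hker 2).trans ?_
    rw [← Ideal.map_pow, Ideal.map_quotient_self]
  have hinj := injective_of_nilpotent_ker ub hub hnil
  apply le_antisymm
  · exact Ideal.mul_le_right
  · intro x hx
    have h1 : ub (Ideal.Quotient.mk _ x) = 0 := hx
    have h2 : Ideal.Quotient.mk (K ^ 2) x = 0 := hinj (by rw [h1, map_zero])
    have h3 := Ideal.Quotient.eq_zero_iff_mem.mp h2
    rwa [pow_two] at h3

theorem exists_idempotent_ker_eq [Algebra.FormallyUnramified Λ S₁]
    [Algebra.FinitePresentation Λ S₁]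
    [Algebra.FormallySmooth Λ S₂] [Algebra.FinitePresentation Λ S₂]
    (u : S₁ →ₐ[Λ] S₂) (hu : Function.Surjective u) :
    ∃ e : S₁, IsIdempotentElem e ∧ RingHom.ker (u : S₁ →+* S₂) = Ideal.span {e} := by
  have hfg : (RingHom.ker (u : S₁ →+* S₂)).FG :=
    Algebra.FinitePresentation.ker_fG_of_surjective u hu
  exact (Ideal.isIdempotentElem_iff_of_fg _ hfg).mp (ker_isIdempotentElem u hu)

end Formal

section ModelA

variable (A : Type u) [CommRing A] (I : Ideal A)
  (R₀ : Type u) [CommRing R₀] [Algebra A R₀] [Algebra.FiniteType A R₀]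
  (B : Type u) [CommRing B] [Algebra R₀ B] [Algebra A B] [IsScalarTower A R₀ B]

/-- Step A: an étale `A`-algebra mapping to `B`, surjectively modulo `I`. -/
theorem exists_etale_model
    (hB : Hens2.IsPairHenselization R₀ (I.map (algebraMap A R₀)) B)
    [Algebra.FormallyUnramified A (R₀ ⧸ I.map (algebraMap A R₀))] :
    ∃ (R : Type u) (_ : CommRing R) (_ : Algebra A R) (_ : Algebra.Etale A R) (θ : R →ₐ[A] B),
      ∀ b : B, ∃ r : R, b - θ r ∈ I.map (algebraMap A B) := by
  classical
  obtain ⟨n, π, hπ⟩ := Algebra.FiniteType.iff_quotient_mvPolynomial''.mp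
    (inferInstance : Algebra.FiniteType A R₀)
  set J := I.map (algebraMap A R₀) with hJ
  let f : MvPolynomial (Fin n) A →ₐ[A] R₀ ⧸ J := (Ideal.Quotient.mkₐ A J).comp π
  have hf : Function.Surjective f := Ideal.Quotient.mk_surjective.comp hπ
  obtain ⟨g₀, hg₀, hg₀'⟩ := exists_relations_of_formallyUnramified f hf
  have hIR : J = (I.map (MvPolynomial.C (σ := Fin n))).map (π : MvPolynomial (Fin n) A →+* R₀) := by
    rw [Ideal.map_map]
    have : algebraMap A R₀ = (π : MvPolynomial (Fin n) A →+* R₀).comp (MvPolynomial.C (σ := Fin n)) := by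
      refine RingHom.ext fun c => ?_
      show algebraMap A R₀ c = π (C c)
      rw [← MvPolynomial.algebraMap_eq, AlgHom.commutes]
    rw [hJ, this]
  have hp : ∀ i, ∃ p ∈ I.map (MvPolynomial.C (σ := Fin n)), π p = π (g₀ i) := by
    intro i
    have h1 : π (g₀ i) ∈ J := Ideal.Quotient.eq_zero_iff_mem.mp (hg₀ i)
    rw [hIR] at h1
    exact (Ideal.mem_map_iff_of_surjective (π : MvPolynomial (Fin n) A →+* R₀) hπ).mp h1
  choose p hpI hpπ using hp
  let g : Fin n → MvPolynomial (Fin n) A := fun i => g₀ i - p i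
  have hgπ : ∀ i, π (g i) = 0 := by
    intro i
    simp only [g, map_sub, hpπ, sub_self]
  have hgd : ∀ i j, f (pderiv j (g i)) = Pi.single (M := fun _ => R₀ ⧸ J) i 1 j := by
    intro i j
    have h1 : f (pderiv j (p i)) = 0 := by
      have h2 := pderiv_mem_map_C I (p i) (hpI i) j
      have h3 : π (pderiv j (p i)) ∈ J := by
        rw [hIR]; exact Ideal.mem_map_of_mem _ h2
      exact Ideal.Quotient.eq_zero_iff_mem.mpr h3
    simp only [g, map_sub, h1, sub_zero, hg₀']
  -- the Jacobian determinant maps to 1 mod J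
  have hdet : f (jacDet g) = 1 := by
    have h1 : (f : MvPolynomial (Fin n) A →+* R₀ ⧸ J) (jacDet g) =
        ((f : MvPolynomial (Fin n) A →+* R₀ ⧸ J).mapMatrix
          (Matrix.of fun i j => MvPolynomial.pderiv j (g i))).det := by
      rw [jacDet, RingHom.map_det]
    have h2 : (f : MvPolynomial (Fin n) A →+* R₀ ⧸ J).mapMatrix
        (Matrix.of fun i j => MvPolynomial.pderiv j (g i)) = 1 := by
      ext i j
      simp only [RingHom.mapMatrix_apply, Matrix.map_apply, Matrix.of_apply, RingHom.coe_coe, hgd,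
        Matrix.one_apply, Pi.single_apply]
      simp [eq_comm]
    change (f : MvPolynomial (Fin n) A →+* R₀ ⧸ J) (jacDet g) = 1
    rw [h1, h2, Matrix.det_one]
  -- the map `JacQuot g → B`
  let τ₀ : JacQuot g →ₐ[A] R₀ := Ideal.Quotient.liftₐ _ π (by
    intro a ha
    refine Submodule.span_induction (p := fun a _ => π a = 0) ?_ ?_ ?_ ?_ ha
    · rintro _ ⟨i, rfl⟩; exact hgπ i
    · exact map_zero _
    · intro x y _ _ hx hy; rw [map_add, hx, hy, add_zero]
    · intro c x _ hx; rw [smul_eq_mul, map_mul, hx, mul_zero])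
  let τ : JacQuot g →ₐ[A] B := (IsScalarTower.toAlgHom A R₀ B).comp τ₀
  have hτ : ∀ q : MvPolynomial (Fin n) A, τ (Ideal.Quotient.mk _ q) = algebraMap R₀ B (π q) := by
    intro q; rfl
  have hunit : IsUnit (τ (jacPre g).jacobian) := by
    rw [jacPre_jacobian, hτ]
    have h1 : π (jacDet g) - 1 ∈ J := by
      have := hdet
      change Ideal.Quotient.mk J (π (jacDet g)) = 1 at this
      rw [← map_one (Ideal.Quotient.mk J), Ideal.Quotient.eq] at this
      exact this
    have h2 : algebraMap R₀ B (π (jacDet g)) - 1 ∈ J.map (algebraMap R₀ B) := by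
      have := Ideal.mem_map_of_mem (algebraMap R₀ B) h1
      rwa [map_sub, map_one] at this
    have h3 := hB.1.jac h2
    have h4 := (Ideal.mem_jacobson_bot.mp h3) 1
    rw [mul_one, sub_add_cancel] at h4
    exact h4
  let θ : JacAlg g →ₐ[A] B := IsLocalization.Away.liftAlgHom (jacPre g).jacobian (f := τ) hunit
  refine ⟨JacAlg g, inferInstance, inferInstance, inferInstance, θ, ?_⟩
  intro b
  obtain ⟨r₀, hr₀⟩ := exists_sub_mem_of_isPairHenselization hB b
  obtain ⟨q, rfl⟩ := hπ r₀
  refine ⟨algebraMap (JacQuot g) (JacAlg g) (Ideal.Quotient.mk _ q), ?_⟩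
  have h1 : θ (algebraMap (JacQuot g) (JacAlg g) (Ideal.Quotient.mk _ q)) = algebraMap R₀ B (π q) := by
    rw [IsLocalization.Away.liftAlgHom_apply, IsLocalization.Away.lift_eq]
    rfl
  rw [h1, ← map_tower_eq (R := R₀)]
  exact hr₀

end ModelA

section Shrink

variable {A : Type u} [CommRing A] (I : Ideal A)
  {R : Type u} [CommRing R] [Algebra A R]
  {B : Type u} [CommRing B] [Algebra A B]

/-- Step B: localizing away the extra components. -/
theorem exists_shrink [Algebra.Etale A R] (hjac : I.map (algebraMap A B) ≤ Ideal.jacobson ⊥) (θ : R →ₐ[A] B)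
    (ε : R) (h1 : θ ε ∈ I.map (algebraMap A B))
    (h2 : ∀ x, θ x ∈ I.map (algebraMap A B) → (1 - ε) * x ∈ I.map (algebraMap A R)) :
    ∃ (R' : Type u) (_ : CommRing R') (_ : Algebra A R') (_ : Algebra.Etale A R')
      (θ' : R' →ₐ[A] B) (j : R →ₐ[A] R'), θ'.comp j = θ ∧
      ∀ x', θ' x' ∈ I.map (algebraMap A B) → x' ∈ I.map (algebraMap A R') := by
  have hunit : IsUnit (θ (1 - ε)) := by
    have h3 := hjac h1
    have h4 := (Ideal.mem_jacobson_bot.mp h3) (-1)
    have : θ (1 - ε) = θ ε * -1 + 1 := by rw [map_sub, map_one]; ring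
    rwa [this]
  let R' := Localization.Away (1 - ε)
  haveI : Algebra.Etale A R' := Algebra.Etale.comp A R _
  let θ' : R' →ₐ[A] B := IsLocalization.Away.liftAlgHom (1 - ε) (f := θ) hunit
  let j : R →ₐ[A] R' := IsScalarTower.toAlgHom A R R'
  have hθj : ∀ x, θ' (algebraMap R R' x) = θ x := by
    intro x
    rw [IsLocalization.Away.liftAlgHom_apply, IsLocalization.Away.lift_eq]
    rfl
  refine ⟨R', inferInstance, inferInstance, inferInstance, θ', j, ?_, ?_⟩
  · ext x
    exact hθj x
  · intro x' hx'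
    obtain ⟨x, s, rfl⟩ := IsLocalization.exists_mk'_eq (Submonoid.powers (1 - ε)) x'
    obtain ⟨k, hk⟩ := s.2
    set y := IsLocalization.mk' R' x s with hy
    have hmk : y * algebraMap R R' ((1 - ε) ^ k) = algebraMap R R' x := by
      have hk' : (1 - ε) ^ k = (s : R) := hk
      rw [hk']; exact IsLocalization.mk'_spec _ _ _
    have hx : θ x ∈ I.map (algebraMap A B) := by
      rw [← hθj, ← hmk, map_mul]
      exact Ideal.mul_mem_right _ _ hx'
    have h3 := h2 x hx
    have h4 : algebraMap R R' ((1 - ε) * x) ∈ I.map (algebraMap A R') := by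
      have := Ideal.mem_map_of_mem (algebraMap R R') h3
      rwa [Ideal.map_map, ← IsScalarTower.algebraMap_eq] at this
    have hu : IsUnit (algebraMap R R' (1 - ε)) := IsLocalization.Away.algebraMap_isUnit _
    have hu' : IsUnit (algebraMap R R' ((1 - ε) ^ (k + 1))) := by
      rw [map_pow]; exact hu.pow _
    obtain ⟨v, hv⟩ := hu'.exists_left_inv
    have h5 : y = v * algebraMap R R' ((1 - ε) * x) := by
      have e1 : algebraMap R R' ((1 - ε) * x) = algebraMap R R' ((1 - ε) ^ (k + 1)) * y := by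
        rw [map_mul, ← hmk, pow_succ, map_mul (algebraMap R R') ((1 - ε) ^ k) (1 - ε)]
        ring
      rw [e1, ← mul_assoc, hv, one_mul]
    rw [h5]
    exact Ideal.mul_mem_left _ _ h4

end Shrink

section PowInj

variable {A : Type u} [CommRing A] (I : Ideal A)
  {H : Type u} [CommRing H] [Algebra A H]
  {B : Type u} [CommRing B] [Algebra H B] [Algebra A B] [IsScalarTower A H B]

/-- Step G: injectivity modulo `I` propagates to all powers. -/
theorem mem_pow_of_map_mem_pow (hsurj : Function.Surjective (algebraMap H B))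
    (hinj : ∀ h : H, algebraMap H B h ∈ I.map (algebraMap A B) → h ∈ I.map (algebraMap A H))
    (n : ℕ)
    [Algebra.FormallyUnramified (A ⧸ I ^ n) (H ⧸ (I ^ n).map (algebraMap A H))]
    [Algebra.FormallySmooth (A ⧸ I ^ n) (B ⧸ (I ^ n).map (algebraMap A B))]
    (h : H) (hh : algebraMap H B h ∈ (I ^ n).map (algebraMap A B)) :
    h ∈ (I ^ n).map (algebraMap A H) := by
  let u := quotPowHom (I := I) (R := H) (B := B) n
  have hu : Function.Surjective u := by
    intro y
    obtain ⟨b, rfl⟩ := Ideal.Quotient.mk_surjective y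
    obtain ⟨x, rfl⟩ := hsurj b
    exact ⟨Ideal.Quotient.mk _ x, rfl⟩
  have hker : RingHom.ker (u : (H ⧸ (I ^ n).map (algebraMap A H)) →+* (B ⧸ (I ^ n).map (algebraMap A B))) ≤
      (I.map (algebraMap A H)).map (Ideal.Quotient.mk ((I ^ n).map (algebraMap A H))) := by
    intro x hx
    obtain ⟨y, rfl⟩ := Ideal.Quotient.mk_surjective x
    have h1 : Ideal.Quotient.mk _ (algebraMap H B y) = 0 := hx
    have h2 := Ideal.Quotient.eq_zero_iff_mem.mp h1
    by_cases hn : n = 0
    · subst hn
      have : (I ^ 0).map (algebraMap A H) = ⊤ := by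
        rw [pow_zero, Ideal.one_eq_top, Ideal.map_top]
      have : Ideal.Quotient.mk ((I ^ 0).map (algebraMap A H)) y = 0 := by
        rw [Ideal.Quotient.eq_zero_iff_mem, this]; trivial
      rw [this]; exact Ideal.zero_mem _
    · have h3 : (I ^ n).map (algebraMap A B) ≤ I.map (algebraMap A B) :=
        Ideal.map_mono (Ideal.pow_le_self hn)
      exact Ideal.mem_map_of_mem _ (hinj y (h3 h2))
  have hnil : IsNilpotent (RingHom.ker (u : (H ⧸ (I ^ n).map (algebraMap A H)) →+* (B ⧸ (I ^ n).map (algebraMap A B)))) := by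
    refine ⟨n, ?_⟩
    rw [Ideal.zero_eq_bot, eq_bot_iff]
    refine (Ideal.pow_right_mono hker n).trans ?_
    rw [← Ideal.map_pow, ← Ideal.map_pow, Ideal.map_quotient_self]
  have hinj' := injective_of_nilpotent_ker u hu hnil
  have h1 : u (Ideal.Quotient.mk _ h) = 0 := by
    rw [quotPowHom_mk]
    exact Ideal.Quotient.eq_zero_iff_mem.mpr hh
  have h2 : Ideal.Quotient.mk ((I ^ n).map (algebraMap A H)) h = 0 := hinj' (by rw [h1, map_zero])
  exact Ideal.Quotient.eq_zero_iff_mem.mp h2

end PowInj

theorem formallyUnramified_quotient_of_eq {A R : Type*} [CommRing A] [CommRing R] [Algebra A R]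
    {K K' : Ideal R} (h : K = K') [Algebra.FormallyUnramified A (R ⧸ K)] :
    Algebra.FormallyUnramified A (R ⧸ K') := by
  subst h; infer_instance

section Main1

variable (A : Type u) [CommRing A] (I : Ideal A)
  (R₀ : Type u) [CommRing R₀] [Algebra A R₀] [Algebra.FinitePresentation A R₀]
  (B : Type u) [CommRing B] [Algebra R₀ B] [Algebra A B] [IsScalarTower A R₀ B]
  (hB : Hens2.IsPairHenselization R₀ (I.map (algebraMap A R₀)) B)

include hB in
theorem exists_etale_model_bijective
    (het1 : Algebra.Etale (A ⧸ I ^ 1) (B ⧸ (I ^ 1).map (algebraMap A B))) :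
    ∃ (R : Type u) (_ : CommRing R) (_ : Algebra A R) (_ : Algebra.Etale A R) (θ : R →ₐ[A] B),
      (∀ b : B, ∃ r : R, b - θ r ∈ I.map (algebraMap A B)) ∧
      ∀ x, θ x ∈ I.map (algebraMap A B) → x ∈ I.map (algebraMap A R) := by
  haveI := hB.1
  have hjacB : I.map (algebraMap A B) ≤ Ideal.jacobson ⊥ := by
    rw [← map_tower_eq (R := R₀)]; exact hB.1.jac
  haveI e1 : Algebra.Etale (A ⧸ I ^ 1) (R₀ ⧸ (I ^ 1).map (algebraMap A R₀)) :=
    Algebra.Etale.of_equiv (quotPowEquiv hB 1).symm
  haveI : Algebra.FormallyUnramified A (A ⧸ I ^ 1) :=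
    Algebra.FormallyUnramified.of_surjective (Algebra.ofId A (A ⧸ I ^ 1))
      Ideal.Quotient.mk_surjective
  haveI : Algebra.FormallyUnramified A (R₀ ⧸ (I ^ 1).map (algebraMap A R₀)) :=
    Algebra.FormallyUnramified.comp A (A ⧸ I ^ 1) _
  haveI : Algebra.FormallyUnramified A (R₀ ⧸ I.map (algebraMap A R₀)) :=
    formallyUnramified_quotient_of_eq (K := (I ^ 1).map (algebraMap A R₀)) (by rw [pow_one])
  obtain ⟨R₁, _, _, _, θ₁, hθ₁⟩ := exists_etale_model A I R₀ B hB
  letI : Algebra R₁ B := θ₁.toRingHom.toAlgebra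
  haveI : IsScalarTower A R₁ B := IsScalarTower.of_algebraMap_eq (fun a => (θ₁.commutes a).symm)
  have hθalg : ∀ x : R₁, algebraMap R₁ B x = θ₁ x := fun _ => rfl
  haveI : Algebra.Etale (A ⧸ I ^ 1) (R₁ ⧸ (I ^ 1).map (algebraMap A R₁)) :=
    Algebra.Etale.of_equiv (Algebra.TensorProduct.quotIdealMapEquivQuotTensor R₁ (I ^ 1)).symm
  let u := quotPowHom (I := I) (R := R₁) (B := B) 1
  have hu : Function.Surjective u := by
    intro y
    obtain ⟨b, rfl⟩ := Ideal.Quotient.mk_surjective y
    obtain ⟨r, hr⟩ := hθ₁ b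
    refine ⟨Ideal.Quotient.mk _ r, ?_⟩
    rw [quotPowHom_mk, hθalg, eq_comm, Ideal.Quotient.eq, pow_one]
    exact hr
  obtain ⟨eb, heb, hker⟩ := exists_idempotent_ker_eq u hu
  obtain ⟨ε, rfl⟩ := Ideal.Quotient.mk_surjective eb
  have h1 : θ₁ ε ∈ I.map (algebraMap A B) := by
    have h : Ideal.Quotient.mk ((I ^ 1).map (algebraMap A R₁)) ε ∈
        RingHom.ker (u : (R₁ ⧸ (I ^ 1).map (algebraMap A R₁)) →+*
          (B ⧸ (I ^ 1).map (algebraMap A B))) := by
      rw [hker]; exact Ideal.subset_span rfl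
    have h' : u (Ideal.Quotient.mk _ ε) = 0 := h
    rw [quotPowHom_mk, hθalg, Ideal.Quotient.eq_zero_iff_mem, pow_one] at h'
    exact h'
  have h2 : ∀ x, θ₁ x ∈ I.map (algebraMap A B) → (1 - ε) * x ∈ I.map (algebraMap A R₁) := by
    intro x hx
    have h : Ideal.Quotient.mk ((I ^ 1).map (algebraMap A R₁)) x ∈
        RingHom.ker (u : (R₁ ⧸ (I ^ 1).map (algebraMap A R₁)) →+*
          (B ⧸ (I ^ 1).map (algebraMap A B))) := by
      show u (Ideal.Quotient.mk _ x) = 0
      rw [quotPowHom_mk, hθalg, Ideal.Quotient.eq_zero_iff_mem, pow_one]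
      exact hx
    rw [hker] at h
    obtain ⟨y, hy⟩ := Ideal.mem_span_singleton'.mp h
    have h3 : Ideal.Quotient.mk ((I ^ 1).map (algebraMap A R₁)) ((1 - ε) * x) = 0 := by
      rw [map_mul, map_sub, map_one, ← hy]
      have := heb.eq
      linear_combination (-y) * this
    have h4 := Ideal.Quotient.eq_zero_iff_mem.mp h3
    rwa [pow_one] at h4
  obtain ⟨R, _, _, _, θ, j, hθj, hinj⟩ := exists_shrink I hjacB θ₁ ε h1 h2
  refine ⟨R, inferInstance, inferInstance, inferInstance, θ, ?_, hinj⟩
  intro b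
  obtain ⟨r, hr⟩ := hθ₁ b
  refine ⟨j r, ?_⟩
  have : θ (j r) = θ₁ r := AlgHom.congr_fun hθj r
  rwa [this]

end Main1

section Main2

variable (A : Type u) [CommRing A] (I : Ideal A)
  (R₀ : Type u) [CommRing R₀] [Algebra A R₀] [Algebra.FinitePresentation A R₀]
  (B : Type u) [CommRing B] [Algebra R₀ B] [Algebra A B] [IsScalarTower A R₀ B]
  (hB : Hens2.IsPairHenselization R₀ (I.map (algebraMap A R₀)) B)

/-- The structure of the map `hens(R) → B` for a formally unramified finitely presented model `R`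
with `R → B` bijective modulo `I`. -/
theorem structure_of_model [hA : HenselianRing A I]
    (hB : Hens2.IsPairHenselization R₀ (I.map (algebraMap A R₀)) B)
    (R : Type u) [CommRing R] [Algebra A R] [Algebra.FinitePresentation A R]
    (θ : R →ₐ[A] B)
    (hsurj : ∀ b : B, ∃ r : R, b - θ r ∈ I.map (algebraMap A B))
    (hinj : ∀ x, θ x ∈ I.map (algebraMap A B) → x ∈ I.map (algebraMap A R))
    (H : Type u) [CommRing H] [Algebra R H] [Algebra A H] [IsScalarTower A R H]
    (hH : Hens2.IsPairHenselization R (I.map (algebraMap A R)) H) :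
    ∃ φ : H →ₐ[A] B, (∀ r, φ (algebraMap R H r) = θ r) ∧ Function.Surjective φ ∧
      (RingHom.ker φ).FG ∧
      (∀ h, φ h ∈ I.map (algebraMap A B) → h ∈ I.map (algebraMap A H)) := by
  haveI hBh : HenselianRing B (I.map (algebraMap A B)) := by
    rw [← map_tower_eq (R := R₀)]; exact hB.1
  haveI hHh : HenselianRing H (I.map (algebraMap A H)) := by
    rw [← map_tower_eq (R := R)]; exact hH.1
  -- the map φ
  obtain ⟨g, hg, -⟩ := hH.2 B (I.map (algebraMap A B)) θ.toRingHom hBh (by
    rw [Ideal.map_map]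
    have : (θ.toRingHom).comp (algebraMap A R) = algebraMap A B := by
      ext a; exact θ.commutes a
    rw [this])
  have hgθ : ∀ r, g (algebraMap R H r) = θ r := fun r => RingHom.congr_fun hg r
  let φ : H →ₐ[A] B :=
    { g with
      commutes' := fun a => by
        show g (algebraMap A H a) = algebraMap A B a
        rw [IsScalarTower.algebraMap_apply A R H, hgθ, θ.commutes] }
  have hφθ : ∀ r, φ (algebraMap R H r) = θ r := hgθ
  -- injectivity mod I
  have hinjφ : ∀ h, φ h ∈ I.map (algebraMap A B) → h ∈ I.map (algebraMap A H) := by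
    intro h hh
    obtain ⟨r, hr⟩ := exists_sub_mem_of_isPairHenselization hH h
    rw [map_tower_eq] at hr
    have h1 : φ (h - algebraMap R H r) ∈ I.map (algebraMap A B) := by
      have := Ideal.mem_map_of_mem (φ : H →+* B) hr
      rwa [Ideal.map_map, show ((φ : H →+* B).comp (algebraMap A H)) = algebraMap A B from
        RingHom.ext fun a => φ.commutes a] at this
    have h2 : θ r ∈ I.map (algebraMap A B) := by
      rw [map_sub, hφθ] at h1
      have := sub_mem hh h1
      rwa [sub_sub_cancel] at this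
    have h3 := hinj r h2
    have h4 : algebraMap R H r ∈ I.map (algebraMap A H) := by
      have := Ideal.mem_map_of_mem (algebraMap R H) h3
      rwa [map_tower_eq] at this
    have := add_mem hr h4
    rwa [sub_add_cancel] at this
  -- B is hfp over H
  letI : Algebra H B := φ.toRingHom.toAlgebra
  haveI : IsScalarTower A H B := IsScalarTower.of_algebraMap_eq (fun a => (φ.commutes a).symm)
  have hφalg : ∀ h : H, algebraMap H B h = φ h := fun _ => rfl
  obtain ⟨T, _, _, _, _, hTfp, hT⟩ := exists_hfp_cancel A I R H hH R₀ B hB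
  have hmapHB : (I.map (algebraMap A H)).map (algebraMap H B) = I.map (algebraMap A B) :=
    map_tower_eq
  have hsurjq : Function.Surjective
      (Ideal.quotientMap ((I.map (algebraMap A H)).map (algebraMap H B)) (algebraMap H B)
        Ideal.le_comap_map) := by
    intro y
    obtain ⟨b, rfl⟩ := Ideal.Quotient.mk_surjective y
    obtain ⟨r, hr⟩ := hsurj b
    refine ⟨Ideal.Quotient.mk _ (algebraMap R H r), ?_⟩
    rw [Ideal.quotientMap_mk, hφalg, hφθ, eq_comm, Ideal.Quotient.eq, hmapHB]
    exact hr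
  have hφsurj : Function.Surjective (algebraMap H B) :=
    surjective_algebraMap_of_surjective_quotient H (I.map (algebraMap A H)) T B hT hsurjq
  have hfin := ZMT.finite_of_hfin H (I.map (algebraMap A H)) T B hT
    (RingHom.Finite.of_surjective _ hsurjq)
  haveI := hfin.2
  have hfg : (RingHom.ker (Algebra.ofId H B).toRingHom).FG :=
    Algebra.FinitePresentation.ker_fG_of_surjective (Algebra.ofId H B) hφsurj
  refine ⟨φ, hφθ, hφsurj, ?_, hinjφ⟩
  convert hfg using 1
  ext x
  rw [RingHom.mem_ker, RingHom.mem_ker]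
  rfl

end Main2

section Main3

variable (A : Type u) [CommRing A] (I : Ideal A)
  (R₀ : Type u) [CommRing R₀] [Algebra A R₀] [Algebra.FinitePresentation A R₀]
  (B : Type u) [CommRing B] [Algebra R₀ B] [Algebra A B] [IsScalarTower A R₀ B]

theorem hEtale_structure [hA : HenselianRing A I]
    (hB : Hens2.IsPairHenselization R₀ (I.map (algebraMap A R₀)) B)
    (het : ∀ r : ℕ, 1 ≤ r → Algebra.Etale (A ⧸ I ^ r) (B ⧸ (I ^ r).map (algebraMap A B))) :
    ∃ (R : Type u) (_ : CommRing R) (_ : Algebra A R) (H : Type u) (_ : CommRing H) (_ : Algebra R H)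
      (_ : Algebra A H) (_ : IsScalarTower A R H),
      Algebra.Etale A R ∧ Hens2.IsPairHenselization R (I.map (algebraMap A R)) H ∧
      ∃ φ : H →ₐ[A] B, Function.Surjective φ ∧ (RingHom.ker φ).FG ∧
        ∀ n : ℕ, RingHom.ker φ ≤ (I ^ n).map (algebraMap A H) := by
  obtain ⟨R, _, _, hRet, θ, hsurj, hinj⟩ := exists_etale_model_bijective A I R₀ B hB (het 1 le_rfl)
  let H := Hp R (I.map (algebraMap A R))
  letI : Algebra A H := ((algebraMap R H).comp (algebraMap A R)).toAlgebra
  haveI : IsScalarTower A R H := IsScalarTower.of_algebraMap_eq (fun _ => rfl)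
  have hH : Hens2.IsPairHenselization R (I.map (algebraMap A R)) H := isPairHenselization R _
  obtain ⟨φ, hφθ, hφsurj, hfg, hinjφ⟩ := structure_of_model A I R₀ B hB R θ hsurj hinj H hH
  refine ⟨R, inferInstance, inferInstance, H, inferInstance, inferInstance, inferInstance,
    inferInstance, hRet, hH, φ, hφsurj, hfg, ?_⟩
  intro n x hx
  rcases Nat.eq_zero_or_pos n with hn | hn
  · subst hn
    rw [pow_zero, Ideal.one_eq_top, Ideal.map_top]; trivial
  letI : Algebra H B := φ.toRingHom.toAlgebra
  haveI : IsScalarTower A H B := IsScalarTower.of_algebraMap_eq (fun a => (φ.commutes a).symm)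
  haveI : Algebra.Etale (A ⧸ I ^ n) (H ⧸ (I ^ n).map (algebraMap A H)) :=
    etale_quotient_pow hH n
  haveI : Algebra.Etale (A ⧸ I ^ n) (B ⧸ (I ^ n).map (algebraMap A B)) := het n hn
  refine mem_pow_of_map_mem_pow I (H := H) (B := B) hφsurj hinjφ n x ?_
  have : φ x = 0 := hx
  show φ x ∈ _
  rw [this]; exact Ideal.zero_mem _

end Main3

theorem ker_eq_bot_of_flat {A H B : Type*} [CommRing A] [CommRing H] [CommRing B]
    [Algebra A H] [Algebra A B] [Module.Flat A B] (I : Ideal A)
    (hjac : I.map (algebraMap A H) ≤ Ideal.jacobson ⊥) (φ : H →ₐ[A] B)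
    (hφ : Function.Surjective φ) (hfg : (RingHom.ker φ).FG)
    (hle : RingHom.ker φ ≤ I.map (algebraMap A H)) : RingHom.ker φ = ⊥ := by
  set K := RingHom.ker φ with hK
  have h1 := LinearMap.ker_inf_smul_top_eq_smul_of_flat I φ.toLinearMap hφ
  have h2 : K ≤ I.map (algebraMap A H) • K := by
    intro x hx
    have hx1 : x ∈ LinearMap.ker φ.toLinearMap ⊓ I • (⊤ : Submodule A H) := by
      refine ⟨hx, ?_⟩
      rw [Ideal.smul_top_eq_map]
      exact hle hx
    rw [h1] at hx1
    refine Submodule.smul_induction_on hx1 ?_ ?_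
    · intro a ha k hk
      have e : a • k = algebraMap A H a • k := by rw [Algebra.smul_def, smul_eq_mul]
      rw [e]
      exact Submodule.smul_mem_smul (Ideal.mem_map_of_mem _ ha) hk
    · intro x y hx hy
      exact add_mem hx hy
  exact Submodule.eq_bot_of_le_smul_of_le_jacobson_bot _ K hfg h2 hjac

section FlatCase

variable (A : Type u) [CommRing A] (I : Ideal A)
  (B : Type u) [CommRing B] [Algebra A B] [Module.Flat A B]

theorem isPairHenselization_of_flat_of_structure
    (R : Type u) [CommRing R] [Algebra A R]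
    (H : Type u) [CommRing H] [Algebra R H] [Algebra A H] [IsScalarTower A R H]
    (hH : Hens2.IsPairHenselization R (I.map (algebraMap A R)) H)
    (φ : H →ₐ[A] B) (hφ : Function.Surjective φ) (hfg : (RingHom.ker φ).FG)
    (hle : ∀ n : ℕ, RingHom.ker φ ≤ (I ^ n).map (algebraMap A H)) :
    ∃ (_ : Algebra R B) (_ : IsScalarTower A R B),
      Hens2.IsPairHenselization R (I.map (algebraMap A R)) B := by
  have hjac : I.map (algebraMap A H) ≤ Ideal.jacobson ⊥ := by
    rw [← map_tower_eq (R := R)]; exact hH.1.jac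
  have hker : RingHom.ker φ = ⊥ := ker_eq_bot_of_flat I hjac φ hφ hfg (by
    have := hle 1; rwa [pow_one] at this)
  have hinj : Function.Injective φ := by
    rw [injective_iff_map_eq_zero]
    intro x hx
    have : x ∈ RingHom.ker φ := hx
    rwa [hker] at this
  letI : Algebra R B := ((φ : H →+* B).comp (algebraMap R H)).toAlgebra
  haveI : IsScalarTower A R B := IsScalarTower.of_algebraMap_eq (fun a => by
    show algebraMap A B a = φ (algebraMap R H (algebraMap A R a))
    rw [← IsScalarTower.algebraMap_apply, φ.commutes])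
  let e : H ≃ₐ[R] B :=
    AlgEquiv.ofBijective { (φ : H →+* B) with commutes' := fun r => rfl } ⟨hinj, hφ⟩
  exact ⟨inferInstance, inferInstance, isPairHenselization_of_algEquiv hH e⟩

end FlatCase

end Groth.Agent.H8.PairHens.HEt
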