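import Mathlib
import Groth.Agent.Lib.Helper8.PairHens.HEtale
import Groth.Agent.Lib.Helper8.PairHens.ZMT

/-! Lifting étale and finite étale algebras along `A → A/I` (helper8). -/

set_option autoImplicit false
universe u

namespace Groth.Agent.H8.PairHens.EtLift

open MvPolynomial Groth.Agent.H8.PairHens Groth.Agent.H8.Hens Groth.Agent.H8.PairHens.HEt

section Lift

variable (A : Type u) [CommRing A] (I : Ideal A)
  (C : Type u) [CommRing C] [Algebra A C] [Algebra (A ⧸ I) C] [IsScalarTower A (A ⧸ I) C]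

/-- an étale `A`-algebra surjecting onto a given étale `A/I`-algebra -/
theorem exists_etale_surjective [Algebra.Etale (A ⧸ I) C] :
    ∃ (R : Type u) (_ : CommRing R) (_ : Algebra A R) (_ : Algebra.Etale A R) (θ : R →ₐ[A] C),
      Function.Surjective θ := by
  classical
  haveI : Algebra.FormallyUnramified A (A ⧸ I) :=
    Algebra.FormallyUnramified.of_surjective (Algebra.ofId A (A ⧸ I)) Ideal.Quotient.mk_surjective
  haveI : Algebra.FormallyUnramified A C := Algebra.FormallyUnramified.comp A (A ⧸ I) C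
  haveI : Algebra.FiniteType A (A ⧸ I) :=
    Algebra.FiniteType.of_surjective (Algebra.ofId A (A ⧸ I)) Ideal.Quotient.mk_surjective
  haveI : Algebra.FiniteType A C := Algebra.FiniteType.trans (inferInstance : Algebra.FiniteType A (A ⧸ I)) inferInstance
  obtain ⟨n, π, hπ⟩ := Algebra.FiniteType.iff_quotient_mvPolynomial''.mp
    (inferInstance : Algebra.FiniteType A C)
  obtain ⟨g, hg, hg'⟩ := exists_relations_of_formallyUnramified π hπ
  have hdet : π (jacDet g) = 1 := by
    have h1 : (π : MvPolynomial (Fin n) A →+* C) (jacDet g) =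
        ((π : MvPolynomial (Fin n) A →+* C).mapMatrix
          (Matrix.of fun i j => MvPolynomial.pderiv j (g i))).det := by
      rw [jacDet, RingHom.map_det]
    have h2 : (π : MvPolynomial (Fin n) A →+* C).mapMatrix
        (Matrix.of fun i j => MvPolynomial.pderiv j (g i)) = 1 := by
      ext i j
      simp only [RingHom.mapMatrix_apply, Matrix.map_apply, Matrix.of_apply, RingHom.coe_coe, hg',
        Matrix.one_apply, Pi.single_apply]
      simp [eq_comm]
    change (π : MvPolynomial (Fin n) A →+* C) (jacDet g) = 1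
    rw [h1, h2, Matrix.det_one]
  let τ : JacQuot g →ₐ[A] C := Ideal.Quotient.liftₐ _ π (by
    intro a ha
    refine Submodule.span_induction (p := fun a _ => π a = 0) ?_ ?_ ?_ ?_ ha
    · rintro _ ⟨i, rfl⟩; exact hg i
    · exact map_zero _
    · intro x y _ _ hx hy; rw [map_add, hx, hy, add_zero]
    · intro c x _ hx; rw [smul_eq_mul, map_mul, hx, mul_zero])
  have hτ : ∀ q : MvPolynomial (Fin n) A, τ (Ideal.Quotient.mk _ q) = π q := fun q => rfl
  have hunit : IsUnit (τ (jacPre g).jacobian) := by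
    rw [jacPre_jacobian, hτ, hdet]; exact isUnit_one
  let θ : JacAlg g →ₐ[A] C := IsLocalization.Away.liftAlgHom (jacPre g).jacobian (f := τ) hunit
  refine ⟨JacAlg g, inferInstance, inferInstance, inferInstance, θ, ?_⟩
  intro c
  obtain ⟨q, rfl⟩ := hπ c
  refine ⟨algebraMap (JacQuot g) (JacAlg g) (Ideal.Quotient.mk _ q), ?_⟩
  rw [IsLocalization.Away.liftAlgHom_apply, IsLocalization.Away.lift_eq]
  rfl

theorem map_eq_bot : I.map (algebraMap A C) = ⊥ := by
  rw [eq_bot_iff, Ideal.map_le_iff_le_comap]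
  intro a ha
  rw [Ideal.mem_comap, Ideal.mem_bot, IsScalarTower.algebraMap_apply A (A ⧸ I) C]
  have : algebraMap A (A ⧸ I) a = 0 := Ideal.Quotient.eq_zero_iff_mem.mpr ha
  rw [this, map_zero]

/-- Étale algebras lift along `A → A/I`. -/
theorem exists_etale_lift [Algebra.Etale (A ⧸ I) C] :
    ∃ (R : Type u) (_ : CommRing R) (_ : Algebra A R) (_ : Algebra.Etale A R) (θ : R →ₐ[A] C),
      Function.Surjective θ ∧ ∀ x, θ x = 0 → x ∈ I.map (algebraMap A R) := by
  obtain ⟨R₁, _, _, _, θ₁, hθ₁⟩ := exists_etale_surjective A I C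
  have hbot : I.map (algebraMap A C) = ⊥ := map_eq_bot A I C
  haveI : Algebra.Etale (A ⧸ I) (R₁ ⧸ I.map (algebraMap A R₁)) :=
    Algebra.Etale.of_equiv (Algebra.TensorProduct.quotIdealMapEquivQuotTensor R₁ I).symm
  let u₀ : R₁ ⧸ I.map (algebraMap A R₁) →+* C := Ideal.Quotient.lift _ (θ₁ : R₁ →+* C) (by
    intro a ha
    have h1 : (θ₁ : R₁ →+* C) a ∈ (I.map (algebraMap A R₁)).map (θ₁ : R₁ →+* C) :=
      Ideal.mem_map_of_mem _ ha
    rw [Ideal.map_map, show ((θ₁ : R₁ →+* C).comp (algebraMap A R₁)) = algebraMap A C from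
      RingHom.ext fun a => θ₁.commutes a, hbot] at h1
    exact h1)
  let u : R₁ ⧸ I.map (algebraMap A R₁) →ₐ[A ⧸ I] C :=
    { u₀ with
      commutes' := fun x => by
        obtain ⟨a, rfl⟩ := Ideal.Quotient.mk_surjective x
        show u₀ (algebraMap (A ⧸ I) _ (Ideal.Quotient.mk I a)) = _
        rw [Ideal.Quotient.algebraMap_quotient_map_quotient]
        show θ₁ (algebraMap A R₁ a) = _
        rw [θ₁.commutes, IsScalarTower.algebraMap_apply A (A ⧸ I) C]
        rfl }
  have hu_mk : ∀ x : R₁, u (Ideal.Quotient.mk _ x) = θ₁ x := fun x => rfl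
  have hu : Function.Surjective u := by
    intro c
    obtain ⟨x, rfl⟩ := hθ₁ c
    exact ⟨Ideal.Quotient.mk _ x, rfl⟩
  obtain ⟨eb, heb, hker⟩ := exists_idempotent_ker_eq u hu
  obtain ⟨ε, rfl⟩ := Ideal.Quotient.mk_surjective eb
  have h1 : θ₁ ε ∈ I.map (algebraMap A C) := by
    have h : Ideal.Quotient.mk (I.map (algebraMap A R₁)) ε ∈
        RingHom.ker (u : (R₁ ⧸ I.map (algebraMap A R₁)) →+* C) := by
      rw [hker]; exact Ideal.subset_span rfl
    have h' : u (Ideal.Quotient.mk _ ε) = 0 := h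
    rw [hu_mk] at h'
    rw [h']; exact Ideal.zero_mem _
  have h2 : ∀ x, θ₁ x ∈ I.map (algebraMap A C) → (1 - ε) * x ∈ I.map (algebraMap A R₁) := by
    intro x hx
    rw [hbot, Ideal.mem_bot] at hx
    have h : Ideal.Quotient.mk (I.map (algebraMap A R₁)) x ∈
        RingHom.ker (u : (R₁ ⧸ I.map (algebraMap A R₁)) →+* C) := by
      show u (Ideal.Quotient.mk _ x) = 0
      rw [hu_mk, hx]
    rw [hker] at h
    obtain ⟨y, hy⟩ := Ideal.mem_span_singleton'.mp h
    have h3 : Ideal.Quotient.mk (I.map (algebraMap A R₁)) ((1 - ε) * x) = 0 := by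
      rw [map_mul, map_sub, map_one, ← hy]
      have := heb.eq
      linear_combination (-y) * this
    exact Ideal.Quotient.eq_zero_iff_mem.mp h3
  obtain ⟨R, _, _, _, θ, j, hθj, hinj⟩ := exists_shrink I (by rw [hbot]; exact bot_le) θ₁ ε h1 h2
  refine ⟨R, inferInstance, inferInstance, inferInstance, θ, ?_, ?_⟩
  · intro c
    obtain ⟨x, rfl⟩ := hθ₁ c
    exact ⟨j x, AlgHom.congr_fun hθj x⟩
  · intro x hx
    exact hinj x (by rw [hx]; exact Ideal.zero_mem _)

end Lift

section FEt

variable (A : Type u) [CommRing A] (I : Ideal A) [HenselianRing A I]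
  (C : Type u) [CommRing C] [Algebra A C] [Algebra (A ⧸ I) C] [IsScalarTower A (A ⧸ I) C]

theorem exists_finite_etale_lift [Module.Finite (A ⧸ I) C] [Algebra.Etale (A ⧸ I) C] :
    ∃ (B : Type u) (_ : CommRing B) (_ : Algebra A B), Module.Finite A B ∧ Algebra.Etale A B ∧
      Nonempty (TensorProduct A (A ⧸ I) B ≃ₐ[A ⧸ I] C) := by
  obtain ⟨R, _, _, _, θ, hθ, hker⟩ := exists_etale_lift A I C
  have hbot : I.map (algebraMap A C) = ⊥ := map_eq_bot A I C
  have hθI : ∀ x ∈ I.map (algebraMap A R), θ x = 0 := by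
    intro x hx
    have h1 : (θ : R →+* C) x ∈ (I.map (algebraMap A R)).map (θ : R →+* C) :=
      Ideal.mem_map_of_mem _ hx
    rw [Ideal.map_map, show ((θ : R →+* C).comp (algebraMap A R)) = algebraMap A C from
      RingHom.ext fun a => θ.commutes a, hbot] at h1
    exact h1
  -- R/IR ≅ C is finite over A
  haveI : Module.Finite A (A ⧸ I) :=
    Module.Finite.of_surjective (Algebra.linearMap A (A ⧸ I)) Ideal.Quotient.mk_surjective
  haveI : Module.Finite A C := Module.Finite.trans (A ⧸ I) C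
  let ψ : R ⧸ I.map (algebraMap A R) →ₐ[A] C := Ideal.Quotient.liftₐ _ θ hθI
  have hψ : Function.Bijective ψ := by
    constructor
    · rw [injective_iff_map_eq_zero]
      intro x hx
      obtain ⟨y, rfl⟩ := Ideal.Quotient.mk_surjective x
      exact Ideal.Quotient.eq_zero_iff_mem.mpr (hker y hx)
    · intro c
      obtain ⟨y, rfl⟩ := hθ c
      exact ⟨Ideal.Quotient.mk _ y, rfl⟩
  haveI : Module.Finite A (R ⧸ I.map (algebraMap A R)) :=
    Module.Finite.equiv (LinearEquiv.ofBijective ψ.toLinearMap hψ).symm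
  obtain ⟨e, he, he1, hfe⟩ := ZMT.exists_idempotent_finite A I R
  let B := R ⧸ Ideal.span {1 - e}
  haveI : IsLocalization.Away e B := IsLocalization.Away.quotient_of_isIdempotentElem he
  haveI : Algebra.Etale R B := Algebra.Etale.of_isLocalizationAway e
  haveI : Algebra.Etale A B := Algebra.Etale.comp A R B
  refine ⟨B, inferInstance, inferInstance, hfe, inferInstance, ?_⟩
  -- the isomorphism
  let Ψ₀ : B →ₐ[A] C := Ideal.Quotient.liftₐ _ θ (by
    intro a ha
    obtain ⟨y, rfl⟩ := Ideal.mem_span_singleton'.mp ha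
    rw [map_mul, hθI _ he1, mul_zero])
  have hΨ₀ : ∀ x : R, Ψ₀ (Ideal.Quotient.mk _ x) = θ x := fun x => rfl
  have hΨ₀I : ∀ b ∈ I.map (algebraMap A B), Ψ₀ b = 0 := by
    intro b hb
    have h1 : (Ψ₀ : B →+* C) b ∈ (I.map (algebraMap A B)).map (Ψ₀ : B →+* C) :=
      Ideal.mem_map_of_mem _ hb
    rw [Ideal.map_map, show ((Ψ₀ : B →+* C).comp (algebraMap A B)) = algebraMap A C from
      RingHom.ext fun a => Ψ₀.commutes a, hbot] at h1
    exact h1
  let Ψ₁ : B ⧸ I.map (algebraMap A B) →+* C := Ideal.Quotient.lift _ (Ψ₀ : B →+* C) hΨ₀I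
  let Ψ : B ⧸ I.map (algebraMap A B) →ₐ[A ⧸ I] C :=
    { Ψ₁ with
      commutes' := fun x => by
        obtain ⟨a, rfl⟩ := Ideal.Quotient.mk_surjective x
        show Ψ₁ (algebraMap (A ⧸ I) _ (Ideal.Quotient.mk I a)) = _
        rw [Ideal.Quotient.algebraMap_quotient_map_quotient]
        show Ψ₀ (algebraMap A B a) = _
        rw [Ψ₀.commutes, IsScalarTower.algebraMap_apply A (A ⧸ I) C]
        rfl }
  have hΨ : Function.Bijective Ψ := by
    constructor
    · rw [injective_iff_map_eq_zero]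
      intro x hx
      obtain ⟨b, rfl⟩ := Ideal.Quotient.mk_surjective x
      obtain ⟨y, rfl⟩ := Ideal.Quotient.mk_surjective b
      have h1 : θ y = 0 := hx
      have h2 := hker y h1
      rw [Ideal.Quotient.eq_zero_iff_mem]
      have := Ideal.mem_map_of_mem (Ideal.Quotient.mk (Ideal.span {1 - e})) h2
      rwa [Ideal.map_map] at this
    · intro c
      obtain ⟨y, rfl⟩ := hθ c
      exact ⟨Ideal.Quotient.mk _ (Ideal.Quotient.mk _ y), rfl⟩
  exact ⟨(Algebra.TensorProduct.quotIdealMapEquivQuotTensor B I).symm.trans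
    (AlgEquiv.ofBijective Ψ hΨ)⟩

end FEt

end Groth.Agent.H8.PairHens.EtLift
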