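import Mathlib
import Groth.Agent.Lib.Helper8.Hens.Noeth
import Groth.Agent.Lib.Helper8.PairHens.PowQuot
import Groth.Agent.Lib.Helper8.PairHens.Unique

set_option autoImplicit false
universe u v
open TensorProduct

namespace Groth.Agent.H8.PairHens.NoethPair

open Groth.Agent.H8.PairHens

section Completion

variable {A B : Type*} [CommRing A] [CommRing B] [Algebra A B] (I : Ideal A)

theorem mem_pow_smul_top_iff (n : ℕ) (z : B) :
    z ∈ (I ^ n • ⊤ : Submodule A B) ↔ z ∈ (I ^ n).map (algebraMap A B) := by
  rw [Ideal.smul_top_eq_map, Submodule.restrictScalars_mem]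

theorem mem_pow_smul_top_self_iff (n : ℕ) (a : A) :
    a ∈ (I ^ n • ⊤ : Submodule A A) ↔ a ∈ I ^ n := by
  rw [mem_pow_smul_top_iff, Algebra.algebraMap_self, Ideal.map_id]

/-- The map on `I`-adic completions is bijective if `A/Iⁿ → B/IⁿB` is bijective for all `n`. -/
theorem bijective_adicCompletion_map
    (hsurj : ∀ (n : ℕ) (z : B), ∃ a : A, z - algebraMap A B a ∈ (I ^ n).map (algebraMap A B))
    (hinj : ∀ (n : ℕ) (a : A), algebraMap A B a ∈ (I ^ n).map (algebraMap A B) → a ∈ I ^ n) :
    Function.Bijective (AdicCompletion.map I (Algebra.linearMap A B)) := by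
  constructor
  · rw [injective_iff_map_eq_zero]
    intro x hx
    obtain ⟨a, rfl⟩ := AdicCompletion.mk_surjective I A x
    rw [AdicCompletion.map_mk] at hx
    apply AdicCompletion.ext
    intro n
    have h1 := congrArg (fun y => y.val n) hx
    simp only [AdicCompletion.mk_apply_coe, AdicCompletion.val_zero, Submodule.mkQ_apply,
      Submodule.Quotient.mk_eq_zero, Pi.zero_apply] at h1
    have h2 : algebraMap A B (a n) ∈ (I ^ n).map (algebraMap A B) :=
      (mem_pow_smul_top_iff I n _).mp h1
    have h3 := hinj n _ h2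
    simp only [AdicCompletion.mk_apply_coe, AdicCompletion.val_zero, Submodule.mkQ_apply,
      Pi.zero_apply, Submodule.Quotient.mk_eq_zero]
    exact (mem_pow_smul_top_self_iff I n _).mpr h3
  · intro y
    obtain ⟨b, rfl⟩ := AdicCompletion.mk_surjective I B y
    choose a ha using fun n => hsurj n (b n)
    have hcauchy : ∀ n, a n ≡ a (n + 1) [SMOD (I ^ n • ⊤ : Submodule A A)] := by
      intro n
      rw [SModEq.sub_mem, mem_pow_smul_top_self_iff]
      apply hinj
      have h1 : b n - b (n + 1) ∈ (I ^ n).map (algebraMap A B) := by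
        rw [← mem_pow_smul_top_iff, ← SModEq.sub_mem]
        exact b.property (Nat.le_succ n)
      have h2 : b (n + 1) - algebraMap A B (a (n + 1)) ∈ (I ^ n).map (algebraMap A B) :=
        Ideal.map_mono (Ideal.pow_le_pow_right (Nat.le_succ n)) (ha (n + 1))
      have h3 : algebraMap A B (a n - a (n + 1)) =
          -(b n - algebraMap A B (a n)) + (b n - b (n + 1)) +
            (b (n + 1) - algebraMap A B (a (n + 1))) := by
        rw [map_sub]; ring
      rw [h3]
      exact Ideal.add_mem _ (Ideal.add_mem _ (neg_mem (ha n)) h1) h2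
    refine ⟨AdicCompletion.mk I A (AdicCompletion.AdicCauchySequence.mk I A a hcauchy), ?_⟩
    rw [AdicCompletion.map_mk]
    apply AdicCompletion.ext
    intro n
    simp only [AdicCompletion.mk_apply_coe, Submodule.mkQ_apply]
    rw [eq_comm, Submodule.Quotient.eq, mem_pow_smul_top_iff]
    exact ha n

end Completion

namespace H

variable {R K : Type u} [CommRing R] [CommRing K] [Algebra R K]

/-- An `H R K`-module which is flat over `R` is flat over `H R K`. -/
theorem flat_of_flat_base (M : Type v) [AddCommGroup M] [Module R M] [Module (H R K) M]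
    [IsScalarTower R (H R K) M] [Module.Flat R M] : Module.Flat (H R K) M := by
  apply Module.Flat.of_forall_isTrivialRelation
  intro l f x hfx
  obtain ⟨i, f', hf'⟩ := H.exists_of_fin f
  letI : Module i.Loc M := Module.compHom M (H.of i)
  have hsmul : ∀ (a : i.Loc) (m : M), a • m = H.of i a • m := fun _ _ => rfl
  haveI : IsScalarTower R i.Loc M := by
    refine ⟨fun r a m => ?_⟩
    rw [hsmul, hsmul, ← H.ofₐ_apply, map_smul, smul_assoc, H.ofₐ_apply]
  haveI : Module.Flat i.Loc M := Algebra.FormallyUnramified.flat_of_restrictScalars R i.Loc M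
  have h2 : ∑ m, f' m • x m = 0 := by
    rw [← hfx]
    refine Finset.sum_congr rfl fun m _ => ?_
    rw [hsmul, hf']
  obtain ⟨k, a, y, hy1, hy2⟩ := Module.Flat.isTrivialRelation_of_sum_smul_eq_zero h2
  refine ⟨k, fun m n => H.of i (a m n), y, fun m => ?_, fun n => ?_⟩
  · rw [hy1 m]
    rfl
  · have := congrArg (H.of i) (hy2 n)
    rw [map_sum, map_zero] at this
    rw [← this]
    refine Finset.sum_congr rfl fun m _ => ?_
    rw [map_mul, hf']

end H

variable (A : Type u) [CommRing A] (I : Ideal A)

/-- The constructed henselization of a Noetherian pair is Noetherian. -/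
theorem Hp.isNoetherianRing [IsNoetherianRing A] : IsNoetherianRing (Hp A I) := by
  set J := I.map (algebraMap A (Hp A I)) with hJ
  have hfg : J.FG := Ideal.FG.map (IsNoetherian.noetherian _) _
  haveI hq : IsNoetherianRing (Hp A I ⧸ J) := by
    have e := RingHom.quotientKerEquivOfSurjective (Hp.pt_surjective (A := A) (I := I))
    have e2 : Hp A I ⧸ J ≃+* Hp A I ⧸ RingHom.ker (H.pt A (A ⧸ I)) :=
      Ideal.quotEquivOfEq (by rw [hJ, Hp.ker_pt])
    exact isNoetherianRing_of_ringEquiv (A ⧸ I) (e2.trans e).symm
  haveI hflat : Module.Flat A (AdicCompletion J (Hp A I)) :=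
    Groth.Agent.H8.Hens.flat_adicCompletion A (Hp A I) I
  haveI : Module.Flat (Hp A I) (AdicCompletion J (Hp A I)) := H.flat_of_flat_base _
  haveI : IsNoetherianRing (AdicCompletion J (Hp A I)) :=
    Groth.Agent.H8.Hens.isNoetherianRing_adicCompletion_of_fg _ _ hfg
  have hjac : J ≤ Ideal.jacobson ⊥ := (Hp.henselianRing (A := A) (I := I)).jac
  haveI : Module.FaithfullyFlat (Hp A I) (AdicCompletion J (Hp A I)) := by
    refine ⟨fun m hm htop => ?_⟩
    have h1 : (1 : AdicCompletion J (Hp A I)) ∈
        (m • ⊤ : Submodule (Hp A I) (AdicCompletion J (Hp A I))) := by rw [htop]; trivial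
    rw [Ideal.smul_top_eq_map, Submodule.restrictScalars_mem] at h1
    have h2 := Ideal.mem_map_of_mem (AdicCompletion.evalOneₐ J).toRingHom h1
    rw [Ideal.map_map, map_one] at h2
    have h3 : (AdicCompletion.evalOneₐ J).toRingHom.comp
        (algebraMap (Hp A I) (AdicCompletion J (Hp A I))) = Ideal.Quotient.mk J := by
      ext x
      exact (AdicCompletion.evalOneₐ J).commutes x
    rw [h3, ← Ideal.eq_top_iff_one] at h2
    have h4 := congrArg (Ideal.comap (Ideal.Quotient.mk J)) h2
    rw [Ideal.comap_map_of_surjective _ Ideal.Quotient.mk_surjective, ← RingHom.ker_eq_comap_bot,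
      Ideal.mk_ker, Ideal.comap_top] at h4
    have hJm : J ≤ m := by
      refine hjac.trans ?_
      rw [Ideal.jacobson]
      exact sInf_le ⟨bot_le, hm⟩
    rw [sup_eq_left.mpr hJm] at h4
    exact hm.ne_top h4
  exact Groth.Agent.H1.RegFlat.isNoetherianRing_of_faithfullyFlat (Hp A I)
    (AdicCompletion J (Hp A I))


/-- Stacks 0AGV: the henselization of a Noetherian pair is Noetherian, flat, with the same
completion. -/
theorem main (A : Type u) [CommRing A] [IsNoetherianRing A] (I : Ideal A)
    (B : Type u) [CommRing B] [Algebra A B] (hB : Hens2.IsPairHenselization A I B) :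
    IsNoetherianRing B ∧ Module.Flat A B ∧
      Function.Bijective (AdicCompletion.map I (Algebra.linearMap A B) :
        AdicCompletion I A → AdicCompletion I B) := by
  refine ⟨?_, flat_of_isPairHenselization hB, ?_⟩
  · haveI := Hp.isNoetherianRing A I
    exact isNoetherianRing_of_ringEquiv (Hp A I) (algEquiv hB).toRingEquiv
  · apply bijective_adicCompletion_map
    · intro n z
      exact exists_sub_mem_pow (exists_sub_mem_of_isPairHenselization hB) n z
    · intro n a ha
      exact mem_pow_of_algebraMap_mem hB n a ha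

end Groth.Agent.H8.PairHens.NoethPair
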