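/-
Helper8 library: maps from finitely presented algebras to the henselization of a pair factor
through an étale algebra `A'` with `A/I ≅ A'/IA'`.
-/
import Mathlib
import Groth.Agent.Lib.Helper8.PairHens.FinsetDescent

open TensorProduct Polynomial

namespace Groth.Agent.H8.PairHens

universe u

section Factor

variable {A : Type u} [CommRing A] {I : Ideal A} {B : Type u} [CommRing B] [Algebra A B]

/-- Elements of an étale algebra with `A/I ≅ A'/IA'` whose image in the henselization lies in `IB`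
lie in `IA'`. -/
theorem mem_map_of_isoMod (hB : Hens2.IsPairHenselization A I B)
    (A' : Type u) [CommRing A'] [Algebra A A'] [Algebra.Etale A A'] (h : IsoMod I A')
    (ι : A' →ₐ[A] B) (x : A') (hx : ι x ∈ I.map (algebraMap A B)) :
    x ∈ I.map (algebraMap A A') := by
  letI : Algebra A' B := ι.toRingHom.toAlgebra
  haveI : IsScalarTower A A' B := IsScalarTower.of_algebraMap_eq (fun a => (ι.commutes a).symm)
  have hB' := isPairHenselization_of_isoMod hB A' h
  have h1 := mem_pow_of_algebraMap_mem hB' 1 x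
  rw [pow_one] at h1
  apply h1
  rw [Ideal.map_map, ← IsScalarTower.algebraMap_eq]
  exact hx

/-- Kill finitely many elements dying in the henselization. -/
theorem exists_isoMod_kill_finset (hB : Hens2.IsPairHenselization A I B)
    (A' : Type u) [CommRing A'] [Algebra A A'] [Algebra.Etale A A'] (h : IsoMod I A')
    (φ : A' →ₐ[A] B) (s : Finset A') (hs : ∀ x ∈ s, φ x = 0) :
    ∃ (A'' : Type u) (_ : CommRing A'') (_ : Algebra A A'') (_ : Algebra.Etale A A''),
      IsoMod I A'' ∧ ∃ ψ : A' →ₐ[A] A'', ∀ x ∈ s, ψ x = 0 := by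
  classical
  induction s using Finset.induction with
  | empty =>
    exact ⟨A', inferInstance, inferInstance, inferInstance, h, AlgHom.id A A', by simp⟩
  | insert a s _ ih =>
    obtain ⟨E₁, _, _, _, h₁, ψ₁, hψ₁⟩ := ih (fun x hx => hs x (Finset.mem_insert_of_mem hx))
    obtain ⟨φ₁⟩ := exists_algHom_of_isoMod hB E₁ h₁
    have e1 : φ₁.comp ψ₁ = φ := algHom_ext_of_isoMod hB A' h _ _
    have h0 : φ₁ (ψ₁ a) = 0 := by
      have := AlgHom.congr_fun e1 a
      rw [AlgHom.comp_apply] at this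
      rw [this]
      exact hs a (Finset.mem_insert_self a s)
    obtain ⟨E₂, _, _, _, h₂, ψ₂, hψ₂⟩ := exists_isoMod_kill hB E₁ h₁ φ₁ (ψ₁ a) h0
    refine ⟨E₂, inferInstance, inferInstance, inferInstance, h₂, ψ₂.comp ψ₁, ?_⟩
    intro x hx
    rw [Finset.mem_insert] at hx
    rcases hx with rfl | hx
    · exact hψ₂
    · rw [AlgHom.comp_apply, hψ₁ x hx, map_zero]

/-- A map from a finitely presented algebra to the henselization of `(A, I)` factors through an
étale `A`-algebra `A'` with `A/I ≅ A'/IA'`. -/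
theorem exists_isoMod_factor (hB : Hens2.IsPairHenselization A I B)
    (P : Type u) [CommRing P] [Algebra A P] [Algebra.FinitePresentation A P] (φ : P →ₐ[A] B) :
    ∃ (A' : Type u) (_ : CommRing A') (_ : Algebra A A') (_ : Algebra.Etale A A'),
      IsoMod I A' ∧ ∃ (ψ : P →ₐ[A] A') (ι : A' →ₐ[A] B), ι.comp ψ = φ := by
  classical
  obtain ⟨n, π, hπ, hfg⟩ := (Algebra.FinitePresentation.out : ∃ (n : ℕ)
    (f : MvPolynomial (Fin n) A →ₐ[A] P), Function.Surjective f ∧ (RingHom.ker f.toRingHom).FG)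
  obtain ⟨S, hS⟩ := hfg
  obtain ⟨E₁, _, _, _, h₁, φ₁, hφ₁⟩ := exists_isoMod_of_finset hB
    (Finset.univ.image fun k : Fin n => φ (π (MvPolynomial.X k)))
  have hy : ∀ k : Fin n, ∃ y : E₁, φ₁ y = φ (π (MvPolynomial.X k)) := fun k =>
    hφ₁ _ (Finset.mem_image_of_mem _ (Finset.mem_univ k))
  choose y hy using hy
  let γ₁ : MvPolynomial (Fin n) A →ₐ[A] E₁ := MvPolynomial.aeval y
  have hγ₁ : φ₁.comp γ₁ = φ.comp π := by
    apply MvPolynomial.algHom_ext
    intro k
    simp only [AlgHom.comp_apply, γ₁, MvPolynomial.aeval_X]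
    exact hy k
  obtain ⟨E₂, _, _, _, h₂, ψ₁₂, hψ₁₂⟩ := exists_isoMod_kill_finset hB E₁ h₁ φ₁ (S.image γ₁) (by
    intro x hx
    obtain ⟨r, hr, rfl⟩ := Finset.mem_image.mp hx
    have := AlgHom.congr_fun hγ₁ r
    simp only [AlgHom.comp_apply] at this
    rw [this]
    have hr' : r ∈ RingHom.ker π.toRingHom := by rw [← hS]; exact Ideal.subset_span hr
    have : π r = 0 := hr'
    rw [this, map_zero])
  let γ₂ : MvPolynomial (Fin n) A →ₐ[A] E₂ := ψ₁₂.comp γ₁
  have hker : RingHom.ker π.toRingHom ≤ RingHom.ker γ₂.toRingHom := by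
    rw [← hS, Ideal.span_le]
    intro r hr
    show γ₂ r = 0
    exact hψ₁₂ _ (Finset.mem_image_of_mem _ hr)
  obtain ⟨ι⟩ := exists_algHom_of_isoMod hB E₂ h₂
  have e1 : ι.comp ψ₁₂ = φ₁ := algHom_ext_of_isoMod hB E₁ h₁ _ _
  refine ⟨E₂, inferInstance, inferInstance, inferInstance, h₂,
    AlgHom.liftOfSurjective π hπ γ₂ hker, ι, ?_⟩
  ext x
  obtain ⟨p, rfl⟩ := hπ x
  rw [AlgHom.comp_apply, AlgHom.liftOfSurjective_apply]
  have h3 := AlgHom.congr_fun hγ₁ p
  have h4 := AlgHom.congr_fun e1 (γ₁ p)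
  simp only [AlgHom.comp_apply] at h3 h4
  show ι (ψ₁₂ (γ₁ p)) = φ (π p)
  rw [h4, h3]

/-- Variant of `exists_isoMod_factor` recording the congruences modulo `I`. -/
theorem exists_isoMod_factor' (hB : Hens2.IsPairHenselization A I B)
    (P : Type u) [CommRing P] [Algebra A P] [Algebra.FinitePresentation A P] (φ : P →ₐ[A] B) :
    ∃ (A' : Type u) (_ : CommRing A') (_ : Algebra A A') (_ : Algebra.Etale A A'),
      IsoMod I A' ∧ ∃ (ψ : P →ₐ[A] A') (ι : A' →ₐ[A] B), ι.comp ψ = φ ∧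
        ∀ x : A', ι x ∈ I.map (algebraMap A B) → x ∈ I.map (algebraMap A A') := by
  obtain ⟨A', _, _, _, h, ψ, ι, hι⟩ := exists_isoMod_factor hB P φ
  exact ⟨A', inferInstance, inferInstance, inferInstance, h, ψ, ι, hι,
    fun x hx => mem_map_of_isoMod hB A' h ι x hx⟩

end Factor

end Groth.Agent.H8.PairHens
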