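/-
Helper8 library: étale neighbourhoods `A'` of `V(I)` (étale `A`-algebras with `A/I ≅ A'/IA'`),
interface lemmas for the cluster S1957 / S2041–S2044.
-/
import Mathlib
import Groth.Agent.Lib.Helper8.PairHens.Factor
import Groth.Agent.Lib.Helper8.HensPair.SmoothLift

open TensorProduct Polynomial

namespace Groth.Agent.H8.PairHens

universe u

section Interface

variable {A : Type u} [CommRing A] {I : Ideal A}

theorem IsoMod.bijective_algebraMap {A' : Type u} [CommRing A'] [Algebra A A'] (h : IsoMod I A') :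
    Function.Bijective (algebraMap (A ⧸ I) (A' ⧸ I.map (algebraMap A A'))) := h

theorem Hp.sub_mem_iff (z : Hp A I) (a : A) :
    z - algebraMap A (Hp A I) a ∈ I.map (algebraMap A (Hp A I)) ↔
      H.pt A (A ⧸ I) z = Ideal.Quotient.mk I a := by
  rw [← Hp.ker_pt, RingHom.mem_ker, map_sub, Hp.pt_algebraMap, sub_eq_zero]

/-- The `A`-algebra map `A/I → H/IH`. -/
noncomputable def Hp.quotMap : A ⧸ I →ₐ[A] Hp A I ⧸ I.map (algebraMap A (Hp A I)) :=
  Ideal.Quotient.liftₐ I (Algebra.ofId A _) (by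
    intro a ha
    change algebraMap A (Hp A I ⧸ I.map (algebraMap A (Hp A I))) a = 0
    rw [IsScalarTower.algebraMap_apply A (Hp A I) (Hp A I ⧸ I.map (algebraMap A (Hp A I)))]
    exact Ideal.Quotient.eq_zero_iff_mem.mpr (Ideal.mem_map_of_mem _ ha))

theorem Hp.quotMap_mk (a : A) :
    Hp.quotMap (I := I) (Ideal.Quotient.mk I a) =
      Ideal.Quotient.mk _ (algebraMap A (Hp A I) a) := rfl

/-- Smooth algebras: a point modulo `I` lifts to an étale neighbourhood. -/
theorem exists_etale_lift_of_smooth {B : Type u} [CommRing B] [Algebra A B] [Algebra.Smooth A B]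
    (σ : B →ₐ[A] A ⧸ I) :
    ∃ (A' : Type u) (_ : CommRing A') (_ : Algebra A A') (_ : Algebra.Etale A A'),
      IsoMod I A' ∧ ∃ τ : B →ₐ[A] A', ∀ (b : B) (a : A), σ b = Ideal.Quotient.mk I a →
        τ b - algebraMap A A' a ∈ I.map (algebraMap A A') := by
  obtain ⟨τH, hτH⟩ := SmoothLift.exists_lift_of_smooth' A B (Hp A I)
    (I.map (algebraMap A (Hp A I))) (Hp.quotMap.comp σ)
  obtain ⟨A', _, _, _, h, ψ, ι, hι, hmem⟩ :=
    exists_isoMod_factor' (isPairHenselization A I) B τH
  refine ⟨A', inferInstance, inferInstance, inferInstance, h, ψ, fun b a hb => ?_⟩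
  apply hmem
  rw [map_sub, ι.commutes]
  have h1 : ι (ψ b) = τH b := AlgHom.congr_fun hι b
  rw [h1]
  have h2 := AlgHom.congr_fun hτH b
  simp only [AlgHom.comp_apply, hb, Hp.quotMap_mk, Ideal.Quotient.mkₐ_eq_mk] at h2
  exact Ideal.Quotient.eq.mp h2

end Interface

end Groth.Agent.H8.PairHens
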