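/-
Helper8 library: descent of polynomials and factorizations from the henselization of a pair to an
étale neighbourhood.
-/
import Mathlib
import Groth.Agent.Lib.Helper8.PairHens.EtNbhd
import Groth.Agent.Lib.Helper8.HensPair.Factorization

open TensorProduct Polynomial

namespace Groth.Agent.H8.PairHens

universe u

section PolyDescent

variable {A : Type u} [CommRing A] {I : Ideal A} {B : Type u} [CommRing B] [Algebra A B]

/-- Finitely many polynomials over the henselization lift to an étale neighbourhood. -/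
theorem exists_isoMod_lifts (hB : Hens2.IsPairHenselization A I B) (s : Finset B[X]) :
    ∃ (A' : Type u) (_ : CommRing A') (_ : Algebra A A') (_ : Algebra.Etale A A'),
      IsoMod I A' ∧ ∃ (φ : A' →ₐ[A] B), ∀ p ∈ s, p ∈ Polynomial.lifts (φ : A' →+* B) := by
  classical
  obtain ⟨A', _, _, _, h, φ, hφ⟩ := exists_isoMod_of_finset hB (s.biUnion fun p => p.coeffs)
  refine ⟨A', inferInstance, inferInstance, inferInstance, h, φ, fun p hp => ?_⟩
  rw [Polynomial.lifts_iff_coeff_lifts]
  intro n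
  by_cases hn : p.coeff n = 0
  · exact ⟨0, by rw [hn]; exact map_zero _⟩
  · exact hφ _ (Finset.mem_biUnion.mpr ⟨p, hp, Polynomial.coeff_mem_coeffs hn⟩)

/-- Two polynomials over an étale neighbourhood agreeing over the henselization agree over a
smaller étale neighbourhood. -/
theorem exists_isoMod_map_eq (hB : Hens2.IsPairHenselization A I B)
    (A' : Type u) [CommRing A'] [Algebra A A'] [Algebra.Etale A A'] (h : IsoMod I A')
    (φ : A' →ₐ[A] B) (p q : A'[X]) (hpq : p.map (φ : A' →+* B) = q.map (φ : A' →+* B)) :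
    ∃ (A'' : Type u) (_ : CommRing A'') (_ : Algebra A A'') (_ : Algebra.Etale A A''),
      IsoMod I A'' ∧ ∃ ψ : A' →ₐ[A] A'', p.map (ψ : A' →+* A'') = q.map (ψ : A' →+* A'') := by
  classical
  obtain ⟨A'', _, _, _, h', ψ, hψ⟩ := exists_isoMod_kill_finset hB A' h φ (p - q).coeffs (by
    intro x hx
    obtain ⟨n, -, rfl⟩ := Polynomial.mem_coeffs_iff.mp hx
    have := congrArg (fun r => r.coeff n) hpq
    simp only [Polynomial.coeff_map] at this
    rw [Polynomial.coeff_sub, map_sub, sub_eq_zero]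
    exact this)
  refine ⟨A'', inferInstance, inferInstance, inferInstance, h', ψ, ?_⟩
  ext n
  rw [Polynomial.coeff_map, Polynomial.coeff_map, ← sub_eq_zero, ← map_sub, ← Polynomial.coeff_sub]
  by_cases hn : (p - q).coeff n = 0
  · rw [hn]; exact map_zero _
  · exact hψ _ (Polynomial.coeff_mem_coeffs hn)

/-- Descent of a factorization from the henselization to an étale neighbourhood. -/
theorem exists_isoMod_factorization (hB : Hens2.IsPairHenselization A I B) (f : A[X])
    (G H : B[X]) (hf : f.map (algebraMap A B) = G * H) :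
    ∃ (A' : Type u) (_ : CommRing A') (_ : Algebra A A') (_ : Algebra.Etale A A'),
      IsoMod I A' ∧ ∃ (ι : A' →ₐ[A] B) (G' H' : A'[X]), f.map (algebraMap A A') = G' * H' ∧
        G'.map (ι : A' →+* B) = G ∧ H'.map (ι : A' →+* B) = H ∧
        (G.Monic → G'.Monic) ∧ (H.Monic → H'.Monic) := by
  classical
  obtain ⟨E₁, _, _, _, h₁, φ₁, hφ₁⟩ := exists_isoMod_lifts hB ({G, H} : Finset B[X])
  have hG := hφ₁ G (by simp)
  have hH := hφ₁ H (by simp)
  obtain ⟨G₁, hG₁, hG₁m⟩ : ∃ G₁ : E₁[X], G₁.map (φ₁ : E₁ →+* B) = G ∧ (G.Monic → G₁.Monic) := by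
    by_cases hm : G.Monic
    · obtain ⟨q, hq, -, hqm⟩ := Polynomial.lifts_and_natDegree_eq_and_monic hG hm
      exact ⟨q, hq, fun _ => hqm⟩
    · obtain ⟨q, hq⟩ := (Polynomial.mem_lifts _).mp hG
      exact ⟨q, hq, fun h => absurd h hm⟩
  obtain ⟨H₁, hH₁, hH₁m⟩ : ∃ H₁ : E₁[X], H₁.map (φ₁ : E₁ →+* B) = H ∧ (H.Monic → H₁.Monic) := by
    by_cases hm : H.Monic
    · obtain ⟨q, hq, -, hqm⟩ := Polynomial.lifts_and_natDegree_eq_and_monic hH hm
      exact ⟨q, hq, fun _ => hqm⟩
    · obtain ⟨q, hq⟩ := (Polynomial.mem_lifts _).mp hH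
      exact ⟨q, hq, fun h => absurd h hm⟩
  have hcomp : (φ₁ : E₁ →+* B).comp (algebraMap A E₁) = algebraMap A B := φ₁.comp_algebraMap
  obtain ⟨E₂, _, _, _, h₂, ψ, hψ⟩ := exists_isoMod_map_eq hB E₁ h₁ φ₁
    (f.map (algebraMap A E₁)) (G₁ * H₁) (by
      rw [Polynomial.map_map, hcomp, hf, Polynomial.map_mul, hG₁, hH₁])
  obtain ⟨ι⟩ := exists_algHom_of_isoMod hB E₂ h₂
  have e1 : ι.comp ψ = φ₁ := algHom_ext_of_isoMod hB E₁ h₁ _ _
  have e2 : (ι : E₂ →+* B).comp (ψ : E₁ →+* E₂) = (φ₁ : E₁ →+* B) := by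
    ext x
    exact AlgHom.congr_fun e1 x
  refine ⟨E₂, inferInstance, inferInstance, inferInstance, h₂, ι, G₁.map (ψ : E₁ →+* E₂),
    H₁.map (ψ : E₁ →+* E₂), ?_, ?_, ?_, fun hm => (hG₁m hm).map _, fun hm => (hH₁m hm).map _⟩
  · rw [← Polynomial.map_mul, ← hψ, Polynomial.map_map]
    congr 1
    exact ψ.comp_algebraMap.symm
  · rw [Polynomial.map_map, e2, hG₁]
  · rw [Polynomial.map_map, e2, hH₁]

/-- Comparison of reductions: a polynomial over an étale neighbourhood whose image over the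
henselization reduces to (the image of) `g` itself reduces to (the image of) `g`. -/
theorem map_mk_eq_of_isoMod (hB : Hens2.IsPairHenselization A I B)
    (A' : Type u) [CommRing A'] [Algebra A A'] [Algebra.Etale A A'] (h : IsoMod I A')
    (ι : A' →ₐ[A] B) (q : A'[X]) (g : (A ⧸ I)[X])
    (hq : (q.map (ι : A' →+* B)).map (Ideal.Quotient.mk (I.map (algebraMap A B))) =
      g.map (algebraMap (A ⧸ I) (B ⧸ I.map (algebraMap A B)))) :
    q.map (Ideal.Quotient.mk (I.map (algebraMap A A'))) =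
      g.map (algebraMap (A ⧸ I) (A' ⧸ I.map (algebraMap A A'))) := by
  ext n
  rw [Polynomial.coeff_map, Polynomial.coeff_map]
  obtain ⟨a, ha⟩ := Ideal.Quotient.mk_surjective (g.coeff n)
  rw [← ha]
  show Ideal.Quotient.mk _ (q.coeff n) = Ideal.Quotient.mk _ (algebraMap A A' a)
  rw [Ideal.Quotient.eq]
  apply mem_map_of_isoMod hB A' h ι
  rw [map_sub, ι.commutes, ← Ideal.Quotient.eq]
  have := congrArg (fun r => r.coeff n) hq
  simp only [Polynomial.coeff_map, ← ha] at this
  exact this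

end PolyDescent

section Main

variable {A : Type u} [CommRing A] (I : Ideal A)

/-- Lifting coprime monic factorizations to an étale neighbourhood. -/
theorem exists_etale_factorization (f : A[X]) (hf : f.Monic) (g h : (A ⧸ I)[X]) (hg : g.Monic)
    (hh : h.Monic) (hcop : IsCoprime g h) (hfgh : f.map (Ideal.Quotient.mk I) = g * h) :
    ∃ (A' : Type u) (_ : CommRing A') (_ : Algebra A A') (_ : Algebra.Etale A A'),
      IsoMod I A' ∧ ∃ g' h' : A'[X], g'.Monic ∧ h'.Monic ∧ f.map (algebraMap A A') = g' * h' ∧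
        g'.map (Ideal.Quotient.mk (I.map (algebraMap A A'))) =
          g.map (algebraMap (A ⧸ I) (A' ⧸ I.map (algebraMap A A'))) ∧
        h'.map (Ideal.Quotient.mk (I.map (algebraMap A A'))) =
          h.map (algebraMap (A ⧸ I) (A' ⧸ I.map (algebraMap A A'))) := by
  have hB := isPairHenselization A I
  set B := Hp A I
  set τ := algebraMap (A ⧸ I) (B ⧸ I.map (algebraMap A B)) with hτ
  have hcomm : (Ideal.Quotient.mk (I.map (algebraMap A B))).comp (algebraMap A B) =
      τ.comp (Ideal.Quotient.mk I) := rfl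
  obtain ⟨G, H, hGm, hHm, hfGH, hG, hH⟩ := HensPair.exists_factorization
    (I := I.map (algebraMap A B)) (f.map (algebraMap A B)) (hf.map _) (g.map τ) (h.map τ)
    (hg.map _) (hh.map _) (hcop.map (Polynomial.mapRingHom τ)) (by
      rw [Polynomial.map_map, hcomm, ← Polynomial.map_map, hfgh, Polynomial.map_mul])
  obtain ⟨A', _, _, _, hA', ι, G', H', hf', hG', hH', hG'm, hH'm⟩ :=
    exists_isoMod_factorization hB f G H hfGH
  refine ⟨A', inferInstance, inferInstance, inferInstance, hA', G', H', hG'm hGm, hH'm hHm, hf',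
    ?_, ?_⟩
  · exact map_mk_eq_of_isoMod hB A' hA' ι G' g (by rw [hG', hG])
  · exact map_mk_eq_of_isoMod hB A' hA' ι H' h (by rw [hH', hH])

end Main

end Groth.Agent.H8.PairHens
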