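/-
Helper8 library: lifting idempotents of `B/IB` (`B` integral over `A`) to an étale neighbourhood
of `V(I)`.
-/
import Mathlib
import Groth.Agent.Lib.Helper8.PairHens.PolyDescent
import Groth.Agent.Lib.Helper8.HensPair.Integral
import Groth.Agent.Lib.Helper8.HensPair.Gabber

open TensorProduct Polynomial

namespace Groth.Agent.H8.PairHens

universe u

variable {A : Type u} [CommRing A] (I : Ideal A)

/-- The monogenic case: idempotents of `A[X]/(f, I)` lift to `A'[X]/(f)` for an étale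
neighbourhood `A'`. -/
theorem exists_etale_idempotent_adjoinRoot (f : A[X]) (hf : f.Monic) (Q W δ : A[X])
    (hQ : Q * Q - Q = f * W + δ) (hδ : ∀ i, δ.coeff i ∈ I) :
    ∃ (A' : Type u) (_ : CommRing A') (_ : Algebra A A') (_ : Algebra.Etale A A'),
      IsoMod I A' ∧ ∃ ε q r : A'[X], ε * ε - ε = f.map (algebraMap A A') * q ∧
        ∀ i, (ε - Q.map (algebraMap A A') - f.map (algebraMap A A') * r).coeff i ∈
          I.map (algebraMap A A') := by
  classical
  have hB := isPairHenselization A I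
  set B := Hp A I
  set J := I.map (algebraMap A B) with hJ
  set fB := f.map (algebraMap A B) with hfB
  have hfBm : fB.Monic := hf.map _
  let T := AdjoinRoot fB
  haveI : Module.Free B T := Module.Free.of_basis (AdjoinRoot.powerBasis' hfBm).basis
  haveI : Module.Finite B T := (AdjoinRoot.powerBasis' hfBm).finite
  set y₀ : T := AdjoinRoot.mk fB (Q.map (algebraMap A B)) with hy₀
  have hmkmem : ∀ p : B[X], (∀ i, p.coeff i ∈ J) → AdjoinRoot.mk fB p ∈ J.map (algebraMap B T) := by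
    intro p hp
    rw [← AdjoinRoot.aeval_eq]
    exact HensPair.aeval_mem_map_of_coeff_mem _ hp
  have hy₀' : y₀ * y₀ - y₀ ∈ J.map (algebraMap B T) := by
    have : y₀ * y₀ - y₀ = AdjoinRoot.mk fB (δ.map (algebraMap A B)) := by
      rw [hy₀, ← map_mul, ← map_sub, ← Polynomial.map_mul, ← Polynomial.map_sub, hQ,
        Polynomial.map_add, Polynomial.map_mul, map_add, map_mul, AdjoinRoot.mk_self, zero_mul,
        zero_add]
    rw [this]
    apply hmkmem
    intro i
    rw [Polynomial.coeff_map]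
    exact Ideal.mem_map_of_mem _ (hδ i)
  obtain ⟨E, hE, hEy⟩ := HensPair.exists_idempotent_of_free J y₀ hy₀'
  obtain ⟨εB, hεB⟩ := AdjoinRoot.mk_surjective E
  obtain ⟨qB, hqB⟩ : fB ∣ εB * εB - εB := by
    rw [← AdjoinRoot.mk_eq_zero, map_sub, map_mul, hεB, hE.eq, sub_self]
  obtain ⟨δ', hδ', hδ'E⟩ : ∃ δ' : B[X], (∀ i, δ'.coeff i ∈ J) ∧ AdjoinRoot.mk fB δ' = E - y₀ := by
    have h1 : J.map (algebraMap B T) = (J.map (C : B →+* B[X])).map (AdjoinRoot.mk fB) :=
      (Ideal.map_map (C : B →+* B[X]) (AdjoinRoot.mk fB)).symm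
    rw [h1] at hEy
    obtain ⟨δ', hδ'1, hδ'2⟩ :=
      (Ideal.mem_map_iff_of_surjective _ AdjoinRoot.mk_surjective).mp hEy
    exact ⟨δ', Ideal.mem_map_C_iff.mp hδ'1, hδ'2⟩
  obtain ⟨rB, hrB⟩ : fB ∣ εB - Q.map (algebraMap A B) - δ' := by
    rw [← AdjoinRoot.mk_eq_zero, map_sub, map_sub, hεB, hδ'E, ← hy₀]
    ring
  -- descent
  obtain ⟨E₁, _, _, _, h₁, φ₁, hφ₁⟩ := exists_isoMod_lifts hB ({εB, qB, rB} : Finset B[X])
  obtain ⟨ε₁, hε₁⟩ := (Polynomial.mem_lifts _).mp (hφ₁ εB (by simp))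
  obtain ⟨q₁, hq₁⟩ := (Polynomial.mem_lifts _).mp (hφ₁ qB (by simp))
  obtain ⟨r₁, hr₁⟩ := (Polynomial.mem_lifts _).mp (hφ₁ rB (by simp))
  have hcomp : (φ₁ : E₁ →+* B).comp (algebraMap A E₁) = algebraMap A B := φ₁.comp_algebraMap
  have hfmap : (f.map (algebraMap A E₁)).map (φ₁ : E₁ →+* B) = fB := by
    rw [Polynomial.map_map, hcomp]
  have hQmap : (Q.map (algebraMap A E₁)).map (φ₁ : E₁ →+* B) = Q.map (algebraMap A B) := by
    rw [Polynomial.map_map, hcomp]
  obtain ⟨E₂, _, _, _, h₂, ψ, hψ⟩ := exists_isoMod_map_eq hB E₁ h₁ φ₁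
    (ε₁ * ε₁ - ε₁) (f.map (algebraMap A E₁) * q₁) (by
      rw [Polynomial.map_sub, Polynomial.map_mul, Polynomial.map_mul, hε₁, hq₁, hfmap, hqB])
  have hcomp2 : (ψ : E₁ →+* E₂).comp (algebraMap A E₁) = algebraMap A E₂ := ψ.comp_algebraMap
  have hfmap2 : (f.map (algebraMap A E₁)).map (ψ : E₁ →+* E₂) = f.map (algebraMap A E₂) := by
    rw [Polynomial.map_map, hcomp2]
  have hQmap2 : (Q.map (algebraMap A E₁)).map (ψ : E₁ →+* E₂) = Q.map (algebraMap A E₂) := by
    rw [Polynomial.map_map, hcomp2]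
  refine ⟨E₂, inferInstance, inferInstance, inferInstance, h₂, ε₁.map (ψ : E₁ →+* E₂),
    q₁.map (ψ : E₁ →+* E₂), r₁.map (ψ : E₁ →+* E₂), ?_, ?_⟩
  · rw [← hfmap2, ← Polynomial.map_mul, ← Polynomial.map_mul, ← Polynomial.map_sub, hψ]
  · intro i
    have h3 : (ε₁ - Q.map (algebraMap A E₁) - f.map (algebraMap A E₁) * r₁).coeff i ∈
        I.map (algebraMap A E₁) := by
      apply mem_map_of_isoMod hB E₁ h₁ φ₁
      have : φ₁ ((ε₁ - Q.map (algebraMap A E₁) - f.map (algebraMap A E₁) * r₁).coeff i) =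
          δ'.coeff i := by
        have h4 : (ε₁ - Q.map (algebraMap A E₁) - f.map (algebraMap A E₁) * r₁).map
            (φ₁ : E₁ →+* B) = δ' := by
          rw [Polynomial.map_sub, Polynomial.map_sub, Polynomial.map_mul, hε₁, hr₁, hfmap, hQmap,
            ← hrB]
          ring
        rw [← h4, Polynomial.coeff_map]
        rfl
      rw [this]
      exact hδ' i
    have h5 : ε₁.map (ψ : E₁ →+* E₂) - Q.map (algebraMap A E₂) -
        f.map (algebraMap A E₂) * r₁.map (ψ : E₁ →+* E₂) =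
        (ε₁ - Q.map (algebraMap A E₁) - f.map (algebraMap A E₁) * r₁).map (ψ : E₁ →+* E₂) := by
      rw [Polynomial.map_sub, Polynomial.map_sub, Polynomial.map_mul, hfmap2, hQmap2]
    rw [h5, Polynomial.coeff_map]
    exact HensPair.map_mem_map_of_algHom ψ h3

end Groth.Agent.H8.PairHens

namespace Groth.Agent.H8.PairHens

universe u

open TensorProduct Polynomial

/-- For `y₀` idempotent modulo `IB` in an integral `A`-algebra, a monic `f ≡ (X² - X)^d mod I`
with `f(y₀) = 0`. -/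
theorem exists_monic_aeval_eq_zero_of_idempotent_mod {A : Type u} [CommRing A] [Nontrivial A]
    (I : Ideal A) {B : Type*} [CommRing B] [Algebra A B] [Algebra.IsIntegral A B] (y₀ : B)
    (hy₀ : y₀ * y₀ - y₀ ∈ I.map (algebraMap A B)) :
    ∃ (f : A[X]) (d : ℕ), 0 < d ∧ f.Monic ∧ aeval y₀ f = 0 ∧
      ∀ i, (f - (X ^ 2 - X) ^ d).coeff i ∈ I := by
  obtain ⟨g₀, hg₀mon, hg₀z, hg₀I⟩ :=
    Polynomial.exists_monic_aeval_eq_zero_forall_mem_of_mem_map hy₀
  set g : A[X] := g₀ * X with hg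
  have hgmon : g.Monic := hg₀mon.mul monic_X
  set d := g.natDegree with hd
  have hdpos : 0 < d := by
    rw [hd, hg, hg₀mon.natDegree_mul monic_X, natDegree_X]; omega
  have hgz : aeval (y₀ * y₀ - y₀) g = 0 := by rw [hg, map_mul, hg₀z, zero_mul]
  have hgI : ∀ i, (g - X ^ d).coeff i ∈ I := by
    intro i
    rw [coeff_sub, coeff_X_pow]
    by_cases hi : i = d
    · rw [if_pos hi, hi, hd, hgmon.coeff_natDegree, sub_self]; exact I.zero_mem
    · rw [if_neg hi, sub_zero, hg]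
      rcases Nat.eq_zero_or_pos i with rfl | hipos
      · simp
      · obtain ⟨j, rfl⟩ := Nat.exists_eq_succ_of_ne_zero hipos.ne'
        rw [coeff_mul_X]
        apply hg₀I
        intro hj
        apply hi
        rw [hd, hg, hg₀mon.natDegree_mul monic_X, natDegree_X, hj]
  set f : A[X] := g.comp (X ^ 2 - X) with hf
  have hq2 : (X ^ 2 - X : A[X]).natDegree = 2 := by
    rw [natDegree_sub_eq_left_of_natDegree_lt] <;> simp
  have hqmon : (X ^ 2 - X : A[X]).Monic := by
    apply (monic_X_pow 2).sub_of_left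
    rw [degree_X_pow, degree_X]; norm_num
  have hfmon : f.Monic := hgmon.comp hqmon (by rw [hq2]; norm_num)
  have hfy : aeval y₀ f = 0 := by
    rw [hf, aeval_comp]
    have : aeval y₀ (X ^ 2 - X : A[X]) = y₀ * y₀ - y₀ := by simp [sq]
    rw [this, hgz]
  have hfI : ∀ i, (f - (X ^ 2 - X) ^ d).coeff i ∈ I := by
    have : f - (X ^ 2 - X) ^ d = (g - X ^ d).comp (X ^ 2 - X) := by
      rw [sub_comp, X_pow_comp]
    rw [this]
    intro i
    rw [← Ideal.Quotient.eq_zero_iff_mem, ← coeff_map, Polynomial.map_comp]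
    have : (g - X ^ d).map (Ideal.Quotient.mk I) = 0 := by
      ext j
      rw [coeff_map, coeff_zero]
      exact Ideal.Quotient.eq_zero_iff_mem.mpr (hgI j)
    rw [this, zero_comp, coeff_zero]
  exact ⟨f, d, hdpos, hfmon, hfy, hfI⟩

/-- Stacks 0ALH-type statement: idempotents of `B/IB`, `B` integral over `A`, lift to idempotents
of `A' ⊗ B` for an étale neighbourhood `A'` of `V(I)`. -/
theorem exists_etale_idempotent_of_isIntegral {A B : Type u} [CommRing A] [CommRing B]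
    [Algebra A B] [Algebra.IsIntegral A B] (I : Ideal A) (y₀ : B)
    (hy₀ : y₀ * y₀ - y₀ ∈ I.map (algebraMap A B)) :
    ∃ (A' : Type u) (_ : CommRing A') (_ : Algebra A A') (_ : Algebra.Etale A A'),
      IsoMod I A' ∧ ∃ e' : A' ⊗[A] B, IsIdempotentElem e' ∧
        e' - 1 ⊗ₜ y₀ ∈ I.map (algebraMap A (A' ⊗[A] B)) := by
  rcases subsingleton_or_nontrivial A with hA | hA
  · haveI : Subsingleton (A ⊗[A] B) := by
      refine ⟨fun x y => ?_⟩
      rw [← one_smul A x, ← one_smul A y, Subsingleton.elim (1 : A) 0, zero_smul, zero_smul]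
    exact ⟨A, inferInstance, inferInstance, inferInstance, isoMod_self, 0, IsIdempotentElem.zero,
      by rw [Subsingleton.elim (0 - (1 : A) ⊗ₜ[A] y₀) 0]; exact Ideal.zero_mem _⟩
  obtain ⟨f, d, hdpos, hfmon, hfy, hfI⟩ := exists_monic_aeval_eq_zero_of_idempotent_mod I y₀ hy₀
  obtain ⟨W, hW⟩ := HensPair.idemPoly_mul_one_sub A d
  set Q := HensPair.idemPoly A d with hQdef
  have hδ : ∀ i, (-(f - (X ^ 2 - X) ^ d) * W).coeff i ∈ I := by
    rw [← Ideal.mem_map_C_iff]
    apply Ideal.mul_mem_right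
    apply neg_mem
    rw [Ideal.mem_map_C_iff]
    exact hfI
  obtain ⟨A', _, _, _, hA', ε, q, r, hε, hεQ⟩ := exists_etale_idempotent_adjoinRoot I f hfmon Q W
    (-(f - (X ^ 2 - X) ^ d) * W) (by rw [hW]; ring) hδ
  set x : A' ⊗[A] B := (1 : A') ⊗ₜ[A] y₀ with hx
  have hxinc : x = (Algebra.TensorProduct.includeRight : B →ₐ[A] A' ⊗[A] B) y₀ := rfl
  have haeval : ∀ p : A[X], aeval x (p.map (algebraMap A A')) =
      (Algebra.TensorProduct.includeRight : B →ₐ[A] A' ⊗[A] B) (aeval y₀ p) := by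
    intro p
    rw [Polynomial.aeval_map_algebraMap, hxinc, Polynomial.aeval_algHom_apply]
  have hfx : aeval x (f.map (algebraMap A A')) = 0 := by rw [haeval, hfy, map_zero]
  have hincmem : ∀ b : B, b ∈ I.map (algebraMap A B) →
      (1 : A') ⊗ₜ[A] b ∈ I.map (algebraMap A (A' ⊗[A] B)) := fun b hb =>
    HensPair.map_mem_map_of_algHom (Algebra.TensorProduct.includeRight : B →ₐ[A] A' ⊗[A] B) hb
  refine ⟨A', inferInstance, inferInstance, inferInstance, hA', aeval x ε, ?_, ?_⟩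
  · show aeval x ε * aeval x ε = aeval x ε
    rw [← sub_eq_zero, ← map_mul, ← map_sub, hε, map_mul, hfx, zero_mul]
  · have h1 : aeval x (ε - Q.map (algebraMap A A') - f.map (algebraMap A A') * r) ∈
        I.map (algebraMap A (A' ⊗[A] B)) := by
      have := HensPair.aeval_mem_map_of_coeff_mem (B := A' ⊗[A] B) x hεQ
      rwa [Ideal.map_map, ← IsScalarTower.algebraMap_eq] at this
    have h2 : aeval y₀ Q - y₀ ∈ I.map (algebraMap A B) := by
      rw [← Ideal.Quotient.eq, ← Ideal.Quotient.mkₐ_eq_mk A, ← aeval_algHom_apply]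
      apply HensPair.aeval_idemPoly_of_isIdempotentElem _ d hdpos
      show Ideal.Quotient.mk _ y₀ * Ideal.Quotient.mk _ y₀ = Ideal.Quotient.mk _ y₀
      rw [← map_mul, Ideal.Quotient.eq]
      exact hy₀
    have h3 : aeval x ε - x = aeval x (ε - Q.map (algebraMap A A') - f.map (algebraMap A A') * r)
        + (1 : A') ⊗ₜ[A] (aeval y₀ Q - y₀) := by
      rw [map_sub, map_sub, map_mul, hfx, zero_mul, sub_zero, haeval, TensorProduct.tmul_sub]
      simp only [Algebra.TensorProduct.includeRight_apply]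
      ring
    rw [h3]
    exact Ideal.add_mem _ h1 (hincmem _ h2)

end Groth.Agent.H8.PairHens
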