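/-
Helper8 library: lifting finite projective `A/I`-modules to an étale neighbourhood of `V(I)`.
-/
import Mathlib
import Groth.Agent.Lib.Helper8.PairHens.PolyDescent
import Groth.Agent.Lib.Helper8.HensPair.NCIdem

open TensorProduct Polynomial

namespace Groth.Agent.H8.PairHens

universe u

section Hens

/-- Idempotent matrices lift along a henselian pair. -/
theorem exists_idempotent_matrix {R : Type u} [CommRing R] (I : Ideal R) [HenselianRing R I]
    {n : ℕ} (Mb : Matrix (Fin n) (Fin n) (R ⧸ I)) (hMb : IsIdempotentElem Mb) :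
    ∃ M : Matrix (Fin n) (Fin n) R, IsIdempotentElem M ∧ M.map (Ideal.Quotient.mk I) = Mb := by
  rcases subsingleton_or_nontrivial R with hR | hR
  · haveI : Subsingleton (R ⧸ I) := Function.Surjective.subsingleton Ideal.Quotient.mk_surjective
    exact ⟨0, IsIdempotentElem.zero, Subsingleton.elim _ _⟩
  choose lift hlift using fun x : R ⧸ I => Ideal.Quotient.mk_surjective x
  let b : Matrix (Fin n) (Fin n) R := Matrix.of fun i j => lift (Mb i j)
  let Θ : Matrix (Fin n) (Fin n) R →ₐ[R] Matrix (Fin n) (Fin n) (R ⧸ I) :=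
    (Ideal.Quotient.mkₐ R I).mapMatrix
  have hΘ : ∀ N : Matrix (Fin n) (Fin n) R, Θ N = N.map (Ideal.Quotient.mk I) := fun N => rfl
  have hΘb : Θ b = Mb := by
    ext i j
    rw [hΘ, Matrix.map_apply]
    exact hlift _
  set z : Matrix (Fin n) (Fin n) R := b * b - b with hz
  have hΘz : z.map (Ideal.Quotient.mk I) = 0 := by
    rw [← hΘ, hz, map_sub, map_mul, hΘb, hMb.eq, sub_self]
  set g : R[X] := z.charpoly * X with hg
  have hgmon : g.Monic := (Matrix.charpoly_monic z).mul monic_X
  have hgdeg : g.natDegree = n + 1 := by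
    rw [hg, (Matrix.charpoly_monic z).natDegree_mul monic_X, natDegree_X,
      Matrix.charpoly_natDegree_eq_dim, Fintype.card_fin]
  have hgI : ∀ i, (g - X ^ g.natDegree).coeff i ∈ I := by
    intro i
    rw [← Ideal.Quotient.eq_zero_iff_mem, ← coeff_map]
    have : (g - X ^ g.natDegree).map (Ideal.Quotient.mk I) = 0 := by
      rw [Polynomial.map_sub, Polynomial.map_pow, map_X, hgdeg, hg, Polynomial.map_mul, map_X,
        ← Matrix.charpoly_map, hΘz, Matrix.charpoly_zero, Fintype.card_fin, pow_succ, sub_self]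
    rw [this, coeff_zero]
  have hgz : aeval (b * b - b) g = 0 := by
    rw [hg, map_mul, Matrix.aeval_self_charpoly, zero_mul]
  have hIE : ∀ r ∈ I, algebraMap R (Matrix (Fin n) (Fin n) (R ⧸ I)) r = 0 := by
    intro r hr
    ext i j
    rw [Matrix.algebraMap_matrix_apply]
    split_ifs
    · exact Ideal.Quotient.eq_zero_iff_mem.mpr hr
    · rfl
  have hbidem : IsIdempotentElem (Θ b) := by rw [hΘb]; exact hMb
  obtain ⟨E, hE, hEb⟩ := HensPair.exists_idempotent_of_algHom I Θ hIE b hbidem g hgmon
    (by rw [hgdeg]; omega) hgI hgz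
  exact ⟨E, hE, by rw [← hΘ, hEb, hΘb]⟩

end Hens

section BaseChange

variable {R S : Type*} [CommRing R] [CommRing S] [Algebra R S] {n : ℕ}

/-- Base change of the linear map of a matrix, in coordinates. -/
theorem piScalarRight_baseChange_toLin' (M : Matrix (Fin n) (Fin n) R)
    (x : S ⊗[R] (Fin n → R)) :
    TensorProduct.piScalarRight R S S (Fin n) ((Matrix.toLin' M).baseChange S x) =
      (M.map (algebraMap R S)).mulVec (TensorProduct.piScalarRight R S S (Fin n) x) := by
  induction x using TensorProduct.induction_on with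
  | zero => simp
  | add x y hx hy => rw [map_add, map_add, map_add, Matrix.mulVec_add, hx, hy]
  | tmul c v =>
    simp only [LinearMap.baseChange_tmul, TensorProduct.piScalarRight_apply,
      TensorProduct.piScalarRightHom_tmul]
    ext j
    simp only [Matrix.toLin'_apply, Matrix.mulVec, dotProduct, Matrix.map_apply, Algebra.smul_def,
      map_sum, map_mul, Finset.sum_mul, mul_assoc]

/-- The base change of the image of an idempotent matrix is the image of the base-changed
matrix, in the form: any module split by the base-changed matrix. -/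
theorem nonempty_linearEquiv_tensor_range (M : Matrix (Fin n) (Fin n) R) (hM : IsIdempotentElem M)
    {Q : Type*} [AddCommGroup Q] [Module S Q] (f : (Fin n → S) →ₗ[S] Q)
    (s : Q →ₗ[S] (Fin n → S)) (hfs : ∀ y, f (s y) = y)
    (hsf : ∀ v, s (f v) = (M.map (algebraMap R S)).mulVec v) :
    Nonempty (S ⊗[R] LinearMap.range (Matrix.toLin' M) ≃ₗ[S] Q) := by
  set E := Matrix.toLin' M with hE
  have hEE : ∀ v, E (E v) = E v := by
    intro v
    rw [hE, ← LinearMap.comp_apply, ← Matrix.toLin'_mul, hM.eq]
  let P := LinearMap.range E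
  let i : P →ₗ[R] (Fin n → R) := P.subtype
  let π : (Fin n → R) →ₗ[R] P := E.rangeRestrict
  have hπi : π.comp i = LinearMap.id := by
    refine LinearMap.ext fun x => ?_
    obtain ⟨x, y, rfl⟩ := x
    apply Subtype.ext
    exact hEE y
  have hiπ : i.comp π = E := rfl
  let a := i.baseChange S
  let p := π.baseChange S
  let ι := TensorProduct.piScalarRight R S S (Fin n)
  have hpa : ∀ x, p (a x) = x := by
    intro x
    have : p.comp a = LinearMap.id := by
      rw [← LinearMap.baseChange_comp, hπi, LinearMap.baseChange_id]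
    exact LinearMap.congr_fun this x
  have hap : ∀ x, ι (a (p x)) = (M.map (algebraMap R S)).mulVec (ι x) := by
    intro x
    have : a.comp p = E.baseChange S := by
      rw [← LinearMap.baseChange_comp, hiπ]
    have h1 : a (p x) = E.baseChange S x := LinearMap.congr_fun this x
    rw [h1]
    exact piScalarRight_baseChange_toLin' M x
  exact ⟨
    { toLinearMap := f.comp (ι.toLinearMap.comp a)
      invFun := fun y => p (ι.symm (s y))
      left_inv := fun x => by
        show p (ι.symm (s (f (ι (a x))))) = x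
        rw [hsf, ← hap, hpa, LinearEquiv.symm_apply_apply, hpa]
      right_inv := fun y => by
        show f (ι (a (p (ι.symm (s y))))) = y
        rw [hap, LinearEquiv.apply_symm_apply, ← hsf, hfs, hfs] }⟩

end BaseChange

end Groth.Agent.H8.PairHens

namespace Groth.Agent.H8.PairHens

universe u

open TensorProduct Polynomial

section MatrixDescent

variable {A : Type u} [CommRing A] {I : Ideal A} {B : Type u} [CommRing B] [Algebra A B]

/-- A matrix over the henselization lifts to an étale neighbourhood. -/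
theorem exists_isoMod_matrix_lift (hB : Hens2.IsPairHenselization A I B) {m n : ℕ}
    (M : Matrix (Fin m) (Fin n) B) :
    ∃ (A' : Type u) (_ : CommRing A') (_ : Algebra A A') (_ : Algebra.Etale A A'),
      IsoMod I A' ∧ ∃ (φ : A' →ₐ[A] B) (M' : Matrix (Fin m) (Fin n) A'), M'.map φ = M := by
  classical
  obtain ⟨A', _, _, _, h, φ, hφ⟩ := exists_isoMod_of_finset hB
    (Finset.univ.image fun ij : Fin m × Fin n => M ij.1 ij.2)
  have hy : ∀ i j, ∃ y : A', φ y = M i j := fun i j =>
    hφ _ (Finset.mem_image_of_mem (fun ij : Fin m × Fin n => M ij.1 ij.2) (Finset.mem_univ (i, j)))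
  choose y hy using hy
  exact ⟨A', inferInstance, inferInstance, inferInstance, h, φ, Matrix.of y, by
    ext i j; exact hy i j⟩

/-- Matrices over an étale neighbourhood agreeing over the henselization agree over a smaller
étale neighbourhood. -/
theorem exists_isoMod_matrix_map_eq (hB : Hens2.IsPairHenselization A I B)
    (A' : Type u) [CommRing A'] [Algebra A A'] [Algebra.Etale A A'] (h : IsoMod I A')
    (φ : A' →ₐ[A] B) {m n : ℕ} (M N : Matrix (Fin m) (Fin n) A') (hMN : M.map φ = N.map φ) :
    ∃ (A'' : Type u) (_ : CommRing A'') (_ : Algebra A A'') (_ : Algebra.Etale A A''),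
      IsoMod I A'' ∧ ∃ ψ : A' →ₐ[A] A'', M.map ψ = N.map ψ := by
  classical
  obtain ⟨A'', _, _, _, h', ψ, hψ⟩ := exists_isoMod_kill_finset hB A' h φ
    (Finset.univ.image fun ij : Fin m × Fin n => M ij.1 ij.2 - N ij.1 ij.2) (by
      intro x hx
      obtain ⟨ij, -, rfl⟩ := Finset.mem_image.mp hx
      have := congrFun (congrFun hMN ij.1) ij.2
      simp only [Matrix.map_apply] at this
      rw [map_sub, this, sub_self])
  refine ⟨A'', inferInstance, inferInstance, inferInstance, h', ψ, ?_⟩
  ext i j
  have := hψ _ (Finset.mem_image_of_mem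
    (fun ij : Fin m × Fin n => M ij.1 ij.2 - N ij.1 ij.2) (Finset.mem_univ (i, j)))
  simp only [map_sub, sub_eq_zero] at this
  simpa using this

end MatrixDescent

section Main

variable {A : Type u} [CommRing A] (I : Ideal A)

/-- Idempotent matrices over `A/I` lift to an étale neighbourhood. -/
theorem exists_etale_idempotent_matrix {n : ℕ} (Mb : Matrix (Fin n) (Fin n) (A ⧸ I))
    (hMb : IsIdempotentElem Mb) :
    ∃ (A' : Type u) (_ : CommRing A') (_ : Algebra A A') (_ : Algebra.Etale A A'),
      IsoMod I A' ∧ ∃ M' : Matrix (Fin n) (Fin n) A', IsIdempotentElem M' ∧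
        M'.map (Ideal.Quotient.mk (I.map (algebraMap A A'))) =
          Mb.map (algebraMap (A ⧸ I) (A' ⧸ I.map (algebraMap A A'))) := by
  have hB := isPairHenselization A I
  set B := Hp A I
  set τ := algebraMap (A ⧸ I) (B ⧸ I.map (algebraMap A B)) with hτ
  obtain ⟨MB, hMB, hMBb⟩ := exists_idempotent_matrix (I.map (algebraMap A B))
    (Mb.map τ) (by
      have := hMb.map (τ.mapMatrix (m := Fin n))
      exact this)
  obtain ⟨E₁, _, _, _, h₁, φ₁, M₁, hM₁⟩ := exists_isoMod_matrix_lift hB MB
  obtain ⟨E₂, _, _, _, h₂, ψ, hψ⟩ := exists_isoMod_matrix_map_eq hB E₁ h₁ φ₁ (M₁ * M₁) M₁ (by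
    have e1 : (M₁ * M₁).map φ₁ = M₁.map φ₁ * M₁.map φ₁ :=
      Matrix.map_mul (f := (φ₁ : E₁ →+* B))
    rw [e1, hM₁]
    exact hMB.eq)
  obtain ⟨ι⟩ := exists_algHom_of_isoMod hB E₂ h₂
  have e1 : ι.comp ψ = φ₁ := algHom_ext_of_isoMod hB E₁ h₁ _ _
  refine ⟨E₂, inferInstance, inferInstance, inferInstance, h₂, M₁.map ψ, ?_, ?_⟩
  · show M₁.map ψ * M₁.map ψ = M₁.map ψ
    have e2 : (M₁ * M₁).map ψ = M₁.map ψ * M₁.map ψ := Matrix.map_mul (f := (ψ : E₁ →+* E₂))
    rw [← e2]
    exact hψ
  · ext i j
    simp only [Matrix.map_apply]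
    obtain ⟨a, ha⟩ := Ideal.Quotient.mk_surjective (Mb i j)
    rw [← ha]
    show Ideal.Quotient.mk _ (ψ (M₁ i j)) = Ideal.Quotient.mk _ (algebraMap A E₂ a)
    rw [Ideal.Quotient.eq]
    apply mem_map_of_isoMod hB E₂ h₂ ι
    rw [map_sub, ι.commutes, ← Ideal.Quotient.eq]
    have h3 : ι (ψ (M₁ i j)) = MB i j := by
      have := AlgHom.congr_fun e1 (M₁ i j)
      rw [AlgHom.comp_apply] at this
      rw [this]
      have := congrFun (congrFun hM₁ i) j
      simpa using this
    rw [h3]
    have h4 := congrFun (congrFun hMBb i) j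
    simp only [Matrix.map_apply] at h4
    rw [h4, ← ha]
    rfl

/-- Finite projective `A/I`-modules lift to an étale neighbourhood of `V(I)`. -/
theorem exists_etale_projective_lift (P : Type u) [AddCommGroup P] [Module (A ⧸ I) P]
    [Module.Finite (A ⧸ I) P] [Module.Projective (A ⧸ I) P] :
    ∃ (A' : Type u) (_ : CommRing A') (_ : Algebra A A') (_ : Algebra.Etale A A'),
      IsoMod I A' ∧ ∃ (P' : Type u) (_ : AddCommGroup P') (_ : Module A' P'),
        Module.Finite A' P' ∧ Module.Projective A' P' ∧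
        Nonempty (((A' ⧸ I.map (algebraMap A A')) ⊗[A'] P') ≃ₗ[A' ⧸ I.map (algebraMap A A')]
          ((A' ⧸ I.map (algebraMap A A')) ⊗[A ⧸ I] P)) := by
  obtain ⟨n, f₀, hf₀⟩ := Module.Finite.exists_fin' (A ⧸ I) P
  obtain ⟨s₀, hs₀⟩ := Module.projective_lifting_property f₀ LinearMap.id hf₀
  have hs₀' : ∀ y, f₀ (s₀ y) = y := fun y => LinearMap.congr_fun hs₀ y
  set Mb : Matrix (Fin n) (Fin n) (A ⧸ I) := LinearMap.toMatrix' (s₀.comp f₀) with hMbdef
  have hMblin : Matrix.toLin' Mb = s₀.comp f₀ := Matrix.toLin'_toMatrix' _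
  have hMb : IsIdempotentElem Mb := by
    show Mb * Mb = Mb
    rw [hMbdef, ← LinearMap.toMatrix'_comp]
    congr 1
    refine LinearMap.ext fun x => ?_
    show s₀ (f₀ (s₀ (f₀ x))) = s₀ (f₀ x)
    rw [hs₀']
  obtain ⟨A', _, _, _, hA', M', hM', hM'b⟩ := exists_etale_idempotent_matrix I Mb hMb
  set k' := A' ⧸ I.map (algebraMap A A') with hk'
  set E := Matrix.toLin' M' with hE
  have hEE : ∀ v, E (E v) = E v := by
    intro v
    rw [hE, ← LinearMap.comp_apply, ← Matrix.toLin'_mul, hM'.eq]
  let P' := LinearMap.range E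
  have hproj : Module.Projective A' P' := by
    refine Module.Projective.of_split P'.subtype E.rangeRestrict ?_
    refine LinearMap.ext fun x => ?_
    obtain ⟨x, y, rfl⟩ := x
    apply Subtype.ext
    exact hEE y
  refine ⟨A', inferInstance, inferInstance, inferInstance, hA', P', inferInstance, inferInstance,
    Module.Finite.range E, hproj, ?_⟩
  let ιk := TensorProduct.piScalarRight (A ⧸ I) k' k' (Fin n)
  let f : (Fin n → k') →ₗ[k'] k' ⊗[A ⧸ I] P := (f₀.baseChange k').comp ιk.symm.toLinearMap
  let s : k' ⊗[A ⧸ I] P →ₗ[k'] (Fin n → k') := ιk.toLinearMap.comp (s₀.baseChange k')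
  refine nonempty_linearEquiv_tensor_range (R := A') (S := k') M' hM' f s ?_ ?_
  · intro y
    show (f₀.baseChange k') (ιk.symm (ιk ((s₀.baseChange k') y))) = y
    rw [LinearEquiv.symm_apply_apply, ← LinearMap.comp_apply, ← LinearMap.baseChange_comp, hs₀,
      LinearMap.baseChange_id]
    rfl
  · intro v
    show ιk ((s₀.baseChange k') ((f₀.baseChange k') (ιk.symm v))) = _
    rw [← LinearMap.comp_apply, ← LinearMap.baseChange_comp, ← hMblin,
      piScalarRight_baseChange_toLin' Mb, LinearEquiv.apply_symm_apply]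
    congr 1
    exact hM'b.symm

end Main

end Groth.Agent.H8.PairHens
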