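import Mathlib

/-! Smooth loci near `V(I)` (helper8). -/

set_option autoImplicit false
universe u

namespace Groth.Agent.H8.PairHens.Smooth

/-- Localizing at an element congruent to `1` does not change the quotient by `J`. -/
theorem bijective_quotientMap_away {R : Type*} [CommRing R] (J : Ideal R) (s : R)
    (hs : 1 - s ∈ J) (R' : Type*) [CommRing R'] [Algebra R R'] [IsLocalization.Away s R'] :
    Function.Bijective (Ideal.quotientMap (J.map (algebraMap R R')) (algebraMap R R')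
      Ideal.le_comap_map) := by
  have hpow : ∀ k : ℕ, 1 - s ^ k ∈ J := by
    intro k
    have h := sub_dvd_pow_sub_pow (1 : R) s k
    rw [one_pow] at h
    obtain ⟨c, hc⟩ := h
    rw [hc]
    exact Ideal.mul_mem_right _ _ hs
  constructor
  · rw [injective_iff_map_eq_zero]
    intro x hx
    obtain ⟨x, rfl⟩ := Ideal.Quotient.mk_surjective x
    rw [Ideal.quotientMap_mk, Ideal.Quotient.eq_zero_iff_mem] at hx
    rw [IsLocalization.mem_map_algebraMap_iff (Submonoid.powers s)] at hx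
    obtain ⟨⟨⟨j, hj⟩, ⟨_, k, rfl⟩⟩, h⟩ := hx
    simp only at h
    rw [← map_mul] at h
    obtain ⟨⟨_, m, rfl⟩, hm⟩ := (IsLocalization.eq_iff_exists (Submonoid.powers s) R').mp h
    simp only at hm
    -- s^m * (x * s^k) = s^m * j
    rw [Ideal.Quotient.eq_zero_iff_mem]
    have h1 : s ^ m * (x * s ^ k) ∈ J := by rw [hm]; exact Ideal.mul_mem_left _ _ hj
    have h2 : x - s ^ m * (x * s ^ k) ∈ J := by
      have : x - s ^ m * (x * s ^ k) = x * (1 - s ^ (m + k)) := by rw [pow_add]; ring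
      rw [this]
      exact Ideal.mul_mem_left _ _ (hpow _)
    have := add_mem h2 h1
    rwa [sub_add_cancel] at this
  · intro y
    obtain ⟨y, rfl⟩ := Ideal.Quotient.mk_surjective y
    obtain ⟨x, ⟨_, k, rfl⟩, rfl⟩ := IsLocalization.exists_mk'_eq (Submonoid.powers s) y
    refine ⟨Ideal.Quotient.mk _ x, ?_⟩
    rw [Ideal.quotientMap_mk, Ideal.Quotient.eq]
    -- x - x/s^k = (x/s^k) * (s^k - 1)
    have h1 : algebraMap R R' x - IsLocalization.mk' R' x (⟨s ^ k, k, rfl⟩ : Submonoid.powers s) =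
        IsLocalization.mk' R' x (⟨s ^ k, k, rfl⟩ : Submonoid.powers s) *
          algebraMap R R' (-(1 - s ^ k)) := by
      have h2 := IsLocalization.mk'_spec R' x (⟨s ^ k, k, rfl⟩ : Submonoid.powers s)
      simp only at h2
      rw [map_neg, map_sub, map_one, mul_neg, mul_sub, mul_one, h2]
      ring
    rw [h1]
    exact Ideal.mul_mem_left _ _ (Ideal.mem_map_of_mem _ (neg_mem (hpow k)))

theorem exists_away_smooth {A R : Type*} [CommRing A] [CommRing R] [Algebra A R]
    [Algebra.FinitePresentation A R] (J : Ideal R)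
    (h : ∀ (p : Ideal R) [p.IsPrime], J ≤ p → Algebra.IsSmoothAt A p) :
    ∃ s : R, 1 - s ∈ J ∧ Algebra.Smooth A (Localization.Away s) := by
  have hopen : IsOpen (Algebra.smoothLocus A R) := Algebra.isOpen_smoothLocus
  obtain ⟨𝔟, h𝔟⟩ := (PrimeSpectrum.isClosed_iff_zeroLocus_ideal _).mp hopen.isClosed_compl
  have htop : J ⊔ 𝔟 = ⊤ := by
    by_contra hne
    obtain ⟨m, hm, hle⟩ := Ideal.exists_le_maximal _ hne
    haveI := hm.isPrime
    have h1 : (⟨m, hm.isPrime⟩ : PrimeSpectrum R) ∈ Algebra.smoothLocus A R :=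
      h m (le_sup_left.trans hle)
    have h2 : (⟨m, hm.isPrime⟩ : PrimeSpectrum R) ∈ (Algebra.smoothLocus A R)ᶜ := by
      rw [h𝔟, PrimeSpectrum.mem_zeroLocus]
      exact fun x hx => hle (Ideal.mem_sup_right hx)
    exact h2 h1
  have h1 : (1 : R) ∈ J ⊔ 𝔟 := by rw [htop]; trivial
  obtain ⟨j, hj, s, hs, hjs⟩ := Submodule.mem_sup.mp h1
  refine ⟨s, ?_, ?_⟩
  · have : 1 - s = j := by rw [← hjs]; ring
    rw [this]; exact hj
  · rw [← Algebra.basicOpen_subset_smoothLocus_iff_smooth]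
    intro p hp
    by_contra hnp
    have h3 : p ∈ (Algebra.smoothLocus A R)ᶜ := hnp
    rw [h𝔟, PrimeSpectrum.mem_zeroLocus] at h3
    exact hp (h3 hs)

end Groth.Agent.H8.PairHens.Smooth
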