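import Mathlib
import Groth.Agent.Lib.Helper8.PairHens.BaseQuot

open TensorProduct Polynomial

namespace Groth.Agent.H8.PairHens

universe u

section Corr

variable {A : Type*} [CommRing A] (K : Ideal A) {B : Type*} [CommRing B] [Algebra A B]
  {E : Type*} [CommRing E] [Algebra A E] [Algebra (A ⧸ K) E] [IsScalarTower A (A ⧸ K) E]

omit [Algebra A B] in
theorem map_algebraMap_eq_bot_of_tower : K.map (algebraMap A E) = ⊥ := by
  rw [eq_bot_iff, Ideal.map_le_iff_le_comap]
  intro a ha
  rw [Ideal.mem_comap, Ideal.mem_bot, IsScalarTower.algebraMap_apply A (A ⧸ K) E,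
    Ideal.Quotient.algebraMap_eq, Ideal.Quotient.eq_zero_iff_mem.mpr ha, map_zero]

theorem algHom_apply_eq_zero_of_mem (v : B →ₐ[A] E) {y : B} (hy : y ∈ K.map (algebraMap A B)) :
    v y = 0 := by
  have h1 : v y ∈ (K.map (algebraMap A B)).map (v : B →+* E) := Ideal.mem_map_of_mem _ hy
  rw [Ideal.map_map] at h1
  have h2 : (v : B →+* E).comp (algebraMap A B) = algebraMap A E := by
    ext a
    exact v.commutes a
  rw [h2, map_algebraMap_eq_bot_of_tower K, Ideal.mem_bot] at h1
  exact h1

/-- From maps of the quotients to maps of the original algebras. -/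
def ascend (v : (B ⧸ K.map (algebraMap A B)) →ₐ[A ⧸ K] E) : B →ₐ[A] E :=
  (v.restrictScalars A).comp (Ideal.Quotient.mkₐ A _)

@[simp] theorem ascend_apply (v : (B ⧸ K.map (algebraMap A B)) →ₐ[A ⧸ K] E) (b : B) :
    ascend K v b = v (Ideal.Quotient.mk _ b) := rfl

/-- From maps of the original algebras to maps of the quotients. -/
def descend (v : B →ₐ[A] E) : (B ⧸ K.map (algebraMap A B)) →ₐ[A ⧸ K] E :=
  { Ideal.Quotient.lift _ (v : B →+* E) (fun _ hy => algHom_apply_eq_zero_of_mem K v hy) with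
    commutes' := fun x => by
      obtain ⟨a, rfl⟩ := Ideal.Quotient.mk_surjective x
      change Ideal.Quotient.lift _ (v : B →+* E) _ (algebraMap (A ⧸ K) _ _) = _
      rw [Ideal.Quotient.algebraMap_quotient_map_quotient, Ideal.Quotient.lift_mk]
      change v (algebraMap A B a) = _
      rw [v.commutes, IsScalarTower.algebraMap_apply A (A ⧸ K) E]
      rfl }

@[simp] theorem descend_mk (v : B →ₐ[A] E) (b : B) :
    descend K v (Ideal.Quotient.mk _ b) = v b := rfl

theorem ascend_descend (v : B →ₐ[A] E) : ascend K (descend K v) = v := by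
  ext b
  rfl

theorem descend_ascend (v : (B ⧸ K.map (algebraMap A B)) →ₐ[A ⧸ K] E) :
    descend K (ascend K v) = v := by
  ext x
  obtain ⟨b, rfl⟩ := Ideal.Quotient.mk_surjective x
  rfl

end Corr

section Lift

variable {A : Type*} [CommRing A] (K : Ideal A) {B : Type*} [CommRing B] [Algebra A B]

/-- The `A/K`-algebra structure on an `A`-algebra killed by `K`. -/
@[reducible] def algebraQuot (E : Type*) [CommRing E] [Algebra A E]
    (hE : K.map (algebraMap A E) = ⊥) : Algebra (A ⧸ K) E :=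
  (Ideal.Quotient.lift K (algebraMap A E) (fun a ha => by
    have := Ideal.mem_map_of_mem (algebraMap A E) ha
    rwa [hE, Ideal.mem_bot] at this)).toAlgebra

theorem isScalarTower_algebraQuot (E : Type*) [CommRing E] [Algebra A E]
    (hE : K.map (algebraMap A E) = ⊥) :
    letI := algebraQuot K E hE
    IsScalarTower A (A ⧸ K) E :=
  letI := algebraQuot K E hE
  IsScalarTower.of_algebraMap_eq (fun _ => rfl)

theorem exists_lift_of_formallySmooth
    [Algebra.FormallySmooth (A ⧸ K) (B ⧸ K.map (algebraMap A B))]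
    (E C : Type*) [CommRing E] [CommRing C] [Algebra A E] [Algebra A C]
    (hE : K.map (algebraMap A E) = ⊥) (hC : K.map (algebraMap A C) = ⊥)
    (p : E →ₐ[A] C) (hp : Function.Surjective p)
    (hnil : IsNilpotent (RingHom.ker (p : E →+* C))) (u : B →ₐ[A] C) :
    ∃ v : B →ₐ[A] E, p.comp v = u := by
  letI := algebraQuot K E hE
  letI := algebraQuot K C hC
  haveI := isScalarTower_algebraQuot K E hE
  haveI := isScalarTower_algebraQuot K C hC
  let p' : E →ₐ[A ⧸ K] C :=
    { (p : E →+* C) with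
      commutes' := fun x => by
        obtain ⟨a, rfl⟩ := Ideal.Quotient.mk_surjective x
        exact p.commutes a }
  let v' := Algebra.FormallySmooth.liftOfSurjective (descend K u) p' hp hnil
  refine ⟨ascend K v', ?_⟩
  ext b
  exact Algebra.FormallySmooth.liftOfSurjective_apply (descend K u) p' hp hnil
    (Ideal.Quotient.mk _ b)

theorem unique_lift_of_formallyUnramified
    [Algebra.FormallyUnramified (A ⧸ K) (B ⧸ K.map (algebraMap A B))]
    (E C : Type*) [CommRing E] [CommRing C] [Algebra A E] [Algebra A C]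
    (hE : K.map (algebraMap A E) = ⊥)
    (p : E →ₐ[A] C) (hnil : IsNilpotent (RingHom.ker (p : E →+* C)))
    (v₁ v₂ : B →ₐ[A] E) (h : p.comp v₁ = p.comp v₂) : v₁ = v₂ := by
  letI := algebraQuot K E hE
  haveI := isScalarTower_algebraQuot K E hE
  have : descend K v₁ = descend K v₂ := by
    apply Algebra.FormallyUnramified.ext' (p : E →+* C) hnil
    intro x
    obtain ⟨b, rfl⟩ := Ideal.Quotient.mk_surjective x
    exact congrArg (fun w => w b) h
  rw [← ascend_descend K v₁, ← ascend_descend K v₂, this]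

end Lift

section Converse

variable {A : Type u} [CommRing A] (K : Ideal A) {B : Type u} [CommRing B] [Algebra A B]

/-- The test data for the lifting properties coming from a square-zero extension of
`A/K`-algebras. -/
theorem formallySmooth_quotient_of_lifting
    (h : ∀ (E C : Type u) [CommRing E] [CommRing C] [Algebra A E] [Algebra A C],
        K.map (algebraMap A E) = ⊥ → K.map (algebraMap A C) = ⊥ →
        ∀ (p : E →ₐ[A] C), Function.Surjective p → RingHom.ker (p : E →+* C) ^ 2 = ⊥ →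
        ∀ u : B →ₐ[A] C, ∃ v : B →ₐ[A] E, p.comp v = u) :
    Algebra.FormallySmooth (A ⧸ K) (B ⧸ K.map (algebraMap A B)) := by
  rw [Algebra.FormallySmooth.iff_comp_surjective]
  intro E' _ _ J hJ ub
  letI : Algebra A E' := ((algebraMap (A ⧸ K) E').comp (Ideal.Quotient.mk K)).toAlgebra
  haveI : IsScalarTower A (A ⧸ K) E' := IsScalarTower.of_algebraMap_eq (fun _ => rfl)
  have hE : K.map (algebraMap A E') = ⊥ := map_algebraMap_eq_bot_of_tower K
  have hC : K.map (algebraMap A (E' ⧸ J)) = ⊥ := map_algebraMap_eq_bot_of_tower K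
  have hker : RingHom.ker ((Ideal.Quotient.mkₐ A J : E' →ₐ[A] E' ⧸ J) : E' →+* E' ⧸ J) = J := by
    ext x
    simp
  obtain ⟨v, hv⟩ := h E' (E' ⧸ J) hE hC (Ideal.Quotient.mkₐ A J)
    (Ideal.Quotient.mkₐ_surjective A J) (by rw [hker, hJ]) (ascend K ub)
  refine ⟨descend K v, ?_⟩
  ext x
  obtain ⟨b, rfl⟩ := Ideal.Quotient.mk_surjective x
  exact congrArg (fun w => w b) hv

theorem formallyUnramified_quotient_of_lifting
    (h : ∀ (E C : Type u) [CommRing E] [CommRing C] [Algebra A E] [Algebra A C],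
        K.map (algebraMap A E) = ⊥ → K.map (algebraMap A C) = ⊥ →
        ∀ (p : E →ₐ[A] C), Function.Surjective p → RingHom.ker (p : E →+* C) ^ 2 = ⊥ →
        ∀ v₁ v₂ : B →ₐ[A] E, p.comp v₁ = p.comp v₂ → v₁ = v₂) :
    Algebra.FormallyUnramified (A ⧸ K) (B ⧸ K.map (algebraMap A B)) := by
  rw [Algebra.FormallyUnramified.iff_comp_injective]
  intro E' _ _ J hJ v₁ v₂ hv
  letI : Algebra A E' := ((algebraMap (A ⧸ K) E').comp (Ideal.Quotient.mk K)).toAlgebra
  haveI : IsScalarTower A (A ⧸ K) E' := IsScalarTower.of_algebraMap_eq (fun _ => rfl)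
  have hE : K.map (algebraMap A E') = ⊥ := map_algebraMap_eq_bot_of_tower K
  have hC : K.map (algebraMap A (E' ⧸ J)) = ⊥ := map_algebraMap_eq_bot_of_tower K
  have hker : RingHom.ker ((Ideal.Quotient.mkₐ A J : E' →ₐ[A] E' ⧸ J) : E' →+* E' ⧸ J) = J := by
    ext x
    simp
  have := h E' (E' ⧸ J) hE hC (Ideal.Quotient.mkₐ A J)
    (Ideal.Quotient.mkₐ_surjective A J) (by rw [hker, hJ]) (ascend K v₁) (ascend K v₂) (by
      ext b
      exact congrArg (fun w => w (Ideal.Quotient.mk _ b)) hv)
  rw [← descend_ascend K v₁, ← descend_ascend K v₂, this]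

end Converse

end Groth.Agent.H8.PairHens

namespace Groth.Agent.H8.PairHens

universe u

section HFormal

variable {A : Type u} [CommRing A] {I : Ideal A}
  {R : Type u} [CommRing R] [Algebra A R] [Algebra.FinitePresentation A R]
  {B : Type u} [CommRing B] [Algebra R B] [Algebra A B] [IsScalarTower A R B]

theorem finitePresentation_quotient_pow
    (hB : Hens2.IsPairHenselization R (I.map (algebraMap A R)) B) (r : ℕ) :
    Algebra.FinitePresentation (A ⧸ I ^ r) (B ⧸ (I ^ r).map (algebraMap A B)) := by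
  haveI : Algebra.FinitePresentation (A ⧸ I ^ r) (R ⧸ (I ^ r).map (algebraMap A R)) :=
    Algebra.FinitePresentation.equiv
      (Algebra.TensorProduct.quotIdealMapEquivQuotTensor R (I ^ r)).symm
  exact Algebra.FinitePresentation.equiv (quotPowEquiv hB r)

theorem hFormallyEtale_iff (hB : Hens2.IsPairHenselization R (I.map (algebraMap A R)) B) :
    (∀ (E C : Type u) [CommRing E] [CommRing C] [Algebra A E] [Algebra A C] (N : ℕ), 1 ≤ N →
        (I ^ N).map (algebraMap A E) = ⊥ → (I ^ N).map (algebraMap A C) = ⊥ →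
        ∀ (p : E →ₐ[A] C), Function.Surjective p → (∃ M : ℕ, 1 ≤ M ∧ RingHom.ker p ^ M = ⊥) →
        ∀ u : B →ₐ[A] C, ∃! v : B →ₐ[A] E, p.comp v = u) ↔
    ∀ r : ℕ, 1 ≤ r → Algebra.Etale (A ⧸ I ^ r) (B ⧸ (I ^ r).map (algebraMap A B)) := by
  constructor
  · intro hlift r hr
    haveI := finitePresentation_quotient_pow hB r
    haveI : Algebra.FormallySmooth (A ⧸ I ^ r) (B ⧸ (I ^ r).map (algebraMap A B)) :=
      formallySmooth_quotient_of_lifting (I ^ r) (fun E C _ _ _ _ hE hC p hp hker u =>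
        (hlift E C r hr hE hC p hp ⟨2, by norm_num, hker⟩ u).exists)
    haveI : Algebra.FormallyUnramified (A ⧸ I ^ r) (B ⧸ (I ^ r).map (algebraMap A B)) :=
      formallyUnramified_quotient_of_lifting (I ^ r) (fun E C _ _ _ _ hE hC p hp hker v₁ v₂ hv =>
        (hlift E C r hr hE hC p hp ⟨2, by norm_num, hker⟩ (p.comp v₂)).unique hv rfl)
    haveI : Algebra.FormallyEtale (A ⧸ I ^ r) (B ⧸ (I ^ r).map (algebraMap A B)) :=
      Algebra.FormallyEtale.of_formallyUnramified_and_formallySmooth
    exact ⟨inferInstance, inferInstance⟩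
  · intro het E C _ _ _ _ N hN hE hC p hp ⟨M, _, hker⟩ u
    haveI := het N hN
    have hnil : IsNilpotent (RingHom.ker (p : E →+* C)) := ⟨M, hker⟩
    obtain ⟨v, hv⟩ := exists_lift_of_formallySmooth (I ^ N) E C hE hC p hp hnil u
    refine ⟨v, hv, fun v' hv' => ?_⟩
    exact unique_lift_of_formallyUnramified (I ^ N) E C hE p hnil v' v (hv'.trans hv.symm)

theorem hFormallySmooth_iff (hB : Hens2.IsPairHenselization R (I.map (algebraMap A R)) B) :
    (∀ (E C : Type u) [CommRing E] [CommRing C] [Algebra A E] [Algebra A C] (N : ℕ), 1 ≤ N →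
        (I ^ N).map (algebraMap A E) = ⊥ → (I ^ N).map (algebraMap A C) = ⊥ →
        ∀ (p : E →ₐ[A] C), Function.Surjective p → (∃ M : ℕ, 1 ≤ M ∧ RingHom.ker p ^ M = ⊥) →
        ∀ u : B →ₐ[A] C, ∃ v : B →ₐ[A] E, p.comp v = u) ↔
    ∀ r : ℕ, 1 ≤ r → Algebra.Smooth (A ⧸ I ^ r) (B ⧸ (I ^ r).map (algebraMap A B)) := by
  constructor
  · intro hlift r hr
    haveI := finitePresentation_quotient_pow hB r
    haveI : Algebra.FormallySmooth (A ⧸ I ^ r) (B ⧸ (I ^ r).map (algebraMap A B)) :=
      formallySmooth_quotient_of_lifting (I ^ r) (fun E C _ _ _ _ hE hC p hp hker u =>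
        hlift E C r hr hE hC p hp ⟨2, by norm_num, hker⟩ u)
    exact ⟨inferInstance, inferInstance⟩
  · intro het E C _ _ _ _ N hN hE hC p hp ⟨M, _, hker⟩ u
    haveI := het N hN
    have hnil : IsNilpotent (RingHom.ker (p : E →+* C)) := ⟨M, hker⟩
    exact exists_lift_of_formallySmooth (I ^ N) E C hE hC p hp hnil u

end HFormal

end Groth.Agent.H8.PairHens
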