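import Mathlib
import Groth.Agent.Lib.Helper8.PairHens.ZMT

set_option autoImplicit false
universe u

namespace Groth.Agent.H8.PairHens.ZMT

open Groth.Agent.H8.HensPair Groth.Agent.H8.PairHens

/-- Over a henselian pair `(A, I)`, for a finite type algebra `R` with `R/IR` finite, every
idempotent of `R/IR` lifts to an idempotent `e` of `R` with `R/(1-e)` finite over `A`. -/
theorem exists_idempotent_lift_finite (A : Type u) [CommRing A] (I : Ideal A) [HenselianRing A I]
    (R : Type*) [CommRing R] [Algebra A R] [Algebra.FiniteType A R]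
    [Module.Finite A (R ⧸ I.map (algebraMap A R))] (y₀ : R)
    (hy₀ : y₀ * y₀ - y₀ ∈ I.map (algebraMap A R)) :
    ∃ e : R, IsIdempotentElem e ∧ e - y₀ ∈ I.map (algebraMap A R) ∧
      Module.Finite A (R ⧸ Ideal.span {1 - e}) := by
  obtain ⟨e', he', he'1, hfin⟩ := exists_idempotent_finite A I R
  set A' := R ⧸ Ideal.span {1 - e'} with hA'
  let π : R →ₐ[A] A' := Ideal.Quotient.mkₐ A _
  have hπ : Function.Surjective π := Ideal.Quotient.mkₐ_surjective A _
  haveI : Algebra.IsIntegral A A' := Algebra.IsIntegral.of_finite A A'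
  have h1 : π y₀ * π y₀ - π y₀ ∈ I.map (algebraMap A A') := by
    rw [← map_mul, ← map_sub]
    exact map_mem_map_of_algHom π hy₀
  obtain ⟨a, ha, hay⟩ := exists_idempotent_of_isIntegral I (π y₀) h1
  obtain ⟨a', rfl⟩ := hπ a
  have hker : ∀ x : R, π x = 0 → e' * x = 0 := by
    intro x hx
    have hx' : x ∈ Ideal.span {1 - e'} := Ideal.Quotient.eq_zero_iff_mem.mp hx
    obtain ⟨c, rfl⟩ := Ideal.mem_span_singleton'.mp hx'
    have : e' * e' = e' := he'
    linear_combination (-c) * this
  have hmapI : ∀ x : R, π x ∈ I.map (algebraMap A A') →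
      x ∈ I.map (algebraMap A R) ⊔ Ideal.span {1 - e'} := by
    intro x hx
    have h2 : I.map (algebraMap A A') = (I.map (algebraMap A R)).map π.toRingHom := by
      rw [Ideal.map_map, AlgHom.toRingHom_eq_coe, π.comp_algebraMap]
    rw [h2] at hx
    have h3 : x ∈ ((I.map (algebraMap A R)).map π.toRingHom).comap π.toRingHom := hx
    rw [Ideal.comap_map_of_surjective π.toRingHom hπ] at h3
    have h4 : (⊥ : Ideal A').comap π.toRingHom = Ideal.span {1 - e'} := by
      ext z
      rw [Ideal.mem_comap, Ideal.mem_bot]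
      exact Ideal.Quotient.eq_zero_iff_mem
    rwa [h4] at h3
  have hle : Ideal.span {1 - e'} ≤ I.map (algebraMap A R) := by
    rw [Ideal.span_singleton_le_iff_mem]; exact he'1
  refine ⟨e' * a', ?_, ?_, ?_⟩
  · have h5 : π (a' * a' - a') = 0 := by
      rw [map_sub, map_mul]
      have : π a' * π a' = π a' := ha
      rw [this, sub_self]
    have h6 := hker _ h5
    have h7 : e' * e' = e' := he'
    show e' * a' * (e' * a') = e' * a'
    linear_combination a' * a' * h7 + h6
  · have h5 : a' - y₀ ∈ I.map (algebraMap A R) := by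
      have := hmapI (a' - y₀) (by rw [map_sub]; exact hay)
      rwa [sup_eq_left.mpr hle] at this
    have h6 : e' * a' - y₀ = (a' - y₀) - (1 - e') * a' := by ring
    rw [h6]
    exact Ideal.sub_mem _ h5 (Ideal.mul_mem_right _ _ he'1)
  · have h5 : Ideal.span {1 - e'} ≤ Ideal.span {1 - e' * a'} := by
      rw [Ideal.span_singleton_le_iff_mem, Ideal.mem_span_singleton']
      refine ⟨1 - e', ?_⟩
      have h7 : e' * e' = e' := he'
      linear_combination a' * h7
    let ψ : A' →ₐ[A] R ⧸ Ideal.span {1 - e' * a'} := Ideal.Quotient.factorₐ A h5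
    exact Module.Finite.of_surjective ψ.toLinearMap (Ideal.Quotient.factor_surjective h5)

end Groth.Agent.H8.PairHens.ZMT
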