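import Mathlib
import Groth.Agent.Lib.Helper8.PairHens.Maps
import Groth.Agent.Lib.Helper8.HensPair.DirColim
import Groth.Agent.Lib.Helper5.CA.WeakColimitDescent

open TensorProduct Polynomial

namespace Groth.Agent.H8.PairHens

universe u

section ColimHom

variable (A : Type u) [CommRing A] (I : Ideal A)
    {κ : Type u} [Preorder κ] [IsDirectedOrder κ] [Nonempty κ]
    (Ra : κ → Type u) [∀ a, CommRing (Ra a)] [∀ a, Algebra A (Ra a)]
    [hRa : ∀ a, HenselianRing (Ra a) (I.map (algebraMap A (Ra a)))]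
    (t : ∀ a b : κ, a ≤ b → (Ra a →+* Ra b)) [DirectedSystem Ra (fun a b h => t a b h)]
    (ht : ∀ (a b : κ) (h : a ≤ b), (t a b h).comp (algebraMap A (Ra a)) = algebraMap A (Ra b))
    [Algebra A (DirectLimit Ra t)]
    (halg : ∀ (a : κ) (x : A), algebraMap A (DirectLimit Ra t) x =
      DirectLimit.Ring.of Ra t a (algebraMap A (Ra a) x))

include ht halg in
/-- The direct limit of henselian pairs `(R_a, I R_a)` is henselian along `I`. -/
theorem henselianRing_directLimit :
    HenselianRing (DirectLimit Ra t) (I.map (algebraMap A (DirectLimit Ra t))) := by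
  have key := HensPair.henselianRing_of_dirColim Ra t
    (fun a => DirectLimit.Ring.of Ra t a)
    (fun i j h x => DirectLimit.Ring.of_f h x)
    (fun z => by
      obtain ⟨i, x, rfl⟩ := DirectLimit.exists_eq_mk (f := t) z
      exact ⟨i, x, rfl⟩)
    (fun i x hx => by
      have : (⟦⟨i, x⟩⟧ : DirectLimit Ra t) = 0 := hx
      rw [DirectLimit.exists_eq_zero] at this
      exact this)
    (fun a => I.map (algebraMap A (Ra a)))
    (fun i j h => by rw [Ideal.map_map, ht])
    (fun i j k hij hjk x => DirectedSystem.map_map' (f := t) hij hjk x)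
    hRa
  have e : ∀ a, (I.map (algebraMap A (Ra a))).map (DirectLimit.Ring.of Ra t a) =
      I.map (algebraMap A (DirectLimit Ra t)) := by
    intro a
    rw [Ideal.map_map]
    congr 1
    ext x
    exact (halg a x).symm
  simp only [e, iSup_const] at key
  exact key

/-- The transition maps as algebra maps. -/
def tAlg (a b : κ) (h : a ≤ b) : Ra a →ₐ[A] Ra b :=
  { t a b h with commutes' := fun x => congrArg (fun w => w x) (ht a b h) }

/-- The canonical maps as algebra maps. -/
noncomputable def ofAlgHom (a : κ) : Ra a →ₐ[A] DirectLimit Ra t :=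
  { DirectLimit.Ring.of Ra t a with commutes' := fun x => (halg a x).symm }

/-- The weak colimit structure whose admissible maps are the transition maps. -/
noncomputable def weakColimit : Groth.Agent.H5.CA.WeakColimit A Ra (DirectLimit Ra t) where
  g := ofAlgHom A Ra t halg
  Adm i j φ := ∃ h : i ≤ j, φ = tAlg A Ra t ht i j h
  adm_id i := ⟨le_rfl, by
    ext x
    exact (DirectedSystem.map_self' (f := t) x).symm⟩
  adm_comp i j k φ ψ := by
    rintro ⟨h1, rfl⟩ ⟨h2, rfl⟩
    refine ⟨h1.trans h2, ?_⟩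
    ext x
    exact DirectedSystem.map_map' (f := t) h1 h2 x
  adm_compat i j φ := by
    rintro ⟨h, rfl⟩
    ext x
    exact DirectLimit.Ring.of_f h x
  nonempty := inferInstance
  directed i j := by
    obtain ⟨k, hik, hjk⟩ := exists_ge_ge i j
    exact ⟨k, tAlg A Ra t ht i k hik, tAlg A Ra t ht j k hjk, ⟨hik, rfl⟩, ⟨hjk, rfl⟩⟩
  surj z := by
    obtain ⟨i, x, rfl⟩ := DirectLimit.exists_eq_mk (f := t) z
    exact ⟨i, x, rfl⟩
  ker i x hx := by
    have : (⟦⟨i, x⟩⟧ : DirectLimit Ra t) = 0 := hx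
    rw [DirectLimit.exists_eq_zero] at this
    obtain ⟨j, h, hj⟩ := this
    exact ⟨j, tAlg A Ra t ht i j h, ⟨h, rfl⟩, hj⟩

variable (R₀ : Type u) [CommRing R₀] [Algebra A R₀] [Algebra.FinitePresentation A R₀]
    (B : Type u) [CommRing B] [Algebra R₀ B] [Algebra A B] [IsScalarTower A R₀ B]
    (hB : Hens2.IsPairHenselization R₀ (I.map (algebraMap A R₀)) B)

include hB ht halg hRa in
theorem exists_factor_directLimit (χ : B →ₐ[A] DirectLimit Ra t) :
    ∃ (a : κ) (φ : B →ₐ[A] Ra a), ∀ x : B, DirectLimit.Ring.of Ra t a (φ x) = χ x := by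
  haveI := henselianRing_directLimit A I Ra t ht halg
  let W := weakColimit A Ra t ht halg
  obtain ⟨a, -, -, ρ', hρ'⟩ := W.exists_factor R₀ (χ.comp (IsScalarTower.toAlgHom A R₀ B))
    (Classical.arbitrary κ)
  obtain ⟨φ, hφ⟩ := exists_algHom_extension hB ρ'
  refine ⟨a, φ, fun x => ?_⟩
  have : (ofAlgHom A Ra t halg a).comp φ = χ := by
    apply algHom_ext_of_comp_eq hB
    rw [AlgHom.comp_assoc, hφ]
    exact hρ'
  exact congrArg (fun w => w x) this

include hB ht hRa halg in
theorem exists_eq_directLimit (a : κ) (φ ψ : B →ₐ[A] Ra a)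
    (h : ∀ x : B, DirectLimit.Ring.of Ra t a (φ x) = DirectLimit.Ring.of Ra t a (ψ x)) :
    ∃ (b : κ) (hab : a ≤ b), ∀ x : B, t a b hab (φ x) = t a b hab (ψ x) := by
  let W := weakColimit A Ra t ht halg
  obtain ⟨b, θ, ⟨hab, rfl⟩, hθ⟩ := W.exists_comp_eq R₀
    (φ.comp (IsScalarTower.toAlgHom A R₀ B)) (ψ.comp (IsScalarTower.toAlgHom A R₀ B)) (by
      ext r
      exact h _)
  refine ⟨b, hab, fun x => ?_⟩
  have : (tAlg A Ra t ht a b hab).comp φ = (tAlg A Ra t ht a b hab).comp ψ := by
    apply algHom_ext_of_comp_eq hB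
    rw [AlgHom.comp_assoc, AlgHom.comp_assoc]
    exact hθ
  exact congrArg (fun w => w x) this

end ColimHom

end Groth.Agent.H8.PairHens
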