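import Mathlib
import Groth.Prelude.Def_Hens2
import Groth.Agent.Lib.Helper8.PairHens.HFP
import Groth.Agent.Lib.Helper8.PairHens.Henselization
import Groth.Agent.Lib.Helper8.PairHens.Quotient
import Groth.Agent.Lib.Helper8.PairHens.Maps

/-!
# Compact objects among henselian pairs over `(A, I)` are henselian finitely presented
-/

set_option autoImplicit false

namespace Groth.Agent.H8.PairHens

universe u

section Compact

variable (A : Type u) [CommRing A] (I : Ideal A) (B : Type u) [CommRing B] [Algebra A B]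

/-- the factorization half of compactness of `B` among henselian pairs over `(A, I)`. -/
def FacProp : Prop :=
  ∀ (κ : Type u) [Preorder κ] [IsDirectedOrder κ] [Nonempty κ]
    (Ra : κ → Type u) [∀ a, CommRing (Ra a)] [∀ a, Algebra A (Ra a)]
    [∀ a, HenselianRing (Ra a) (I.map (algebraMap A (Ra a)))]
    (t : ∀ a b : κ, a ≤ b → (Ra a →+* Ra b)) [DirectedSystem Ra (fun a b hab => t a b hab)],
    (∀ (a b : κ) (hab : a ≤ b), (t a b hab).comp (algebraMap A (Ra a)) = algebraMap A (Ra b)) →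
    ∀ [Algebra A (DirectLimit Ra t)],
    (∀ (a : κ) (x : A), algebraMap A (DirectLimit Ra t) x =
      DirectLimit.Ring.of Ra t a (algebraMap A (Ra a) x)) →
    ∀ χ : B →ₐ[A] DirectLimit Ra t, ∃ (a : κ) (φ : B →ₐ[A] Ra a),
      ∀ x : B, DirectLimit.Ring.of Ra t a (φ x) = χ x

variable {A I B}

/-- if `B` is the colimit of a directed system of henselian pairs over `(A, I)`, then `B` is a
retract of a stage. -/
theorem exists_section_of_bijective (hfac : FacProp A I B)
    {κ : Type u} [Preorder κ] [IsDirectedOrder κ] [Nonempty κ]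
    (Ra : κ → Type u) [∀ a, CommRing (Ra a)] [∀ a, Algebra A (Ra a)]
    [∀ a, HenselianRing (Ra a) (I.map (algebraMap A (Ra a)))]
    (t : ∀ a b : κ, a ≤ b → (Ra a →+* Ra b)) [DirectedSystem Ra (fun a b hab => t a b hab)]
    (ht : ∀ (a b : κ) (hab : a ≤ b), (t a b hab).comp (algebraMap A (Ra a)) = algebraMap A (Ra b))
    (ρ : ∀ a, Ra a →ₐ[A] B) (hρ : ∀ a b (hab : a ≤ b) (x : Ra a), ρ b (t a b hab x) = ρ a x)
    (hsurj : ∀ y : B, ∃ a x, ρ a x = y)
    (hinj : ∀ a (x : Ra a), ρ a x = 0 → ∃ b, ∃ hab : a ≤ b, t a b hab x = 0) :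
    ∃ (a : κ) (σ : B →ₐ[A] Ra a), ∀ y, ρ a (σ y) = y := by
  classical
  obtain ⟨a₀⟩ : Nonempty κ := inferInstance
  letI : Algebra A (DirectLimit Ra t) :=
    ((DirectLimit.Ring.of Ra t a₀).comp (algebraMap A (Ra a₀))).toAlgebra
  have halg : ∀ (a : κ) (x : A), algebraMap A (DirectLimit Ra t) x =
      DirectLimit.Ring.of Ra t a (algebraMap A (Ra a) x) := by
    intro a x
    obtain ⟨c, h0c, hac⟩ := exists_ge_ge a₀ a
    show DirectLimit.Ring.of Ra t a₀ (algebraMap A (Ra a₀) x) = _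
    rw [← DirectLimit.Ring.of_f h0c, ← DirectLimit.Ring.of_f hac]
    have e1 := congrArg (fun w => w x) (ht a₀ c h0c)
    have e2 := congrArg (fun w => w x) (ht a c hac)
    simp only [RingHom.comp_apply] at e1 e2
    rw [e1, e2]
  obtain ⟨L, hL⟩ : ∃ L : DirectLimit Ra t →+* B,
      ∀ a x, L (DirectLimit.Ring.of Ra t a x) = ρ a x :=
    ⟨DirectLimit.Ring.lift Ra t B (fun a => (ρ a : Ra a →+* B))
      (fun a b hab x => hρ a b hab x), fun a x => rfl⟩
  have hLinj : Function.Injective L := by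
    rw [injective_iff_map_eq_zero]
    intro z hz
    obtain ⟨a, x, rfl⟩ := DirectLimit.exists_eq_mk (f := t) z
    have hx : ρ a x = 0 := by
      rw [← hL]
      exact hz
    obtain ⟨b, hab, hb⟩ := hinj a x hx
    show DirectLimit.Ring.of Ra t a x = 0
    rw [← DirectLimit.Ring.of_f hab, hb, map_zero]
  have hLsurj : Function.Surjective L := by
    intro y
    obtain ⟨a, x, rfl⟩ := hsurj y
    exact ⟨DirectLimit.Ring.of Ra t a x, hL a x⟩
  obtain ⟨E, hE⟩ : ∃ E : DirectLimit Ra t ≃+* B, ∀ z, E z = L z :=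
    ⟨RingEquiv.ofBijective L ⟨hLinj, hLsurj⟩, fun _ => rfl⟩
  obtain ⟨χ, hχ⟩ : ∃ χ : B →ₐ[A] DirectLimit Ra t, ∀ y, χ y = E.symm y :=
    ⟨{ (E.symm : B →+* DirectLimit Ra t) with
        commutes' := fun x => by
          show E.symm (algebraMap A B x) = algebraMap A (DirectLimit Ra t) x
          rw [RingEquiv.symm_apply_eq, halg a₀ x, hE, hL, AlgHom.commutes] }, fun _ => rfl⟩
  obtain ⟨a, σ, hσ⟩ := hfac κ Ra t ht halg χ
  refine ⟨a, σ, fun y => ?_⟩
  have h1 := congrArg L (hσ y)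
  rw [hL, hχ, ← hE, E.apply_symm_apply] at h1
  exact h1

/-- **Step 1.** -/
theorem exists_surjective_of_ranges (hfac : FacProp A I B)
    {κ : Type u} [Preorder κ] [IsDirectedOrder κ] [Nonempty κ]
    (P : κ → Type u) [∀ s, CommRing (P s)] [∀ s, Algebra A (P s)]
    [∀ s, HenselianRing (P s) (I.map (algebraMap A (P s)))]
    (φ : ∀ s, P s →ₐ[A] B)
    (hmono : ∀ s s', s ≤ s' → (φ s).range ≤ (φ s').range)
    (hcov : ∀ y : B, ∃ s, y ∈ (φ s).range) :
    ∃ s, Function.Surjective (φ s) := by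
  haveI hH : ∀ s, HenselianRing (↥(φ s).range) (I.map (algebraMap A ↥(φ s).range)) := fun s => by
    have h1 := henselianRing_map_of_surjective (I.map (algebraMap A (P s)))
      ((φ s).rangeRestrict : P s →+* ↥(φ s).range) (φ s).rangeRestrict_surjective
    rw [Ideal.map_map] at h1
    have e : ((φ s).rangeRestrict : P s →+* ↥(φ s).range).comp (algebraMap A (P s)) =
        algebraMap A ↥(φ s).range := (φ s).rangeRestrict.comp_algebraMap
    rwa [e] at h1
  obtain ⟨t, ht⟩ : ∃ t : ∀ s s' : κ, s ≤ s' → (↥(φ s).range →+* ↥(φ s').range),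
      ∀ s s' (h : s ≤ s') (x : ↥(φ s).range), ((t s s' h x : ↥(φ s').range) : B) = (x : B) :=
    ⟨fun s s' h => (Subalgebra.inclusion (hmono s s' h)).toRingHom, fun _ _ _ _ => rfl⟩
  haveI : DirectedSystem (fun s => ↥(φ s).range) (fun s s' h => t s s' h) :=
    { map_self := fun s x => Subtype.ext (ht s s le_rfl x)
      map_map := fun k j i hij hjk x => Subtype.ext (by rw [ht, ht, ht]) }
  obtain ⟨s, σ, hσ⟩ := exists_section_of_bijective hfac (fun s => ↥(φ s).range) t
    (fun s s' h => by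
      ext x
      rw [RingHom.comp_apply, ht]
      rfl)
    (fun s => (φ s).range.val)
    (fun s s' h x => ht s s' h x)
    (fun y => by
      obtain ⟨s, hs⟩ := hcov y
      exact ⟨s, ⟨y, hs⟩, rfl⟩)
    (fun s x hx => ⟨s, le_rfl, by
      apply Subtype.ext
      rw [ht]
      exact hx⟩)
  refine ⟨s, fun y => ?_⟩
  have h1 : ((σ y : ↥(φ s).range) : B) = y := hσ y
  obtain ⟨z, hz⟩ := (σ y).2
  exact ⟨z, hz.trans h1⟩

/-- **Step 2.** -/
theorem exists_fg_section (hfac : FacProp A I B) (P : Type u) [CommRing P] [Algebra A P]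
    [HenselianRing P (I.map (algebraMap A P))] (φ : P →ₐ[A] B) (hφ : Function.Surjective φ) :
    ∃ (J₀ : Ideal P) (hJ₀ : ∀ a ∈ J₀, φ a = 0), J₀.FG ∧
      ∃ σ : B →ₐ[A] P ⧸ J₀, ∀ y, Ideal.Quotient.liftₐ J₀ φ hJ₀ (σ y) = y := by
  classical
  obtain ⟨Kμ, hKμ⟩ : ∃ Kμ : Finset ↥(RingHom.ker φ) → Ideal P,
      ∀ μ, Kμ μ = Ideal.span (Subtype.val '' (μ : Set ↥(RingHom.ker φ))) := ⟨_, fun _ => rfl⟩
  have hmono : ∀ μ μ', μ ≤ μ' → Kμ μ ≤ Kμ μ' := by
    intro μ μ' h
    rw [hKμ, hKμ]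
    exact Ideal.span_mono (Set.image_mono (Finset.coe_subset.mpr h))
  have hle : ∀ μ, ∀ a ∈ Kμ μ, φ a = 0 := by
    intro μ a ha
    have : Kμ μ ≤ RingHom.ker φ := by
      rw [hKμ, Ideal.span_le]
      rintro _ ⟨k, -, rfl⟩
      exact k.2
    exact RingHom.mem_ker.mp (this ha)
  have hfg : ∀ μ, (Kμ μ).FG := by
    intro μ
    refine ⟨μ.image Subtype.val, ?_⟩
    rw [hKμ, Finset.coe_image]
  haveI hH : ∀ μ, HenselianRing (P ⧸ Kμ μ) (I.map (algebraMap A (P ⧸ Kμ μ))) := fun μ => by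
    have h1 := henselianRing_map_of_surjective (I.map (algebraMap A P))
      (Ideal.Quotient.mk (Kμ μ)) Ideal.Quotient.mk_surjective
    rw [Ideal.map_map] at h1
    exact h1
  haveI : DirectedSystem (fun μ => P ⧸ Kμ μ)
      (fun μ μ' h => (Ideal.Quotient.factor (hmono μ μ' h) : P ⧸ Kμ μ → P ⧸ Kμ μ')) :=
    { map_self := fun μ x => by
        obtain ⟨z, rfl⟩ := Ideal.Quotient.mk_surjective x
        rfl
      map_map := fun k j i hij hjk x => by
        obtain ⟨z, rfl⟩ := Ideal.Quotient.mk_surjective x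
        rfl }
  obtain ⟨μ, σ, hσ⟩ := exists_section_of_bijective hfac (fun μ => P ⧸ Kμ μ)
    (fun μ μ' h => Ideal.Quotient.factor (hmono μ μ' h))
    (fun μ μ' h => by
      ext x
      rfl)
    (fun μ => Ideal.Quotient.liftₐ (Kμ μ) φ (hle μ))
    (fun μ μ' h x => by
      obtain ⟨z, rfl⟩ := Ideal.Quotient.mk_surjective x
      rfl)
    (fun y => by
      obtain ⟨z, rfl⟩ := hφ y
      exact ⟨∅, Ideal.Quotient.mk _ z, rfl⟩)
    (fun μ x hx => by
      obtain ⟨z, rfl⟩ := Ideal.Quotient.mk_surjective x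
      have hz : z ∈ RingHom.ker φ := RingHom.mem_ker.mpr hx
      refine ⟨insert ⟨z, hz⟩ μ, Finset.subset_insert _ _, ?_⟩
      show Ideal.Quotient.mk (Kμ (insert ⟨z, hz⟩ μ)) z = 0
      rw [Ideal.Quotient.eq_zero_iff_mem, hKμ]
      exact Ideal.subset_span ⟨⟨z, hz⟩, Finset.mem_coe.mpr (Finset.mem_insert_self _ _), rfl⟩)
  exact ⟨Kμ μ, hle μ, hfg μ, σ, hσ⟩

/-- endomorphisms of a quotient of a henselization fixing the generators modulo `J` fix everything
modulo `J`. -/
theorem endo_sub_mem (Q : Type u) [CommRing Q] [Algebra A Q] (P : Type u) [CommRing P]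
    [Algebra Q P] [Algebra A P] [IsScalarTower A Q P]
    (hP : Hens2.IsPairHenselization Q (I.map (algebraMap A Q)) P)
    {ι : Type*} (g : ι → Q) (hg : Algebra.adjoin A (Set.range g) = ⊤)
    (C : Type u) [CommRing C] [Algebra A C] (m : P →ₐ[A] C) (hm : Function.Surjective m)
    (e : C →ₐ[A] C) (J : Ideal C)
    (hJ : ∀ i, e (m (algebraMap Q P (g i))) - m (algebraMap Q P (g i)) ∈ J) (y : C) :
    e y - y ∈ J := by
  haveI hHP : HenselianRing P (I.map (algebraMap A P)) := by
    have := hP.1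
    rwa [map_tower_eq] at this
  haveI : HenselianRing (C ⧸ J) (I.map (algebraMap A (C ⧸ J))) := by
    have h1 := henselianRing_map_of_surjective (I.map (algebraMap A P))
      (((Ideal.Quotient.mkₐ A J).comp m : P →ₐ[A] C ⧸ J) : P →+* C ⧸ J)
      ((Ideal.Quotient.mkₐ_surjective A J).comp hm)
    rw [Ideal.map_map] at h1
    have e1 : (((Ideal.Quotient.mkₐ A J).comp m : P →ₐ[A] C ⧸ J) : P →+* C ⧸ J).comp
        (algebraMap A P) = algebraMap A (C ⧸ J) :=
      ((Ideal.Quotient.mkₐ A J).comp m).comp_algebraMap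
    rwa [e1] at h1
  have key : ((Ideal.Quotient.mkₐ A J).comp e).comp m = (Ideal.Quotient.mkₐ A J).comp m := by
    apply algHom_ext_of_comp_eq hP
    apply AlgHom.ext_of_adjoin_eq_top hg
    rintro _ ⟨i, rfl⟩
    show Ideal.Quotient.mk J (e (m (algebraMap Q P (g i)))) =
      Ideal.Quotient.mk J (m (algebraMap Q P (g i)))
    exact (Ideal.Quotient.eq).mpr (hJ i)
  obtain ⟨z, rfl⟩ := hm y
  have h1 := congrArg (fun w => w z) key
  exact (Ideal.Quotient.eq).mp h1

/-- **Step 3.** -/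
theorem fg_ker_of_section (Q : Type u) [CommRing Q] [Algebra A Q] (P : Type u) [CommRing P]
    [Algebra Q P] [Algebra A P] [IsScalarTower A Q P]
    (hP : Hens2.IsPairHenselization Q (I.map (algebraMap A Q)) P)
    {ι : Type*} [Finite ι] (g : ι → Q) (hg : Algebra.adjoin A (Set.range g) = ⊤)
    (φ : P →ₐ[A] B) (J₀ : Ideal P) (hJ₀ : ∀ a ∈ J₀, φ a = 0) (hfg : J₀.FG)
    (σ : B →ₐ[A] P ⧸ J₀) (hσ : ∀ y, Ideal.Quotient.liftₐ J₀ φ hJ₀ (σ y) = y) :
    (RingHom.ker φ).FG := by
  classical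
  obtain ⟨p, hp, hσ'⟩ : ∃ p : P ⧸ J₀ →ₐ[A] B, (∀ z, p (Ideal.Quotient.mk J₀ z) = φ z) ∧
      ∀ y, p (σ y) = y :=
    ⟨Ideal.Quotient.liftₐ J₀ φ hJ₀, fun _ => rfl, hσ⟩
  obtain ⟨w, hw⟩ : ∃ w : ι → P, ∀ i, Ideal.Quotient.mk J₀ (w i) =
      σ (p (Ideal.Quotient.mk J₀ (algebraMap Q P (g i)))) -
        Ideal.Quotient.mk J₀ (algebraMap Q P (g i)) :=
    ⟨fun i => (Ideal.Quotient.mk_surjective (σ (p (Ideal.Quotient.mk J₀
      (algebraMap Q P (g i)))) - Ideal.Quotient.mk J₀ (algebraMap Q P (g i)))).choose,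
      fun i => (Ideal.Quotient.mk_surjective _).choose_spec⟩
  have hsub : ∀ y : P ⧸ J₀, (σ.comp p) y - y ∈
      Ideal.span (Set.range fun i => Ideal.Quotient.mk J₀ (w i)) :=
    endo_sub_mem (A := A) (I := I) Q P hP g hg (P ⧸ J₀) (Ideal.Quotient.mkₐ A J₀)
      (Ideal.Quotient.mkₐ_surjective A J₀) (σ.comp p) _ (fun i => by
        apply Ideal.subset_span
        exact ⟨i, hw i⟩)
  have hker : RingHom.ker φ = Ideal.span (Set.range w) ⊔ J₀ := by
    apply le_antisymm
    · intro z hz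
      have hz0 : φ z = 0 := RingHom.mem_ker.mp hz
      have h1 := hsub (Ideal.Quotient.mk J₀ z)
      rw [AlgHom.comp_apply, hp, hz0, map_zero, zero_sub, neg_mem_iff] at h1
      have h2 : Ideal.span (Set.range fun i => Ideal.Quotient.mk J₀ (w i)) =
          (Ideal.span (Set.range w)).map (Ideal.Quotient.mk J₀) := by
        rw [Ideal.map_span, ← Set.range_comp]
        rfl
      rw [h2] at h1
      have h3 : z ∈ ((Ideal.span (Set.range w)).map (Ideal.Quotient.mk J₀)).comap
          (Ideal.Quotient.mk J₀) := h1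
      rw [Ideal.comap_map_of_surjective _ Ideal.Quotient.mk_surjective,
        ← RingHom.ker_eq_comap_bot, Ideal.mk_ker] at h3
      exact h3
    · rw [sup_le_iff]
      constructor
      · rw [Ideal.span_le]
        rintro _ ⟨i, rfl⟩
        show w i ∈ RingHom.ker φ
        rw [RingHom.mem_ker, ← hp, hw, map_sub, hσ', sub_self]
      · intro a ha
        exact RingHom.mem_ker.mpr (hJ₀ a ha)
  rw [hker]
  exact Submodule.FG.sup (Submodule.fg_span (Set.finite_range w)) hfg

end Compact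

section Main

variable (A : Type u) [CommRing A] (I : Ideal A)
  (B : Type u) [CommRing B] [Algebra A B]

/-- the henselized polynomial ring on a finite subset of `B`. -/
def PP (s : Finset B) : Type u :=
  Hp (MvPolynomial (↥s) A) (I.map (algebraMap A (MvPolynomial (↥s) A)))

noncomputable instance (s : Finset B) : CommRing (PP A I B s) :=
  inferInstanceAs (CommRing (Hp _ _))

noncomputable instance (s : Finset B) : Algebra (MvPolynomial (↥s) A) (PP A I B s) :=
  inferInstanceAs (Algebra _ (Hp _ _))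

noncomputable instance algPP (s : Finset B) : Algebra A (PP A I B s) :=
  ((algebraMap (MvPolynomial (↥s) A) (PP A I B s)).comp
    (algebraMap A (MvPolynomial (↥s) A))).toAlgebra

instance (s : Finset B) : IsScalarTower A (MvPolynomial (↥s) A) (PP A I B s) :=
  IsScalarTower.of_algebraMap_eq (fun _ => rfl)

theorem hPP (s : Finset B) : Hens2.IsPairHenselization (MvPolynomial (↥s) A)
    (I.map (algebraMap A (MvPolynomial (↥s) A))) (PP A I B s) :=
  isPairHenselization _ _

instance henselianPP (s : Finset B) :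
    HenselianRing (PP A I B s) (I.map (algebraMap A (PP A I B s))) := by
  have := (hPP A I B s).1
  rwa [map_tower_eq] at this

variable [HenselianRing B (I.map (algebraMap A B))]

/-- the evaluation maps -/
noncomputable def evQ (s : Finset B) : MvPolynomial (↥s) A →ₐ[A] B :=
  MvPolynomial.aeval (fun i : ↥s => (i : B))

theorem evQ_X (s : Finset B) (i : ↥s) : evQ A B s (MvPolynomial.X i) = (i : B) :=
  MvPolynomial.aeval_X _ i

theorem exists_phi (s : Finset B) : ∃ φ : PP A I B s →ₐ[A] B,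
    φ.comp (IsScalarTower.toAlgHom A (MvPolynomial (↥s) A) (PP A I B s)) = evQ A B s :=
  exists_algHom_extension (hPP A I B s) (evQ A B s)

/-- the canonical maps `A[X_s]^h → B`. -/
noncomputable def phi (s : Finset B) : PP A I B s →ₐ[A] B := (exists_phi A I B s).choose

theorem phi_comp (s : Finset B) :
    (phi A I B s).comp (IsScalarTower.toAlgHom A (MvPolynomial (↥s) A) (PP A I B s)) =
      evQ A B s := (exists_phi A I B s).choose_spec

set_option maxHeartbeats 400000 in
theorem phi_mono (s s' : Finset B) (hss' : s ≤ s') :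
    (phi A I B s).range ≤ (phi A I B s').range := by
  obtain ⟨r, hr⟩ : ∃ r : MvPolynomial (↥s) A →ₐ[A] MvPolynomial (↥s') A,
      ∀ i : ↥s, r (MvPolynomial.X i) = MvPolynomial.X (⟨i.1, hss' i.2⟩ : ↥s') :=
    ⟨MvPolynomial.rename (fun i : ↥s => (⟨i.1, hss' i.2⟩ : ↥s')),
      fun i => MvPolynomial.rename_X _ i⟩
  have hevr : (evQ A B s').comp r = evQ A B s := by
    apply MvPolynomial.algHom_ext
    intro i
    rw [AlgHom.comp_apply, hr, evQ_X, evQ_X]
  obtain ⟨ψ, hψ⟩ := exists_algHom_extension (hPP A I B s)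
    ((IsScalarTower.toAlgHom A (MvPolynomial (↥s') A) (PP A I B s')).comp r)
  have hcomp : (phi A I B s').comp ψ = phi A I B s := by
    apply algHom_ext_of_comp_eq (hPP A I B s)
    rw [AlgHom.comp_assoc, hψ, ← AlgHom.comp_assoc, phi_comp, hevr, phi_comp]
  rintro _ ⟨z, rfl⟩
  exact ⟨ψ z, congrArg (fun w => w z) hcomp⟩

set_option maxHeartbeats 400000 in
theorem phi_cov (y : B) : ∃ s : Finset B, y ∈ (phi A I B s).range := by
  refine ⟨{y}, algebraMap (MvPolynomial (↥({y} : Finset B)) A) (PP A I B {y})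
    (MvPolynomial.X (⟨y, Finset.mem_singleton_self y⟩ : ↥({y} : Finset B))), ?_⟩
  have h1 := congrArg (fun w => w (MvPolynomial.X
    (⟨y, Finset.mem_singleton_self y⟩ : ↥({y} : Finset B)))) (phi_comp A I B {y})
  simp only [AlgHom.comp_apply] at h1
  rw [evQ_X] at h1
  exact h1

set_option maxHeartbeats 400000 in
/-- S17618. -/
theorem main17618 (hfac : FacProp A I B) :
    ∃ (R : Type u) (_ : CommRing R) (_ : Algebra A R) (_ : Algebra R B) (_ : IsScalarTower A R B),
      Algebra.FinitePresentation A R ∧ Hens2.IsPairHenselization R (I.map (algebraMap A R)) B := by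
  classical
  obtain ⟨s, hs⟩ := exists_surjective_of_ranges hfac (fun s : Finset B => PP A I B s)
    (phi A I B) (phi_mono A I B) (phi_cov A I B)
  obtain ⟨J₀, hJ₀, hfg, σ, hσ⟩ := exists_fg_section hfac (PP A I B s) (phi A I B s) hs
  have hker := fg_ker_of_section (A := A) (I := I) (MvPolynomial (↥s) A) (PP A I B s)
    (hPP A I B s)
    (fun i : ↥s => (MvPolynomial.X i : MvPolynomial (↥s) A)) (MvPolynomial.adjoin_range_X)
    (phi A I B s) J₀ hJ₀ hfg σ hσ
  exact exists_hfp_of_surjective A I B (MvPolynomial (↥s) A) (PP A I B s) (hPP A I B s)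
    (phi A I B s) hs hker

end Main

end Groth.Agent.H8.PairHens
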