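import Mathlib
import Groth.Prelude.Def_Hens2
import Groth.Agent.Lib.Helper5.Pop.PairApprox
import Groth.Agent.Lib.Helper8.PairHens.FinsetDescent
import Groth.Agent.Lib.Helper8.PairHens.Colimit
import Groth.Agent.Lib.Helper8.PairHens.Quotient
import Groth.Agent.Lib.Helper8.PairHens.NoethPair

/-!
# Quotients of henselizations of pairs are algebraizable (helper8)

For a Noetherian ring `A`, an ideal `I`, a finite type `A`-algebra `C`, a henselization `Cʰ` of
`(C, IC)` and an ideal `J` of `Cʰ`, the completion of `Cʰ/J` is the completion of a finite type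
`A`-algebra.
-/

universe u

namespace Groth.Agent.H8.PairHens.CplQuot

open Groth.Agent.H8.PairHens

/-- The completion of a henselization of a pair, as an algebra over a base ring. -/
theorem nonempty_algEquiv_cpl (A : Type u) [CommRing A] (I : Ideal A) (B : Type u) [CommRing B]
    [Algebra A B] (D : Type u) [CommRing D] [Algebra A D] [Algebra B D] [IsScalarTower A B D]
    (hD : Hens2.IsPairHenselization B (I.map (algebraMap A B)) D) :
    Nonempty (AdicCompletion (I.map (algebraMap A B)) B ≃ₐ[A]
      AdicCompletion (I.map (algebraMap A D)) D) := by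
  have hK : (I.map (algebraMap A B)).map (algebraMap B D) = I.map (algebraMap A D) := by
    rw [Ideal.map_map, ← IsScalarTower.algebraMap_eq]
  suffices h : ∀ K : Ideal D, K = (I.map (algebraMap A B)).map (algebraMap B D) →
      Nonempty (AdicCompletion (I.map (algebraMap A B)) B ≃ₐ[A] AdicCompletion K D) from
    h _ hK.symm
  intro K hK'
  subst hK'
  let φ := Groth.Agent.H5.Pop.cplPair (I.map (algebraMap A B)) (Ch := D)
  have hbij : Function.Bijective φ := Groth.Agent.H5.Pop.cplPair_bijective hD
  let e := RingEquiv.ofBijective φ hbij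
  refine ⟨{ e with commutes' := fun a => ?_ }⟩
  show φ (algebraMap A (AdicCompletion _ B) a) = algebraMap A (AdicCompletion _ D) a
  rw [IsScalarTower.algebraMap_apply A B (AdicCompletion (I.map (algebraMap A B)) B),
    Groth.Agent.H5.Pop.cplPair_of, ← IsScalarTower.algebraMap_apply A B D]
  exact (IsScalarTower.algebraMap_apply A D _ a).symm

theorem main (A : Type u) [CommRing A] [IsNoetherianRing A] (I : Ideal A) (C : Type u)
    [CommRing C] [Algebra A C] [Algebra.FiniteType A C] (Ch : Type u) [CommRing Ch]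
    [Algebra C Ch] [Algebra A Ch] [IsScalarTower A C Ch]
    (hCh : Hens2.IsPairHenselization C (I.map (algebraMap A C)) Ch) (J : Ideal Ch) :
    ∃ (B : Type u) (_ : CommRing B) (_ : Algebra A B), Algebra.FiniteType A B ∧
      Nonempty (AdicCompletion (I.map (algebraMap A B)) B ≃ₐ[A]
        AdicCompletion (I.map (algebraMap A (Ch ⧸ J))) (Ch ⧸ J)) := by
  classical
  haveI : IsNoetherianRing C := Algebra.FiniteType.isNoetherianRing A C
  obtain ⟨hN, -, -⟩ := NoethPair.main C (I.map (algebraMap A C)) Ch hCh
  haveI := hN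
  obtain ⟨S, hS⟩ : J.FG := IsNoetherian.noetherian J
  obtain ⟨E, _, _, _, hiso, φ, hφ⟩ := exists_isoMod_of_finset hCh S
  letI : Algebra E Ch := φ.toRingHom.toAlgebra
  haveI : IsScalarTower C E Ch := IsScalarTower.of_algebraMap_eq (fun c => (φ.commutes c).symm)
  have hE : Hens2.IsPairHenselization E ((I.map (algebraMap A C)).map (algebraMap C E)) Ch :=
    isPairHenselization_of_isoMod hCh E hiso
  letI : Algebra A E := ((algebraMap C E).comp (algebraMap A C)).toAlgebra
  haveI : IsScalarTower A C E := IsScalarTower.of_algebraMap_eq (fun _ => rfl)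
  haveI : IsScalarTower A E Ch := IsScalarTower.of_algebraMap_eq (fun a => by
    rw [IsScalarTower.algebraMap_apply A C Ch, IsScalarTower.algebraMap_apply C E Ch]; rfl)
  have hy : ∀ x : S, ∃ y : E, φ y = x := fun x => hφ x x.2
  choose y hy using hy
  let J' : Ideal E := Ideal.span (Set.range y)
  have hJ' : J'.map (algebraMap E Ch) = J := by
    rw [Ideal.map_span, ← hS]
    congr 1
    ext z
    constructor
    · rintro ⟨_, ⟨x, rfl⟩, rfl⟩
      show φ (y x) ∈ _
      rw [hy]; exact x.2
    · intro hz
      exact ⟨y ⟨z, hz⟩, ⟨⟨z, hz⟩, rfl⟩, hy ⟨z, hz⟩⟩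
  have hle : J' ≤ J.comap (algebraMap E Ch) := by
    rw [← Ideal.map_le_iff_le_comap, hJ']
  letI : Algebra (E ⧸ J') (Ch ⧸ J) := (Ideal.quotientMap J (algebraMap E Ch) hle).toAlgebra
  haveI : IsScalarTower A (E ⧸ J') (Ch ⧸ J) := IsScalarTower.of_algebraMap_eq (fun a => by
    show Ideal.Quotient.mk J (algebraMap A Ch a) =
      Ideal.quotientMap J (algebraMap E Ch) hle (Ideal.Quotient.mk J' (algebraMap A E a))
    rw [Ideal.quotientMap_mk, ← IsScalarTower.algebraMap_apply A E Ch])
  have hQ : Hens2.IsPairHenselization (E ⧸ J')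
      (((I.map (algebraMap A C)).map (algebraMap C E)).map (Ideal.Quotient.mk J')) (Ch ⧸ J) := by
    refine isPairHenselization_of_surjective hE (Ideal.Quotient.mk J')
      Ideal.Quotient.mk_surjective (Ideal.Quotient.mk J) Ideal.Quotient.mk_surjective ?_ ?_
    · refine RingHom.ext fun x => ?_
      show Ideal.Quotient.mk J (algebraMap E Ch x) =
        Ideal.quotientMap J (algebraMap E Ch) hle (Ideal.Quotient.mk J' x)
      rw [Ideal.quotientMap_mk]
    · rw [Ideal.mk_ker, Ideal.mk_ker, hJ']
  have hI : ((I.map (algebraMap A C)).map (algebraMap C E)).map (Ideal.Quotient.mk J') =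
      I.map (algebraMap A (E ⧸ J')) := by
    rw [Ideal.map_map, Ideal.map_map]; rfl
  rw [hI] at hQ
  haveI : Algebra.FiniteType C E := inferInstance
  haveI : Algebra.FiniteType A E :=
    Algebra.FiniteType.trans (inferInstance : Algebra.FiniteType A C) inferInstance
  exact ⟨E ⧸ J', inferInstance, inferInstance, inferInstance,
    nonempty_algEquiv_cpl A I (E ⧸ J') (Ch ⧸ J) hQ⟩

end Groth.Agent.H8.PairHens.CplQuot
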