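import Mathlib
import Groth.Prelude.Def_Hens2
import Groth.Agent.Lib.Helper8.HensPair.DirColim

set_option autoImplicit false
universe u

namespace Groth.Agent.H8.PairHens.DirLim

open Groth.Agent.H8.HensPair

theorem isPairHenselization_directLimit {ι : Type u} [Preorder ι] [IsDirectedOrder ι] [Nonempty ι]
    (G : ι → Type u) [∀ i, CommRing (G i)] (f : ∀ i j : ι, i ≤ j → (G i →+* G j))
    [DirectedSystem G (fun i j h => f i j h)] (I : ∀ i, Ideal (G i))
    (hI : ∀ (i j : ι) (h : i ≤ j), (I i).map (f i j h) ≤ I j)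
    (B : ι → Type u) [∀ i, CommRing (B i)] [∀ i, Algebra (G i) (B i)]
    (hB : ∀ i, Hens2.IsPairHenselization (G i) (I i) (B i))
    (g : ∀ i j : ι, i ≤ j → (B i →+* B j)) [DirectedSystem B (fun i j h => g i j h)]
    (hg : ∀ (i j : ι) (h : i ≤ j), (g i j h).comp (algebraMap (G i) (B i)) = (algebraMap (G j) (B j)).comp (f i j h))
    [Algebra (DirectLimit G f) (DirectLimit B g)]
    (halg : ∀ (i : ι) (x : G i), algebraMap (DirectLimit G f) (DirectLimit B g) (DirectLimit.Ring.of G f i x) =
      DirectLimit.Ring.of B g i (algebraMap (G i) (B i) x)) :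
    Hens2.IsPairHenselization (DirectLimit G f) (⨆ i, (I i).map (DirectLimit.Ring.of G f i))
      (DirectLimit B g) := by
  have halg' : ∀ i, (algebraMap (DirectLimit G f) (DirectLimit B g)).comp (DirectLimit.Ring.of G f i) =
      (DirectLimit.Ring.of B g i).comp (algebraMap (G i) (B i)) := fun i => RingHom.ext (halg i)
  refine ⟨?_, ?_⟩
  · have h1 : (⨆ i, (I i).map (DirectLimit.Ring.of G f i)).map
        (algebraMap (DirectLimit G f) (DirectLimit B g)) =
        ⨆ i, ((I i).map (algebraMap (G i) (B i))).map (DirectLimit.Ring.of B g i) := by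
      rw [Ideal.map_iSup]
      congr 1
      ext1 i
      rw [Ideal.map_map, Ideal.map_map, halg']
    rw [h1]
    refine henselianRing_of_dirColim B g (fun i => DirectLimit.Ring.of B g i) ?_ ?_ ?_
      (fun i => (I i).map (algebraMap (G i) (B i))) ?_ ?_ (fun i => (hB i).1)
    · intro i j h x
      exact DirectLimit.Ring.of_f h x
    · intro z
      obtain ⟨i, x, rfl⟩ := DirectLimit.exists_eq_mk (f := g) z
      exact ⟨i, x, rfl⟩
    · intro i x hx
      have h2 : DirectLimit.Ring.of B g i x = DirectLimit.Ring.of B g i 0 := by rw [hx, map_zero]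
      obtain ⟨k, hik, hik', hk⟩ := Quotient.exact h2
      exact ⟨k, hik, by rw [hk]; exact map_zero _⟩
    · intro i j h
      rw [Ideal.map_map, hg, ← Ideal.map_map]
      exact Ideal.map_mono (hI i j h)
    · intro i j k hij hjk x
      exact DirectedSystem.map_map' (f := g) hij hjk x
  · intro C _ K φ hC hφK
    have hφi : ∀ i, (I i).map (φ.comp (DirectLimit.Ring.of G f i)) ≤ K := by
      intro i
      rw [← Ideal.map_map]
      exact (Ideal.map_mono (le_iSup (fun i => (I i).map (DirectLimit.Ring.of G f i)) i)).trans hφK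
    choose ψ hψ hψuniq using fun i => (hB i).2 C K (φ.comp (DirectLimit.Ring.of G f i)) hC (hφi i)
    have hcompat : ∀ i j (hij : i ≤ j) (x : B i), ψ j (g i j hij x) = ψ i x := by
      intro i j hij x
      have : (ψ j).comp (g i j hij) = ψ i := by
        apply hψuniq
        rw [RingHom.comp_assoc, hg, ← RingHom.comp_assoc, hψ j]
        ext y
        show φ (DirectLimit.Ring.of G f j (f i j hij y)) = φ (DirectLimit.Ring.of G f i y)
        rw [DirectLimit.Ring.of_f]
      exact RingHom.congr_fun this x
    refine ⟨DirectLimit.Ring.lift B g C ψ hcompat, ?_, ?_⟩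
    · apply DirectLimit.Ring.hom_ext
      intro i
      rw [RingHom.comp_assoc, halg', ← RingHom.comp_assoc, DirectLimit.Ring.lift_comp_of, hψ i]
    · intro ψ' hψ'
      apply DirectLimit.Ring.hom_ext
      intro i
      rw [DirectLimit.Ring.lift_comp_of]
      apply hψuniq
      rw [RingHom.comp_assoc, ← halg', ← RingHom.comp_assoc, hψ']

end Groth.Agent.H8.PairHens.DirLim
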