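import Mathlib
import Groth.Agent.Lib.Helper8.PairHens.Maps

open TensorProduct Polynomial

namespace Groth.Agent.H8.PairHens

universe u

section Exactness

variable (A : Type u) [CommRing A] (I : Ideal A) [hA : HenselianRing A I]
    (M' M M'' : Type u) [AddCommGroup M'] [Module A M'] [AddCommGroup M] [Module A M]
    [AddCommGroup M''] [Module A M''] (f : M' →ₗ[A] M) (g : M →ₗ[A] M'')

omit hA in
theorem exact_baseChange_of_exact (hex : Function.Exact f g)
    (p : Ideal A) [p.IsPrime]
    (H : Type u) [CommRing H] [Algebra (Localization.AtPrime p) H] [Algebra A H]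
    [IsScalarTower A (Localization.AtPrime p) H]
    (hH : Hens2.IsPairHenselization (Localization.AtPrime p)
          (I.map (algebraMap A (Localization.AtPrime p))) H) :
    Function.Exact (f.baseChange H) (g.baseChange H) := by
  haveI : Module.Flat (Localization.AtPrime p) H := flat_of_isPairHenselization hH
  haveI : Module.Flat A (Localization.AtPrime p) := IsLocalization.flat _ p.primeCompl
  haveI : Module.Flat A H := Module.Flat.trans A (Localization.AtPrime p) H
  have := Module.Flat.lTensor_exact H hex
  rw [LinearMap.baseChange_eq_ltensor, LinearMap.baseChange_eq_ltensor]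
  exact this

include hA in
theorem exact_of_forall_exact_baseChange (hfg : g.comp f = 0)
    (h : ∀ (p : Ideal A) [p.IsPrime], I ≤ p →
      ∀ (H : Type u) [CommRing H] [Algebra (Localization.AtPrime p) H] [Algebra A H]
        [IsScalarTower A (Localization.AtPrime p) H],
        Hens2.IsPairHenselization (Localization.AtPrime p)
          (I.map (algebraMap A (Localization.AtPrime p))) H →
        Function.Exact (f.baseChange H) (g.baseChange H)) :
    Function.Exact f g := by
  rw [LinearMap.exact_iff]
  apply le_antisymm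
  swap
  · rintro _ ⟨y, rfl⟩
    exact congrArg (fun w => w y) hfg
  intro x hx
  by_contra hnot
  let 𝔞 : Ideal A := Submodule.comap (LinearMap.toSpanSingleton A M x) (LinearMap.range f)
  have h𝔞mem : ∀ a, a ∈ 𝔞 ↔ a • x ∈ LinearMap.range f := fun a => Iff.rfl
  have h𝔞 : 𝔞 ≠ ⊤ := by
    intro htop
    have : (1 : A) ∈ 𝔞 := htop ▸ Submodule.mem_top
    rw [h𝔞mem, one_smul] at this
    exact hnot this
  obtain ⟨m, hm, h𝔞m⟩ := Ideal.exists_le_maximal 𝔞 h𝔞
  haveI : m.IsPrime := hm.isPrime
  have hIm : I ≤ m := le_trans hA.jac (sInf_le ⟨bot_le, hm⟩)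
  let Am := Localization.AtPrime m
  let J : Ideal Am := I.map (algebraMap A Am)
  let Hh := Hp Am J
  letI : Algebra A Hh := ((algebraMap Am Hh).comp (algebraMap A Am)).toAlgebra
  haveI : IsScalarTower A Am Hh := IsScalarTower.of_algebraMap_eq (fun _ => rfl)
  have hex := h m hIm Hh (isPairHenselization Am J)
  haveI : Module.Flat Am Hh := flat_of_isPairHenselization (isPairHenselization Am J)
  haveI : Module.Flat A Am := IsLocalization.flat _ m.primeCompl
  haveI : Module.Flat A Hh := Module.Flat.trans A Am Hh
  -- the residue map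
  have hJle : J ≤ IsLocalRing.maximalIdeal Am := by
    rw [Ideal.map_le_iff_le_comap]
    intro a ha
    rw [Ideal.mem_comap, ← IsLocalization.AtPrime.map_eq_maximalIdeal m Am]
    exact Ideal.mem_map_of_mem _ (hIm ha)
  let π : Hh →+* Am ⧸ IsLocalRing.maximalIdeal Am :=
    (Ideal.Quotient.factor hJle).comp (PairHens.H.pt Am (Am ⧸ J))
  have hπ : ∀ a ∈ m, π (algebraMap A Hh a) = 0 := by
    intro a ha
    have e1 : algebraMap A Hh a = algebraMap Am Hh (algebraMap A Am a) := rfl
    show (Ideal.Quotient.factor hJle) (PairHens.H.pt Am (Am ⧸ J) (algebraMap A Hh a)) = 0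
    rw [e1, Hp.pt_algebraMap, Ideal.Quotient.factor_mk, Ideal.Quotient.eq_zero_iff_mem,
      ← IsLocalization.AtPrime.map_eq_maximalIdeal m Am]
    exact Ideal.mem_map_of_mem _ ha
  -- exactness after base change
  have h0 : (g.baseChange Hh) ((1 : Hh) ⊗ₜ[A] x) = 0 := by
    rw [LinearMap.baseChange_tmul, LinearMap.mem_ker.mp hx, tmul_zero]
  obtain ⟨z, hz⟩ := (hex _).mp h0
  obtain ⟨S, hS⟩ := TensorProduct.exists_finset z
  -- move to `M ⊗ Hh`
  have h1 : x ⊗ₜ[A] (1 : Hh) = ∑ i ∈ S, f i.2 ⊗ₜ[A] i.1 := by
    have := congrArg (TensorProduct.comm A Hh M) hz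
    rw [TensorProduct.comm_tmul, hS, map_sum, map_sum] at this
    rw [← this]
    apply Finset.sum_congr rfl
    intro i _
    rw [LinearMap.baseChange_tmul, TensorProduct.comm_tmul]
  let mm : Option S → M := fun o => Option.elim o x (fun i => f i.1.2)
  let nn : Option S → Hh := fun o => Option.elim o (-1) (fun i => i.1.1)
  have h2 : ∑ o, mm o ⊗ₜ[A] nn o = (0 : M ⊗[A] Hh) := by
    rw [Fintype.sum_option]
    simp only [mm, nn, Option.elim_none, Option.elim_some]
    rw [tmul_neg, h1, Finset.sum_coe_sort S (fun i => f i.2 ⊗ₜ[A] i.1)]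
    exact neg_add_cancel _
  have hinj : Function.Injective
      (LinearMap.rTensor Hh (Submodule.span A (Set.range mm)).subtype) :=
    Module.Flat.rTensor_preserves_injective_linearMap _ (Submodule.injective_subtype _)
  obtain ⟨k, a, y, hn, hmv⟩ :=
    TensorProduct.vanishesTrivially_of_sum_tmul_eq_zero_of_rTensor_injective A hinj h2
  have ha : ∀ j, a none j ∈ m := by
    intro j
    apply h𝔞m
    rw [h𝔞mem]
    have := hmv j
    rw [Fintype.sum_option] at this
    simp only [mm, Option.elim_none, Option.elim_some] at this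
    refine ⟨-∑ i : S, a (some i) j • i.1.2, ?_⟩
    rw [map_neg, map_sum]
    simp only [map_smul]
    rw [eq_comm, ← add_eq_zero_iff_eq_neg]
    exact this
  have h3 := hn none
  simp only [nn, Option.elim_none] at h3
  have h4 := congrArg π h3
  rw [map_neg, map_one, map_sum] at h4
  have h5 : ∀ j, π (a none j • y j) = 0 := by
    intro j
    rw [Algebra.smul_def, map_mul, hπ _ (ha j), zero_mul]
  rw [Finset.sum_eq_zero (fun j _ => h5 j), neg_eq_zero] at h4
  exact one_ne_zero h4

end Exactness

end Groth.Agent.H8.PairHens
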