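import Mathlib
import Groth.Agent.Lib.Helper8.PairHens.Factor

/-!
# Descent along the henselization for tensor products

For a henselization `H` of the pair `(A, I)` and an `A`-algebra `B`, the ring `H ⊗[A] B` is the
filtered colimit of the rings `A' ⊗[A] B` over the étale neighbourhoods `A'` of `V(I)`.
-/

open TensorProduct Polynomial

namespace Groth.Agent.H8.PairHens

universe u v

section TensorDescent

variable {A : Type u} [CommRing A] {I : Ideal A} {H : Type u} [CommRing H] [Algebra A H]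
  (B : Type v) [CommRing B] [Algebra A B]

/-- Every element of `H ⊗ B` comes from `A' ⊗ B` for some étale neighbourhood `A'`. -/
theorem exists_isoMod_tensor_lift (hH : Hens2.IsPairHenselization A I H) (w : H ⊗[A] B) :
    ∃ (A' : Type u) (_ : CommRing A') (_ : Algebra A A') (_ : Algebra.Etale A A'),
      IsoMod I A' ∧ ∃ (ι : A' →ₐ[A] H) (z : A' ⊗[A] B),
        Algebra.TensorProduct.map ι (AlgHom.id A B) z = w := by
  induction w using TensorProduct.induction_on with
  | zero =>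
    exact ⟨A, inferInstance, inferInstance, inferInstance, isoMod_self, Algebra.ofId A H, 0,
      map_zero _⟩
  | tmul x b =>
    obtain ⟨A', _, _, _, h, φ, s, hs⟩ := exists_isoMod_of_mem hH x
    refine ⟨A', inferInstance, inferInstance, inferInstance, h, φ, s ⊗ₜ b, ?_⟩
    rw [Algebra.TensorProduct.map_tmul, hs]
    rfl
  | add w₁ w₂ ih₁ ih₂ =>
    obtain ⟨E₁, _, _, _, h₁, ι₁, z₁, hz₁⟩ := ih₁
    obtain ⟨E₂, _, _, _, h₂, ι₂, z₂, hz₂⟩ := ih₂
    obtain ⟨E₃, _, _, _, h₃, ⟨α₁⟩, ⟨α₂⟩⟩ := isoMod_directed E₁ E₂ h₁ h₂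
    obtain ⟨ι₃⟩ := exists_algHom_of_isoMod hH E₃ h₃
    have e1 : ι₃.comp α₁ = ι₁ := algHom_ext_of_isoMod hH E₁ h₁ _ _
    have e2 : ι₃.comp α₂ = ι₂ := algHom_ext_of_isoMod hH E₂ h₂ _ _
    refine ⟨E₃, inferInstance, inferInstance, inferInstance, h₃, ι₃,
      Algebra.TensorProduct.map α₁ (AlgHom.id A B) z₁ +
        Algebra.TensorProduct.map α₂ (AlgHom.id A B) z₂, ?_⟩
    rw [map_add, ← hz₁, ← hz₂, ← e1, ← e2]
    congr 1
    · rw [← AlgHom.comp_apply, ← Algebra.TensorProduct.map_comp, AlgHom.comp_id]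
    · rw [← AlgHom.comp_apply, ← Algebra.TensorProduct.map_comp, AlgHom.comp_id]

/-- An element of `A' ⊗ B` dying in `H ⊗ B` dies in `A'' ⊗ B` for a further neighbourhood. -/
theorem exists_isoMod_tensor_kill (hH : Hens2.IsPairHenselization A I H)
    (A' : Type u) [CommRing A'] [Algebra A A'] [Algebra.Etale A A'] (h : IsoMod I A')
    (ι : A' →ₐ[A] H) (z : A' ⊗[A] B)
    (hz : Algebra.TensorProduct.map ι (AlgHom.id A B) z = 0) :
    ∃ (A'' : Type u) (_ : CommRing A'') (_ : Algebra A A'') (_ : Algebra.Etale A A''),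
      IsoMod I A'' ∧ ∃ ψ : A' →ₐ[A] A'', Algebra.TensorProduct.map ψ (AlgHom.id A B) z = 0 := by
  classical
  letI : Algebra A' H := ι.toRingHom.toAlgebra
  haveI : IsScalarTower A A' H := IsScalarTower.of_algebraMap_eq (fun a => (ι.commutes a).symm)
  have hH' := isPairHenselization_of_isoMod hH A' h
  haveI : Module.Flat A' H := flat_of_isPairHenselization hH'
  -- `1 ⊗ z = 0` in `H ⊗[A'] (A' ⊗[A] B)`
  have key : ∀ z : A' ⊗[A] B,
      TensorProduct.AlgebraTensorModule.cancelBaseChange A A' A' H B ((1 : H) ⊗ₜ[A'] z) =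
        Algebra.TensorProduct.map ι (AlgHom.id A B) z := by
    intro z
    induction z using TensorProduct.induction_on with
    | zero => simp
    | tmul a b =>
      rw [TensorProduct.AlgebraTensorModule.cancelBaseChange_tmul, Algebra.TensorProduct.map_tmul,
        Algebra.smul_def, mul_one]
      rfl
    | add x y hx hy => rw [TensorProduct.tmul_add, map_add, map_add, hx, hy]
  have h0 : (1 : H) ⊗ₜ[A'] z = 0 := by
    apply (TensorProduct.AlgebraTensorModule.cancelBaseChange A A' A' H B).injective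
    rw [key, hz, map_zero]
  have h1 : ∑ i : Fin 1, (fun _ => z) i ⊗ₜ[A'] (fun _ => (1 : H)) i = 0 := by
    simp only [Finset.univ_unique, Finset.sum_singleton]
    have := congrArg (TensorProduct.comm A' H (A' ⊗[A] B)) h0
    rwa [TensorProduct.comm_tmul, map_zero] at this
  obtain ⟨k, a, y, hy, ha⟩ :=
    TensorProduct.vanishesTrivially_of_sum_tmul_eq_zero_of_rTensor_injective
      (R := A') (m := fun _ : Fin 1 => z) (n := fun _ : Fin 1 => (1 : H))
      (Module.Flat.rTensor_preserves_injective_linearMap _ (Submodule.injective_subtype _)) h1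
  -- lift the `y j`
  obtain ⟨E₁, _, _, _, h₁, φ₁, hφ₁⟩ := exists_isoMod_of_finset hH (Finset.univ.image y)
  choose y' hy' using fun j => hφ₁ (y j) (Finset.mem_image_of_mem y (Finset.mem_univ j))
  obtain ⟨E₂, _, _, _, h₂, ⟨α⟩, ⟨α₁⟩⟩ := isoMod_directed A' E₁ h h₁
  obtain ⟨φ₂⟩ := exists_algHom_of_isoMod hH E₂ h₂
  have e1 : φ₂.comp α = ι := algHom_ext_of_isoMod hH A' h _ _
  have e2 : φ₂.comp α₁ = φ₁ := algHom_ext_of_isoMod hH E₁ h₁ _ _
  -- kill `1 - ∑ a_j y'_j`
  have hk : φ₂ (1 - ∑ j, α (a 0 j) * α₁ (y' j)) = 0 := by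
    rw [map_sub, map_one, map_sum, sub_eq_zero]
    have := hy 0
    simp only at this
    rw [this]
    apply Finset.sum_congr rfl
    intro j _
    rw [map_mul, ← AlgHom.comp_apply, ← AlgHom.comp_apply, e1, e2, hy', Algebra.smul_def]
    rfl
  obtain ⟨E₃, _, _, _, h₃, ψ, hψ⟩ := exists_isoMod_kill hH E₂ h₂ φ₂ _ hk
  refine ⟨E₃, inferInstance, inferInstance, inferInstance, h₃, ψ.comp α, ?_⟩
  set T := Algebra.TensorProduct.map (ψ.comp α) (AlgHom.id A B) with hT
  have h2 : ∀ j, T ((a 0 j ⊗ₜ[A] (1 : B)) * z) = 0 := by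
    intro j
    have := ha j
    simp only [Finset.univ_unique, Finset.sum_singleton] at this
    have e3 : (a 0 j ⊗ₜ[A] (1 : B)) * z = a 0 j • z := by
      rw [Algebra.smul_def]
      rfl
    have e4 : (0 : Fin 1) = default := rfl
    rw [e3, e4, this, map_zero]
  have h3 : (1 : E₃) = ∑ j, ψ (α (a 0 j)) * ψ (α₁ (y' j)) := by
    rw [map_sub, map_one, map_sum, sub_eq_zero] at hψ
    rw [hψ]
    apply Finset.sum_congr rfl
    intro j _
    rw [map_mul]
  have h4 : T z = ∑ j, (ψ (α₁ (y' j)) ⊗ₜ[A] (1 : B)) * T ((a 0 j ⊗ₜ[A] (1 : B)) * z) := by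
    have : ∀ j, T ((a 0 j ⊗ₜ[A] (1 : B)) * z) = (ψ (α (a 0 j)) ⊗ₜ[A] (1 : B)) * T z := by
      intro j
      rw [map_mul, hT, Algebra.TensorProduct.map_tmul]
      rfl
    simp only [this]
    simp only [← mul_assoc, Algebra.TensorProduct.tmul_mul_tmul, mul_one]
    rw [← Finset.sum_mul, ← TensorProduct.sum_tmul]
    have : ∑ j, ψ (α₁ (y' j)) * ψ (α (a 0 j)) = 1 := by
      rw [h3]
      apply Finset.sum_congr rfl
      intro j _
      ring
    rw [this]
    exact (one_mul _).symm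
  rw [h4]
  apply Finset.sum_eq_zero
  intro j _
  rw [h2, mul_zero]

/-- Finset version of `exists_isoMod_tensor_kill`. -/
theorem exists_isoMod_tensor_kill_finset (hH : Hens2.IsPairHenselization A I H)
    (A' : Type u) [CommRing A'] [Algebra A A'] [Algebra.Etale A A'] (h : IsoMod I A')
    (ι : A' →ₐ[A] H) (s : Finset (A' ⊗[A] B))
    (hs : ∀ z ∈ s, Algebra.TensorProduct.map ι (AlgHom.id A B) z = 0) :
    ∃ (A'' : Type u) (_ : CommRing A'') (_ : Algebra A A'') (_ : Algebra.Etale A A''),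
      IsoMod I A'' ∧ ∃ ψ : A' →ₐ[A] A'',
        ∀ z ∈ s, Algebra.TensorProduct.map ψ (AlgHom.id A B) z = 0 := by
  classical
  induction s using Finset.induction with
  | empty =>
    exact ⟨A', inferInstance, inferInstance, inferInstance, h, AlgHom.id A A', by simp⟩
  | insert a s _ ih =>
    obtain ⟨E₁, _, _, _, h₁, ψ₁, hψ₁⟩ := ih (fun x hx => hs x (Finset.mem_insert_of_mem hx))
    obtain ⟨φ₁⟩ := exists_algHom_of_isoMod hH E₁ h₁
    have e1 : φ₁.comp ψ₁ = ι := algHom_ext_of_isoMod hH A' h _ _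
    have h0 : Algebra.TensorProduct.map φ₁ (AlgHom.id A B)
        (Algebra.TensorProduct.map ψ₁ (AlgHom.id A B) a) = 0 := by
      rw [← AlgHom.comp_apply, ← Algebra.TensorProduct.map_comp, AlgHom.comp_id, e1]
      exact hs a (Finset.mem_insert_self a s)
    obtain ⟨E₂, _, _, _, h₂, ψ₂, hψ₂⟩ := exists_isoMod_tensor_kill B hH E₁ h₁ φ₁ _ h0
    refine ⟨E₂, inferInstance, inferInstance, inferInstance, h₂, ψ₂.comp ψ₁, ?_⟩
    intro x hx
    have e2 : ∀ x, Algebra.TensorProduct.map (ψ₂.comp ψ₁) (AlgHom.id A B) x =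
        Algebra.TensorProduct.map ψ₂ (AlgHom.id A B)
          (Algebra.TensorProduct.map ψ₁ (AlgHom.id A B) x) := by
      intro x
      rw [← AlgHom.comp_apply, ← Algebra.TensorProduct.map_comp, AlgHom.comp_id]
    rw [Finset.mem_insert] at hx
    rcases hx with rfl | hx
    · rw [e2]; exact hψ₂
    · rw [e2, hψ₁ x hx, map_zero]

theorem tmap_comp {E₁ E₂ E₃ : Type*} [CommRing E₁] [CommRing E₂] [CommRing E₃]
    [Algebra A E₁] [Algebra A E₂] [Algebra A E₃] (f : E₁ →ₐ[A] E₂) (g : E₂ →ₐ[A] E₃)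
    (z : E₁ ⊗[A] B) :
    Algebra.TensorProduct.map g (AlgHom.id A B) (Algebra.TensorProduct.map f (AlgHom.id A B) z) =
      Algebra.TensorProduct.map (g.comp f) (AlgHom.id A B) z := by
  rw [← AlgHom.comp_apply, ← Algebra.TensorProduct.map_comp, AlgHom.comp_id]

theorem tmap_aeval {E₁ E₂ : Type*} [CommRing E₁] [CommRing E₂]
    [Algebra A E₁] [Algebra A E₂] (f : E₁ →ₐ[A] E₂) (x : E₁ ⊗[A] B) (q : E₁[X]) :
    Algebra.TensorProduct.map f (AlgHom.id A B) (Polynomial.aeval x q) =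
      Polynomial.aeval (Algebra.TensorProduct.map f (AlgHom.id A B) x)
        (q.map (f : E₁ →+* E₂)) := by
  rw [Polynomial.aeval_def, Polynomial.aeval_def, Polynomial.eval₂_map]
  have := Polynomial.hom_eval₂ q (algebraMap E₁ (E₁ ⊗[A] B))
    ((Algebra.TensorProduct.map f (AlgHom.id A B) : E₁ ⊗[A] B →ₐ[A] E₂ ⊗[A] B) :
      E₁ ⊗[A] B →+* E₂ ⊗[A] B) x
  rw [RingHom.coe_coe] at this
  rw [this]
  congr 1

theorem map_includeRight_map (E : Type*) [CommRing E] [Algebra A E] :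
    (I.map (algebraMap A B)).map
      ((Algebra.TensorProduct.includeRight : B →ₐ[A] E ⊗[A] B) : B →+* E ⊗[A] B) =
      I.map (algebraMap A (E ⊗[A] B)) := by
  rw [Ideal.map_map]
  congr 1
  ext a
  simp [Algebra.TensorProduct.algebraMap_apply]

theorem map_includeLeft_map (E : Type*) [CommRing E] [Algebra A E] :
    (I.map (algebraMap A E)).map
      ((Algebra.TensorProduct.includeLeft : E →ₐ[A] E ⊗[A] B) : E →+* E ⊗[A] B) =
      I.map (algebraMap A (E ⊗[A] B)) := by
  rw [Ideal.map_map]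
  congr 1

/-- Modulo `I`, every element of `E ⊗ B` is of the form `1 ⊗ b`. -/
theorem exists_sub_one_tmul_mem {E : Type*} [CommRing E] [Algebra A E] (h : IsoMod I E)
    (z : E ⊗[A] B) : ∃ b : B, z - 1 ⊗ₜ[A] b ∈ I.map (algebraMap A (E ⊗[A] B)) := by
  induction z using TensorProduct.induction_on with
  | zero => exact ⟨0, by simp⟩
  | tmul x b =>
    obtain ⟨ab, hab⟩ := h.2 (Ideal.Quotient.mk _ x)
    obtain ⟨a, rfl⟩ := Ideal.Quotient.mk_surjective ab
    rw [Ideal.quotientMap_mk, Ideal.Quotient.eq] at hab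
    refine ⟨a • b, ?_⟩
    have e1 : x ⊗ₜ[A] b - (1 : E) ⊗ₜ[A] (a • b) =
        -((Algebra.TensorProduct.includeLeft : E →ₐ[A] E ⊗[A] B) (algebraMap A E a - x) *
          ((1 : E) ⊗ₜ[A] b)) := by
      rw [Algebra.TensorProduct.includeLeft_apply, Algebra.TensorProduct.tmul_mul_tmul, mul_one,
        one_mul, TensorProduct.sub_tmul, TensorProduct.tmul_smul, TensorProduct.smul_tmul',
        Algebra.smul_def, mul_one]
      ring
    rw [e1]
    apply neg_mem
    apply Ideal.mul_mem_right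
    rw [← map_includeLeft_map B E]
    exact Ideal.mem_map_of_mem _ hab
  | add x y hx hy =>
    obtain ⟨b₁, h₁⟩ := hx
    obtain ⟨b₂, h₂⟩ := hy
    refine ⟨b₁ + b₂, ?_⟩
    have : x + y - (1 : E) ⊗ₜ[A] (b₁ + b₂) = (x - 1 ⊗ₜ[A] b₁) + (y - 1 ⊗ₜ[A] b₂) := by
      rw [TensorProduct.tmul_add]; ring
    rw [this]
    exact add_mem h₁ h₂

variable (I) in
/-- The augmentation `E ⊗ B → B/IB` attached to a section `E → A/I`. -/
noncomputable def rho {E : Type*} [CommRing E] [Algebra A E] (σ : E →ₐ[A] A ⧸ I) :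
    E ⊗[A] B →ₐ[A] B ⧸ I.map (algebraMap A B) :=
  Algebra.TensorProduct.productMap
    ((Ideal.quotientMapₐ (I.map (algebraMap A B)) (Algebra.ofId A B) Ideal.le_comap_map).comp σ)
    (Ideal.Quotient.mkₐ A _)

theorem rho_tmul {E : Type*} [CommRing E] [Algebra A E] (σ : E →ₐ[A] A ⧸ I) (x : E) (b : B) :
    rho I B σ (x ⊗ₜ[A] b) =
      Ideal.quotientMapₐ (I.map (algebraMap A B)) (Algebra.ofId A B) Ideal.le_comap_map (σ x) *
        Ideal.Quotient.mk _ b := by
  simp [rho]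

theorem rho_one_tmul {E : Type*} [CommRing E] [Algebra A E] (σ : E →ₐ[A] A ⧸ I) (b : B) :
    rho I B σ (1 ⊗ₜ[A] b) = Ideal.Quotient.mk _ b := by
  rw [rho_tmul, map_one, map_one, one_mul]

theorem rho_eq_zero_of_mem {E : Type*} [CommRing E] [Algebra A E] (σ : E →ₐ[A] A ⧸ I)
    (z : E ⊗[A] B) (hz : z ∈ I.map (algebraMap A (E ⊗[A] B))) : rho I B σ z = 0 := by
  have h1 : I.map (algebraMap A (E ⊗[A] B)) ≤ RingHom.ker (rho I B σ).toRingHom := by
    rw [Ideal.map_le_iff_le_comap]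
    intro a ha
    rw [Ideal.mem_comap, RingHom.mem_ker]
    change rho I B σ (algebraMap A _ a) = 0
    rw [AlgHom.commutes, IsScalarTower.algebraMap_apply A B (B ⧸ I.map (algebraMap A B))]
    exact Ideal.Quotient.eq_zero_iff_mem.mpr (Ideal.mem_map_of_mem _ ha)
  exact h1 hz

theorem mem_of_rho_eq_zero {E : Type*} [CommRing E] [Algebra A E] (h : IsoMod I E)
    (σ : E →ₐ[A] A ⧸ I) (z : E ⊗[A] B) (hz : rho I B σ z = 0) :
    z ∈ I.map (algebraMap A (E ⊗[A] B)) := by
  obtain ⟨b, hb⟩ := exists_sub_one_tmul_mem B h z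
  have h1 := rho_eq_zero_of_mem B σ _ hb
  rw [map_sub, hz, zero_sub, neg_eq_zero, rho_one_tmul, Ideal.Quotient.eq_zero_iff_mem] at h1
  have h2 : (1 : E) ⊗ₜ[A] b ∈ I.map (algebraMap A (E ⊗[A] B)) := by
    rw [← map_includeRight_map B E]
    exact Ideal.mem_map_of_mem _ h1
  have : z = (z - 1 ⊗ₜ[A] b) + 1 ⊗ₜ[A] b := by ring
  rw [this]
  exact add_mem hb h2

theorem rho_tmap {E₁ E₂ : Type*} [CommRing E₁] [CommRing E₂]
    [Algebra A E₁] [Algebra A E₂] (f : E₁ →ₐ[A] E₂) (σ : E₂ →ₐ[A] A ⧸ I) (z : E₁ ⊗[A] B) :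
    rho I B σ (Algebra.TensorProduct.map f (AlgHom.id A B) z) = rho I B (σ.comp f) z := by
  induction z using TensorProduct.induction_on with
  | zero => simp
  | tmul x b => rw [Algebra.TensorProduct.map_tmul, rho_tmul, rho_tmul]; rfl
  | add x y hx hy => rw [map_add, map_add, map_add, hx, hy]

/-- If `B` is generated by `s` and the classes of `1 ⊗ b`, `b ∈ s`, are integral over `E` in a
quotient of `E ⊗ B`, that quotient is finite over `E`. -/
theorem finite_quotient_of_isIntegral {E : Type*} [CommRing E] [Algebra A E] (s : Finset B)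
    (hs : Algebra.adjoin A (s : Set B) = ⊤) (J : Ideal (E ⊗[A] B))
    (hint : ∀ b ∈ s, IsIntegral E (Ideal.Quotient.mk J ((1 : E) ⊗ₜ[A] b))) :
    Module.Finite E ((E ⊗[A] B) ⧸ J) := by
  haveI : Algebra.FiniteType A B := ⟨⟨s, hs⟩⟩
  haveI : Algebra.FiniteType E ((E ⊗[A] B) ⧸ J) :=
    Algebra.FiniteType.of_surjective (Ideal.Quotient.mkₐ E J) (Ideal.Quotient.mkₐ_surjective E J)
  let f : B →ₐ[A] (E ⊗[A] B) ⧸ J :=
    ((Ideal.Quotient.mkₐ E J).restrictScalars A).comp Algebra.TensorProduct.includeRight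
  let S : Subalgebra A B := ((integralClosure E ((E ⊗[A] B) ⧸ J)).restrictScalars A).comap f
  have hS : S = ⊤ := by
    rw [eq_top_iff, ← hs]
    apply Algebra.adjoin_le
    intro b hb
    exact hint b hb
  have h1 : ∀ b : B, IsIntegral E (Ideal.Quotient.mk J ((1 : E) ⊗ₜ[A] b)) := by
    intro b
    have : b ∈ S := by rw [hS]; trivial
    exact this
  have h2 : ∀ z : E ⊗[A] B, IsIntegral E (Ideal.Quotient.mk J z) := by
    intro z
    induction z using TensorProduct.induction_on with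
    | zero => rw [map_zero]; exact isIntegral_zero
    | tmul x b =>
      have : Ideal.Quotient.mk J (x ⊗ₜ[A] b) = x • Ideal.Quotient.mk J ((1 : E) ⊗ₜ[A] b) := by
        have e1 : x ⊗ₜ[A] b = x • ((1 : E) ⊗ₜ[A] b) := by
          rw [TensorProduct.smul_tmul', smul_eq_mul, mul_one]
        rw [e1]
        rfl
      rw [this]
      exact (h1 b).smul x
    | add x y hx hy => rw [map_add]; exact hx.add hy
  haveI : Algebra.IsIntegral E ((E ⊗[A] B) ⧸ J) := ⟨fun y => by
    obtain ⟨z, rfl⟩ := Ideal.Quotient.mk_surjective y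
    exact h2 z⟩
  exact Algebra.IsIntegral.finite

end TensorDescent

end Groth.Agent.H8.PairHens
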