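import Mathlib
import Groth.Agent.Lib.Helper8.PairHens.TensorDescent
import Groth.Agent.Lib.Helper8.PairHens.PolyDescent
import Groth.Agent.Lib.Helper8.PairHens.ZMT

open TensorProduct Polynomial

namespace Groth.Agent.H8.PairHens

universe u

section FinitePart

variable (A : Type u) [CommRing A] (I : Ideal A) (B : Type u) [CommRing B] [Algebra A B]

theorem finite_tensor_quotient {H : Type u} [CommRing H] [Algebra A H]
    [Module.Finite A (B ⧸ I.map (algebraMap A B))] :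
    Module.Finite H ((H ⊗[A] B) ⧸
      (I.map (algebraMap A H)).map (algebraMap H (H ⊗[A] B))) := by
  set R := H ⊗[A] B
  set J := (I.map (algebraMap A H)).map (algebraMap H R) with hJ
  have hJ' : J = I.map (algebraMap A R) := by
    rw [hJ, Ideal.map_map, ← IsScalarTower.algebraMap_eq]
  let g : (B ⧸ I.map (algebraMap A B)) →ₐ[A] R ⧸ J :=
    Ideal.quotientMapₐ J (Algebra.TensorProduct.includeRight : B →ₐ[A] R) (by
      rw [← Ideal.map_le_iff_le_comap, hJ']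
      exact (map_includeRight_map B H).le)
  let G : H ⊗[A] (B ⧸ I.map (algebraMap A B)) →ₗ[H] R ⧸ J :=
    LinearMap.liftBaseChange H g.toLinearMap
  refine Module.Finite.of_surjective G ?_
  intro y
  obtain ⟨z, rfl⟩ := Ideal.Quotient.mk_surjective y
  induction z using TensorProduct.induction_on with
  | zero => exact ⟨0, by simp⟩
  | tmul x b =>
    refine ⟨x ⊗ₜ (Ideal.Quotient.mk _ b), ?_⟩
    rw [LinearMap.liftBaseChange_tmul]
    have e1 : x ⊗ₜ[A] b = x • ((1 : H) ⊗ₜ[A] b) := by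
      rw [TensorProduct.smul_tmul', smul_eq_mul, mul_one]
    rw [e1]
    rfl
  | add x y hx hy =>
    obtain ⟨x', hx'⟩ := hx
    obtain ⟨y', hy'⟩ := hy
    exact ⟨x' + y', by rw [map_add, hx', hy', map_add]⟩

/-- The étale-local finite part: after an étale neighbourhood `A'` of `V(I)`, the finite-over-`V(I)`
part of `Spec B` is cut out by an idempotent of `A' ⊗ B` and is finite over `A'`. -/
theorem exists_etale_idempotent_finite [Algebra.FiniteType A B]
    [Module.Finite A (B ⧸ I.map (algebraMap A B))] :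
    ∃ (A' : Type u) (_ : CommRing A') (_ : Algebra A A') (_ : Algebra.Etale A A'),
      IsoMod I A' ∧ ∃ e : A' ⊗[A] B, IsIdempotentElem e ∧
        1 - e ∈ I.map (algebraMap A (A' ⊗[A] B)) ∧
        Module.Finite A' ((A' ⊗[A] B) ⧸ Ideal.span {1 - e}) := by
  classical
  have hH : Hens2.IsPairHenselization A I (Hp A I) := isPairHenselization A I
  haveI := finite_tensor_quotient A I B (H := Hp A I)
  obtain ⟨e₀, he₀, he₀I, he₀fin⟩ :=
    ZMT.exists_idempotent_finite (Hp A I) (I.map (algebraMap A (Hp A I))) (Hp A I ⊗[A] B)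
  have he₀I' : 1 - e₀ ∈ I.map (algebraMap A (Hp A I ⊗[A] B)) := by
    rwa [Ideal.map_map, ← IsScalarTower.algebraMap_eq] at he₀I
  -- integrality of the generators
  obtain ⟨s, hs⟩ := (Algebra.FiniteType.out : (⊤ : Subalgebra A B).FG)
  have hint : ∀ b : B, ∃ p : (Hp A I)[X], p.Monic ∧
      e₀ * Polynomial.aeval ((1 : Hp A I) ⊗ₜ[A] b) p = 0 := by
    intro b
    haveI : Algebra.IsIntegral (Hp A I) ((Hp A I ⊗[A] B) ⧸ Ideal.span {1 - e₀}) :=
      Algebra.IsIntegral.of_finite _ _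
    obtain ⟨p, hp, hp0⟩ := Algebra.IsIntegral.isIntegral (R := Hp A I)
      (Ideal.Quotient.mk (Ideal.span {1 - e₀}) ((1 : Hp A I) ⊗ₜ[A] b))
    refine ⟨p, hp, ?_⟩
    have h1 : Ideal.Quotient.mkₐ (Hp A I) (Ideal.span {1 - e₀})
        (Polynomial.aeval ((1 : Hp A I) ⊗ₜ[A] b) p) = 0 := by
      rw [← Polynomial.aeval_algHom_apply]
      exact hp0
    rw [Ideal.Quotient.mkₐ_eq_mk, Ideal.Quotient.eq_zero_iff_mem, Ideal.mem_span_singleton'] at h1
    obtain ⟨c, hc⟩ := h1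
    rw [← hc]
    have : e₀ * (c * (1 - e₀)) = c * (e₀ - e₀ * e₀) := by ring
    rw [this, he₀.eq, sub_self, mul_zero]
  choose p hp_monic hp0 using hint
  -- lift the polynomials
  obtain ⟨A₂, _, _, _, h₂, φ₂, hφ₂⟩ := exists_isoMod_lifts hH (s.image p)
  have hq : ∀ b ∈ s, ∃ q : A₂[X], q.map (φ₂ : A₂ →+* Hp A I) = p b ∧ q.Monic := by
    intro b hb
    obtain ⟨q, hq1, -, hq2⟩ := Polynomial.lifts_and_natDegree_eq_and_monic
      (hφ₂ (p b) (Finset.mem_image_of_mem p hb)) (hp_monic b)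
    exact ⟨q, hq1, hq2⟩
  choose! q hq_map hq_monic using hq
  -- lift the idempotent
  obtain ⟨A₀, _, _, _, h₀, ι₀, z₀, hz₀⟩ := exists_isoMod_tensor_lift B hH e₀
  -- merge
  obtain ⟨A₃, _, _, _, h₃, ⟨α₀⟩, ⟨α₂⟩⟩ := isoMod_directed A₀ A₂ h₀ h₂
  obtain ⟨ι₃⟩ := exists_algHom_of_isoMod hH A₃ h₃
  have e1 : ι₃.comp α₀ = ι₀ := algHom_ext_of_isoMod hH A₀ h₀ _ _
  have e2 : ι₃.comp α₂ = φ₂ := algHom_ext_of_isoMod hH A₂ h₂ _ _
  set z₃ := Algebra.TensorProduct.map α₀ (AlgHom.id A B) z₀ with hz₃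
  have hz₃' : Algebra.TensorProduct.map ι₃ (AlgHom.id A B) z₃ = e₀ := by
    rw [hz₃, tmap_comp, e1, hz₀]
  let Q : B → A₃[X] := fun b => (q b).map (α₂ : A₂ →+* A₃)
  have hQ_monic : ∀ b ∈ s, (Q b).Monic := fun b hb => (hq_monic b hb).map _
  have hQ_map : ∀ b ∈ s, (Q b).map (ι₃ : A₃ →+* Hp A I) = p b := by
    intro b hb
    rw [Polynomial.map_map, ← hq_map b hb, ← e2]
    rfl
  -- kill
  let S : Finset (A₃ ⊗[A] B) := insert (z₃ * z₃ - z₃)
    (s.image fun b => z₃ * Polynomial.aeval ((1 : A₃) ⊗ₜ[A] b) (Q b))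
  have hS : ∀ z ∈ S, Algebra.TensorProduct.map ι₃ (AlgHom.id A B) z = 0 := by
    intro z hz
    rw [Finset.mem_insert, Finset.mem_image] at hz
    rcases hz with rfl | ⟨b, hb, rfl⟩
    · rw [map_sub, map_mul, hz₃', he₀.eq, sub_self]
    · rw [map_mul, hz₃', tmap_aeval, hQ_map b hb, Algebra.TensorProduct.map_tmul, map_one]
      exact hp0 b
  obtain ⟨A₄, _, _, _, h₄, ψ, hψ⟩ := exists_isoMod_tensor_kill_finset B hH A₃ h₃ ι₃ S hS
  obtain ⟨ι₄⟩ := exists_algHom_of_isoMod hH A₄ h₄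
  have e3 : ι₄.comp ψ = ι₃ := algHom_ext_of_isoMod hH A₃ h₃ _ _
  set e := Algebra.TensorProduct.map ψ (AlgHom.id A B) z₃ with he
  have he_idem : IsIdempotentElem e := by
    have := hψ (z₃ * z₃ - z₃) (Finset.mem_insert_self _ _)
    rw [map_sub, map_mul, sub_eq_zero] at this
    exact this
  have he_map : Algebra.TensorProduct.map ι₄ (AlgHom.id A B) e = e₀ := by
    rw [he, tmap_comp, e3, hz₃']
  refine ⟨A₄, inferInstance, inferInstance, inferInstance, h₄, e, he_idem, ?_, ?_⟩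
  · apply mem_of_rho_eq_zero B h₄ ((H.ptₐ A (A ⧸ I)).comp ι₄)
    rw [← rho_tmap, map_sub, map_one, he_map]
    exact rho_eq_zero_of_mem B _ _ he₀I'
  · refine finite_quotient_of_isIntegral B s hs _ ?_
    intro b hb
    refine ⟨(Q b).map (ψ : A₃ →+* A₄), (hQ_monic b hb).map _, ?_⟩
    have h1 := hψ (z₃ * Polynomial.aeval ((1 : A₃) ⊗ₜ[A] b) (Q b))
      (Finset.mem_insert_of_mem (Finset.mem_image_of_mem _ hb))
    rw [map_mul, tmap_aeval, Algebra.TensorProduct.map_tmul, map_one] at h1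
    change e * _ = 0 at h1
    have h2 : Ideal.Quotient.mkₐ A₄ (Ideal.span {1 - e})
        (Polynomial.aeval ((1 : A₄) ⊗ₜ[A] b) ((Q b).map (ψ : A₃ →+* A₄))) = 0 := by
      rw [Ideal.Quotient.mkₐ_eq_mk, Ideal.Quotient.eq_zero_iff_mem, Ideal.mem_span_singleton']
      refine ⟨Polynomial.aeval ((1 : A₄) ⊗ₜ[A] b) ((Q b).map (ψ : A₃ →+* A₄)), ?_⟩
      have e5 : (AlgHom.id A B) b = b := rfl
      rw [e5] at h1
      linear_combination (-1 : A₄ ⊗[A] B) * h1
    rw [← Polynomial.aeval_algHom_apply] at h2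
    exact h2

end FinitePart

end Groth.Agent.H8.PairHens
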