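import Mathlib
import Groth.Agent.Lib.Helper1.LimFlat4

set_option autoImplicit false
universe u

namespace Groth.Agent.H8.PairHens.FlatAway

open TensorProduct

theorem flat_away_of_forall {A R : Type*} [CommRing A] [CommRing R] [Algebra A R] (s : R)
    (h : ∀ (q : Ideal R) [q.IsPrime], s ∉ q → Module.Flat A (LocalizedModule q.primeCompl R)) :
    Module.Flat A (Localization.Away s) := by
  refine Groth.Agent.H1.FlatLocus.flat_of_forall_exists_smul (R := A) (B := R)
    (Submonoid.powers s) (Algebra.linearMap R (Localization.Away s)) fun I x hx => ?_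
  let 𝔞 : Ideal R := LinearMap.ker (LinearMap.toSpanSingleton R (R ⊗[A] I) x)
  have h𝔞 : ∀ b : R, b ∈ 𝔞 ↔ b • x = 0 := fun b => by
    rw [LinearMap.mem_ker, LinearMap.toSpanSingleton_apply]
  have hs : s ∈ 𝔞.radical := by
    rw [Ideal.radical_eq_sInf, Ideal.mem_sInf]
    rintro q ⟨h𝔞q, hq⟩
    by_contra hsq
    haveI := hq
    haveI := h q hsq
    obtain ⟨t, ht, htx⟩ := Groth.Agent.H1.FlatLocus.exists_smul_eq_zero_of_flat q.primeCompl
      (LocalizedModule.mkLinearMap q.primeCompl R) I x hx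
    exact ht (h𝔞q ((h𝔞 t).mpr htx))
  obtain ⟨k, hk⟩ := hs
  exact ⟨s ^ k, ⟨k, rfl⟩, (h𝔞 _).mp hk⟩

theorem exists_away_flat {A R : Type u} [CommRing A] [CommRing R] [Algebra A R]
    [Algebra.FinitePresentation A R] (J : Ideal R)
    (h : ∀ (p : Ideal R) [p.IsPrime], J ≤ p → Module.Flat A (Localization.AtPrime p)) :
    ∃ s : R, 1 - s ∈ J ∧ Module.Flat A (Localization.Away s) := by
  have hopen := Groth.Agent.H1.LimFlat.isOpen_flatLocus_of_finitePresentation (R := A) (S := R)
    (M := R)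
  obtain ⟨𝔟, h𝔟⟩ := (PrimeSpectrum.isClosed_iff_zeroLocus_ideal _).mp hopen.isClosed_compl
  have htop : J ⊔ 𝔟 = ⊤ := by
    by_contra hne
    obtain ⟨m, hm, hle⟩ := Ideal.exists_le_maximal _ hne
    haveI := hm.isPrime
    haveI := h m (le_sup_left.trans hle)
    have h1 : Module.Flat A (LocalizedModule m.primeCompl R) :=
      Groth.Agent.H1.FlatLocus.flat_of_isLocalizedModule_of_le (R := A) (B := R) (X := R)
        (X' := Localization.AtPrime m) m.primeCompl
        (Algebra.linearMap R (Localization.AtPrime m)) m.primeCompl le_rfl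
        (LocalizedModule.mkLinearMap m.primeCompl R)
    have h2 : (⟨m, hm.isPrime⟩ : PrimeSpectrum R) ∈
        {q : PrimeSpectrum R | Module.Flat A (LocalizedModule q.asIdeal.primeCompl R)}ᶜ := by
      rw [h𝔟, PrimeSpectrum.mem_zeroLocus]
      exact fun x hx => hle (Ideal.mem_sup_right hx)
    exact h2 h1
  have h1 : (1 : R) ∈ J ⊔ 𝔟 := by rw [htop]; trivial
  obtain ⟨j, hj, s, hs, hjs⟩ := Submodule.mem_sup.mp h1
  refine ⟨s, ?_, ?_⟩
  · have : 1 - s = j := by rw [← hjs]; ring
    rw [this]; exact hj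
  · apply flat_away_of_forall
    intro q _ hsq
    by_contra hnp
    have h3 : (⟨q, inferInstance⟩ : PrimeSpectrum R) ∈
        {q : PrimeSpectrum R | Module.Flat A (LocalizedModule q.asIdeal.primeCompl R)}ᶜ := hnp
    rw [h𝔟, PrimeSpectrum.mem_zeroLocus] at h3
    exact hsq (h3 hs)

end Groth.Agent.H8.PairHens.FlatAway
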