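import Mathlib
import Groth.Agent.Lib.Helper8.PairHens.FlatAway
import Groth.Agent.Lib.Helper8.PairHens.SmoothAway
import Groth.Agent.Lib.Helper8.PairHens.Colimit
import Groth.Agent.Lib.Helper8.PairHens.Maps
import Groth.Agent.Lib.Helper8.PairHens.PowQuot

set_option autoImplicit false
universe u

namespace Groth.Agent.H8.PairHens.FlatModel

open TensorProduct Groth.Agent.H8.PairHens

/-- Lemma F: for a flat algebra `B`, if `1 ⊗ x = 0` in `B ⊗ N` then `Ann(x) B = B`. -/
theorem one_mem_smul_top_of_tmul_eq_zero {R₀ B N : Type*} [CommRing R₀] [CommRing B]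
    [Algebra R₀ B] [Module.Flat R₀ B] [AddCommGroup N] [Module R₀ N] (x : N)
    (hx : (1 : B) ⊗ₜ[R₀] x = 0) :
    (1 : B) ∈ (LinearMap.ker (LinearMap.toSpanSingleton R₀ N x) : Ideal R₀) •
      (⊤ : Submodule R₀ B) := by
  set 𝔞 : Ideal R₀ := LinearMap.ker (LinearMap.toSpanSingleton R₀ N x) with h𝔞
  let j : (R₀ ⧸ 𝔞) →ₗ[R₀] N := Submodule.liftQ 𝔞 (LinearMap.toSpanSingleton R₀ N x) le_rfl
  have hj : Function.Injective j := by
    rw [← LinearMap.ker_eq_bot]
    exact Submodule.ker_liftQ_eq_bot _ _ _ le_rfl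
  have hinj := Module.Flat.lTensor_preserves_injective_linearMap (M := B) j hj
  have h1 : (j.lTensor B) ((1 : B) ⊗ₜ[R₀] (Ideal.Quotient.mk 𝔞 1)) = 0 := by
    rw [LinearMap.lTensor_tmul]
    have : j (Ideal.Quotient.mk 𝔞 1) = x := by
      show j (Submodule.Quotient.mk 1) = x
      rw [Submodule.liftQ_apply, LinearMap.toSpanSingleton_apply, one_smul]
    rw [this, hx]
  have h2 : (1 : B) ⊗ₜ[R₀] (Ideal.Quotient.mk 𝔞 1) = 0 := hinj (by rw [h1, map_zero])
  have h3 := congrArg (TensorProduct.tensorQuotEquivQuotSMul B 𝔞) h2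
  rw [TensorProduct.tensorQuotEquivQuotSMul_tmul_mk, map_zero, one_smul,
    Submodule.Quotient.mk_eq_zero] at h3
  exact h3

/-- Lemma F': in the flat case, elements of the kernel of `R₀ ⊗ I → R₀` die in `B ⊗ (R₀ ⊗ I)`. -/
theorem tmul_eq_zero_of_flat {A R₀ B : Type*} [CommRing A] [CommRing R₀] [CommRing B]
    [Algebra A R₀] [Algebra R₀ B] [Algebra A B] [IsScalarTower A R₀ B] [Module.Flat A B]
    (I₀ : Ideal A) (x : R₀ ⊗[A] I₀) (hx : I₀.subtype.lTensor R₀ x = 0) :
    (1 : B) ⊗ₜ[R₀] x = 0 := by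
  let c := AlgebraTensorModule.cancelBaseChange A R₀ R₀ B I₀
  apply c.injective
  rw [map_zero]
  have hinj : Function.Injective (I₀.subtype.lTensor B) :=
    Module.Flat.lTensor_preserves_injective_linearMap _ Subtype.val_injective
  apply hinj
  rw [map_zero]
  -- naturality
  have key : ∀ y : R₀ ⊗[A] I₀, I₀.subtype.lTensor B (c ((1 : B) ⊗ₜ[R₀] y)) =
      ((IsScalarTower.toAlgHom A R₀ B).toLinearMap.rTensor A) (I₀.subtype.lTensor R₀ y) := by
    intro y
    induction y using TensorProduct.induction_on with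
    | zero => simp
    | tmul r a =>
      simp only [c, AlgebraTensorModule.cancelBaseChange_tmul, LinearMap.lTensor_tmul,
        LinearMap.rTensor_tmul, Submodule.subtype_apply, AlgHom.toLinearMap_apply,
        IsScalarTower.coe_toAlgHom', Algebra.smul_def, mul_one]
    | add y z hy hz =>
      rw [tmul_add, map_add, map_add, hy, hz, map_add, map_add]
  rw [key, hx, map_zero]

section Main

variable (A : Type u) [CommRing A] (I : Ideal A)
  (R₀ : Type u) [CommRing R₀] [Algebra A R₀]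
  (B : Type u) [CommRing B] [Algebra R₀ B] [Algebra A B] [IsScalarTower A R₀ B]

omit [Algebra A B] [IsScalarTower A R₀ B] in
theorem exists_sub_mem_of_mem_map (hB : Hens2.IsPairHenselization R₀ (I.map (algebraMap A R₀)) B)
    (𝔞 : Ideal R₀) (y : B) (hy : y ∈ 𝔞.map (algebraMap R₀ B)) :
    ∃ ρ ∈ 𝔞, y - algebraMap R₀ B ρ ∈ (I.map (algebraMap A R₀)).map (algebraMap R₀ B) := by
  refine Submodule.span_induction (p := fun y _ => ∃ ρ ∈ 𝔞, y - algebraMap R₀ B ρ ∈
    (I.map (algebraMap A R₀)).map (algebraMap R₀ B)) ?_ ?_ ?_ ?_ hy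
  · rintro _ ⟨α, hα, rfl⟩
    exact ⟨α, hα, by rw [sub_self]; exact Ideal.zero_mem _⟩
  · exact ⟨0, Ideal.zero_mem _, by rw [map_zero, sub_self]; exact Ideal.zero_mem _⟩
  · rintro y z _ _ ⟨ρ, hρ, h1⟩ ⟨σ, hσ, h2⟩
    refine ⟨ρ + σ, Ideal.add_mem _ hρ hσ, ?_⟩
    have : y + z - algebraMap R₀ B (ρ + σ) = (y - algebraMap R₀ B ρ) + (z - algebraMap R₀ B σ) := by
      rw [map_add]; ring
    rw [this]
    exact Ideal.add_mem _ h1 h2
  · rintro b y _ ⟨ρ, hρ, h1⟩
    obtain ⟨β, hβ⟩ := exists_sub_mem_of_isPairHenselization hB b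
    refine ⟨β * ρ, Ideal.mul_mem_left _ _ hρ, ?_⟩
    have : b • y - algebraMap R₀ B (β * ρ) =
        b * (y - algebraMap R₀ B ρ) + (b - algebraMap R₀ B β) * algebraMap R₀ B ρ := by
      rw [map_mul, smul_eq_mul]; ring
    rw [this]
    exact Ideal.add_mem _ (Ideal.mul_mem_left _ _ h1) (Ideal.mul_mem_right _ _ hβ)

theorem flat_atPrime_of_flat (hB : Hens2.IsPairHenselization R₀ (I.map (algebraMap A R₀)) B)
    [Module.Flat A B] (q : Ideal R₀) [q.IsPrime] (hq : I.map (algebraMap A R₀) ≤ q) :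
    Module.Flat A (Localization.AtPrime q) := by
  haveI : Module.Flat R₀ B := flat_of_isPairHenselization hB
  refine Groth.Agent.H1.FlatLocus.flat_of_forall_exists_smul (R := A) (B := R₀)
    q.primeCompl (Algebra.linearMap R₀ (Localization.AtPrime q)) fun I₀ x hx => ?_
  have h1 := tmul_eq_zero_of_flat (B := B) I₀ x hx
  have h2 := one_mem_smul_top_of_tmul_eq_zero x h1
  set 𝔞 : Ideal R₀ := LinearMap.ker (LinearMap.toSpanSingleton R₀ (R₀ ⊗[A] I₀) x) with h𝔞
  rw [Ideal.smul_top_eq_map] at h2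
  obtain ⟨ρ, hρ, h3⟩ := exists_sub_mem_of_mem_map A I R₀ B hB 𝔞 1 h2
  have h4 : (1 - ρ) ∈ I.map (algebraMap A R₀) := by
    have := mem_pow_of_algebraMap_mem hB 1 (1 - ρ) (by
      rw [pow_one, map_sub, map_one]; exact h3)
    rwa [pow_one] at this
  refine ⟨ρ, ?_, ?_⟩
  · intro hρq
    have : (1 : R₀) ∈ q := by
      have := add_mem (hq h4) hρq
      rwa [sub_add_cancel] at this
    exact (Ideal.IsPrime.ne_top ‹_›) ((Ideal.eq_top_iff_one _).mpr this)
  · have : ρ ∈ 𝔞 := hρ
    rw [h𝔞, LinearMap.mem_ker, LinearMap.toSpanSingleton_apply] at this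
    exact this

theorem exists_flat_model [Algebra.FinitePresentation A R₀]
    (hB : Hens2.IsPairHenselization R₀ (I.map (algebraMap A R₀)) B) [Module.Flat A B] :
    ∃ (S : Type u) (_ : CommRing S) (_ : Algebra A S) (_ : Algebra S B) (_ : IsScalarTower A S B),
      Algebra.FinitePresentation A S ∧ Module.Flat A S ∧
      Hens2.IsPairHenselization S (I.map (algebraMap A S)) B := by
  set J := I.map (algebraMap A R₀) with hJ
  obtain ⟨s, hs, hflat⟩ := Groth.Agent.H8.PairHens.FlatAway.exists_away_flat (A := A) J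
    (fun q _ hq => flat_atPrime_of_flat A I R₀ B hB q hq)
  let S := Localization.Away s
  have hunit : IsUnit (algebraMap R₀ B s) := by
    have h1 : algebraMap R₀ B (1 - s) ∈ J.map (algebraMap R₀ B) := Ideal.mem_map_of_mem _ hs
    have h2 := hB.1.jac h1
    have h3 := (Ideal.mem_jacobson_bot.mp h2) (-1)
    have : algebraMap R₀ B s = algebraMap R₀ B (1 - s) * -1 + 1 := by
      rw [map_sub, map_one]; ring
    rwa [this]
  letI : Algebra S B := (IsLocalization.Away.lift s hunit).toAlgebra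
  haveI : IsScalarTower R₀ S B := IsScalarTower.of_algebraMap_eq (fun r =>
    (IsLocalization.Away.lift_eq s hunit r).symm)
  haveI : IsScalarTower A S B := IsScalarTower.of_algebraMap_eq (fun a => by
    rw [IsScalarTower.algebraMap_apply A R₀ S, ← IsScalarTower.algebraMap_apply R₀ S B,
      ← IsScalarTower.algebraMap_apply A R₀ B])
  have hiso : IsoMod J S := Groth.Agent.H8.PairHens.Smooth.bijective_quotientMap_away J s hs S
  have hS := isPairHenselization_of_isoMod hB S hiso
  have hmap : J.map (algebraMap R₀ S) = I.map (algebraMap A S) := map_tower_eq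
  rw [hmap] at hS
  haveI : Algebra.FinitePresentation R₀ S := IsLocalization.Away.finitePresentation s
  exact ⟨S, inferInstance, inferInstance, inferInstance, inferInstance,
    Algebra.FinitePresentation.trans A R₀ S, hflat, hS⟩

end Main

end Groth.Agent.H8.PairHens.FlatModel
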