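import Mathlib
import Groth.Prelude.Def_Hens2
import Groth.Agent.Lib.Helper8.HensPair.Radical
import Groth.Agent.Lib.Helper8.PairHens.Unique
import Groth.Agent.S0526

set_option autoImplicit false
universe u
open TensorProduct

namespace Groth.Agent.H8.PairHens.IntBC

open Groth.Agent.H8.HensPair

attribute [local instance] Algebra.TensorProduct.rightAlgebra

variable {A B Ah : Type u} [CommRing A] [CommRing B] [CommRing Ah] [Algebra A B] [Algebra A Ah]

theorem isPairHenselization_tensor (I : Ideal A) (J : Ideal B)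
    (hIJ : I.map (algebraMap A B) ≤ J) (hrad : J.radical = (I.map (algebraMap A B)).radical)
    [Algebra.IsIntegral A B] (hA : Hens2.IsPairHenselization A I Ah) :
    Hens2.IsPairHenselization B J (Ah ⊗[A] B) := by
  have hswap : ∀ a : A, (algebraMap A Ah a) ⊗ₜ[A] (1 : B) = (1 : Ah) ⊗ₜ[A] (algebraMap A B a) := by
    intro a
    rw [Algebra.algebraMap_eq_smul_one, Algebra.algebraMap_eq_smul_one, TensorProduct.smul_tmul]
  refine ⟨?_, ?_⟩
  · haveI := hA.1
    have h1 : HenselianRing (Ah ⊗[A] B)
        ((I.map (algebraMap A Ah)).map (algebraMap Ah (Ah ⊗[A] B))) :=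
      Groth.Agent.S0526.result Ah _ _
    have h2 : (I.map (algebraMap A Ah)).map (algebraMap Ah (Ah ⊗[A] B)) =
        (I.map (algebraMap A B)).map (algebraMap B (Ah ⊗[A] B)) := by
      rw [Ideal.map_map, Ideal.map_map]
      congr 1
      ext a
      exact hswap a
    rw [h2] at h1
    haveI := h1
    apply henselianRing_of_radical_eq
      (I := (I.map (algebraMap A B)).map (algebraMap B (Ah ⊗[A] B)))
    apply le_antisymm
    · rw [Ideal.radical_le_radical_iff]
      calc J.map (algebraMap B (Ah ⊗[A] B))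
          ≤ (J.radical).map (algebraMap B (Ah ⊗[A] B)) := Ideal.map_mono Ideal.le_radical
        _ = ((I.map (algebraMap A B)).radical).map (algebraMap B (Ah ⊗[A] B)) := by rw [hrad]
        _ ≤ ((I.map (algebraMap A B)).map (algebraMap B (Ah ⊗[A] B))).radical :=
            Ideal.map_radical_le _
    · exact Ideal.radical_mono (Ideal.map_mono hIJ)
  · intro C _ K f hC hfK
    have hIK : I.map (f.comp (algebraMap A B)) ≤ K := by
      rw [← Ideal.map_map]; exact (Ideal.map_mono hIJ).trans hfK
    obtain ⟨g₀, hg₀, hg₀uniq⟩ := hA.2 C K (f.comp (algebraMap A B)) hC hIK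
    letI : Algebra A C := (f.comp (algebraMap A B)).toAlgebra
    let g₀' : Ah →ₐ[A] C := { g₀ with commutes' := fun a => RingHom.congr_fun hg₀ a }
    let f' : B →ₐ[A] C := { f with commutes' := fun a => rfl }
    let g : Ah ⊗[A] B →ₐ[A] C := Algebra.TensorProduct.productMap g₀' f'
    have hg : ∀ (a : Ah) (b : B), g (a ⊗ₜ b) = g₀ a * f b := fun a b => by
      simp [g, g₀', f']
    refine ⟨g.toRingHom, ?_, ?_⟩
    · ext b
      show g (1 ⊗ₜ b) = f b
      rw [hg, map_one, one_mul]
    · intro g' hg'
      have hg'b : ∀ b : B, g' (1 ⊗ₜ b) = f b := fun b => RingHom.congr_fun hg' b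
      have h1 : g'.comp (Algebra.TensorProduct.includeLeftRingHom) = g₀ := by
        apply hg₀uniq
        ext a
        show g' (algebraMap A Ah a ⊗ₜ[A] (1 : B)) = f (algebraMap A B a)
        rw [hswap a, hg'b]
      have hg'a : ∀ a : Ah, g' (a ⊗ₜ 1) = g₀ a := fun a => RingHom.congr_fun h1 a
      refine RingHom.ext fun x => ?_
      induction x using TensorProduct.induction_on with
      | zero => simp
      | tmul a b =>
        have h2 : a ⊗ₜ[A] b = (a ⊗ₜ[A] (1 : B)) * ((1 : Ah) ⊗ₜ[A] b) := by simp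
        show g' (a ⊗ₜ[A] b) = g (a ⊗ₜ[A] b)
        rw [hg, h2, map_mul, hg'a, hg'b]
      | add x y hx hy => rw [map_add, map_add, hx, hy]

theorem bijective_productMap {Bh : Type u} [CommRing Bh] (I : Ideal A) (J : Ideal B)
    (hIJ : I.map (algebraMap A B) ≤ J) (hrad : J.radical = (I.map (algebraMap A B)).radical)
    [Algebra.IsIntegral A B] (hA : Hens2.IsPairHenselization A I Ah)
    [Algebra B Bh] [Algebra A Bh] [IsScalarTower A B Bh] (hB : Hens2.IsPairHenselization B J Bh)
    (φ : Ah →ₐ[A] Bh) :
    Function.Bijective (Algebra.TensorProduct.productMap φ (IsScalarTower.toAlgHom A B Bh)) := by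
  have hT := isPairHenselization_tensor I J hIJ hrad hA
  obtain ⟨e⟩ := nonempty_algEquiv_of_isPairHenselization hT hB
  obtain ⟨u, -, hu⟩ := hT.2 Bh _ (algebraMap B Bh) hB.1 le_rfl
  have h1 : (Algebra.TensorProduct.productMap φ (IsScalarTower.toAlgHom A B Bh)).toRingHom = u := by
    apply hu
    ext b
    show Algebra.TensorProduct.productMap φ (IsScalarTower.toAlgHom A B Bh) (1 ⊗ₜ b) = _
    simp
  have h2 : (e : Ah ⊗[A] B →+* Bh) = u := by
    apply hu
    ext b
    exact e.commutes b
  have h3 : ⇑(Algebra.TensorProduct.productMap φ (IsScalarTower.toAlgHom A B Bh)) = ⇑e := by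
    ext x
    have := RingHom.congr_fun (h1.trans h2.symm) x
    exact this
  rw [h3]
  exact e.bijective

end Groth.Agent.H8.PairHens.IntBC
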