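import Mathlib
import Groth.Agent.Lib.Helper8.PairHens.PowQuot
import Groth.Agent.Lib.Helper8.Hens.Henselization

open TensorProduct Polynomial IsLocalRing

namespace Groth.Agent.H8.PairHens

universe u

section Local

/-- A local ring which is henselian along its maximal ideal is a henselian local ring. -/
theorem henselianLocalRing_of_henselianRing (B : Type*) [CommRing B] [IsLocalRing B]
    [h : HenselianRing B (maximalIdeal B)] : HenselianLocalRing B where
  is_henselian f hf a₀ h1 h2 :=
    h.is_henselian f hf a₀ h1 (h2.map (Ideal.Quotient.mk _))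

variable (A : Type u) [CommRing A] [IsLocalRing A]

/-- A henselization of the pair `(A, m)` which is local with local structure map is a henselization
of the local ring. -/
theorem isHenselization_of_isPairHenselization (B : Type u) [CommRing B] [IsLocalRing B]
    [Algebra A B] [IsLocalHom (algebraMap A B)]
    (hB : Hens2.IsPairHenselization A (maximalIdeal A) B) : Hensel.IsHenselization A B := by
  have hmax : (maximalIdeal A).map (algebraMap A B) = maximalIdeal B := by
    have hle : (maximalIdeal A).map (algebraMap A B) ≤ maximalIdeal B :=
      ((local_hom_TFAE (algebraMap A B)).out 0 2).mp ‹IsLocalHom (algebraMap A B)›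
    refine le_antisymm hle ?_
    intro b hb
    obtain ⟨a, ha⟩ := exists_sub_mem_of_isPairHenselization hB b
    have h1 : algebraMap A B a ∈ maximalIdeal B := by
      have := (maximalIdeal B).sub_mem hb (hle ha)
      simpa using this
    have h2 : a ∈ maximalIdeal A := by
      rw [mem_maximalIdeal, mem_nonunits_iff] at h1 ⊢
      intro hu
      exact h1 (hu.map _)
    have := Ideal.add_mem _ ha (Ideal.mem_map_of_mem (algebraMap A B) h2)
    simpa using this
  have hH : HenselianRing B (maximalIdeal B) := hmax ▸ hB.1
  refine ⟨henselianLocalRing_of_henselianRing B, ?_⟩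
  intro T _ _ f hf
  have hle : (maximalIdeal A).map f ≤ maximalIdeal T :=
    ((local_hom_TFAE f).out 0 2).mp hf
  exact hB.2 T (maximalIdeal T) f inferInstance hle

theorem isUnit_quot_maximalIdeal_iff (z : A ⧸ maximalIdeal A) : IsUnit z ↔ z ≠ 0 := by
  obtain ⟨a, rfl⟩ := Ideal.Quotient.mk_surjective z
  constructor
  · intro h h0
    rw [h0] at h
    exact not_isUnit_zero h
  · intro h
    rw [ne_eq, Ideal.Quotient.eq_zero_iff_mem] at h
    exact (notMem_maximalIdeal.mp h).map _

instance Hp.isLocalRing : IsLocalRing (Hp A (maximalIdeal A)) := by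
  haveI : Nontrivial (Hp A (maximalIdeal A)) := by
    refine ⟨⟨0, 1, fun h => ?_⟩⟩
    have := congrArg (H.pt A (A ⧸ maximalIdeal A)) h
    rw [map_zero, map_one] at this
    exact zero_ne_one this
  refine IsLocalRing.of_nonunits_add ?_
  intro x y hx hy
  rw [mem_nonunits_iff, H.isUnit_iff, isUnit_quot_maximalIdeal_iff, not_not] at hx hy ⊢
  rw [map_add, hx, hy, add_zero]

instance Hp.isLocalHom : IsLocalHom (algebraMap A (Hp A (maximalIdeal A))) := by
  constructor
  intro a ha
  rw [H.isUnit_iff, Hp.pt_algebraMap, isUnit_quot_maximalIdeal_iff, ne_eq,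
    Ideal.Quotient.eq_zero_iff_mem] at ha
  exact notMem_maximalIdeal.mp ha

theorem Hp.isHenselization : Hensel.IsHenselization A (Hp A (maximalIdeal A)) :=
  isHenselization_of_isPairHenselization A _ (isPairHenselization A (maximalIdeal A))

/-- A henselization of the local ring `A` is a henselization of the pair `(A, m)`. -/
theorem isPairHenselization_of_isHenselization (B : Type u) [CommRing B] [IsLocalRing B]
    [Algebra A B] [IsLocalHom (algebraMap A B)] [hB : Hensel.IsHenselization A B] :
    Hens2.IsPairHenselization A (maximalIdeal A) B := by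
  haveI := Hp.isHenselization A
  let e1 := Hens.algEquiv (R := A) (Hp A (maximalIdeal A))
  let e2 := Hens.algEquiv (R := A) B
  exact isPairHenselization_of_algEquiv (isPairHenselization A (maximalIdeal A))
    (e1.symm.trans e2)

theorem isPairHenselization_iff_isHenselization (B : Type u) [CommRing B] [IsLocalRing B]
    [Algebra A B] [IsLocalHom (algebraMap A B)] :
    Hens2.IsPairHenselization A (maximalIdeal A) B ↔ Hensel.IsHenselization A B :=
  ⟨isHenselization_of_isPairHenselization A B,
    fun _ => isPairHenselization_of_isHenselization A B⟩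

end Local

end Groth.Agent.H8.PairHens
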