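/-
Helper8 library: lifting a coprime factorization `f̄ = g h` (leading coefficient of `g` a unit)
to an étale neighbourhood.
-/
import Mathlib
import Groth.Agent.Lib.Helper8.PairHens.PolyDescent

open TensorProduct Polynomial

namespace Groth.Agent.H8.PairHens

universe u

variable {A : Type u} [CommRing A] (I : Ideal A)

/-- Lifting coprime factorizations (leading coefficient of `g` a unit) to an étale
neighbourhood. -/
theorem exists_etale_factorization' (f : A[X]) (hf : f.Monic) (g h : (A ⧸ I)[X])
    (hlead : IsUnit g.leadingCoeff) (hcop : IsCoprime g h)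
    (hfgh : f.map (Ideal.Quotient.mk I) = g * h) :
    ∃ (A' : Type u) (_ : CommRing A') (_ : Algebra A A') (_ : Algebra.Etale A A'),
      IsoMod I A' ∧ ∃ g' h' : A'[X], f.map (algebraMap A A') = g' * h' ∧
        g'.map (Ideal.Quotient.mk (I.map (algebraMap A A'))) =
          g.map (algebraMap (A ⧸ I) (A' ⧸ I.map (algebraMap A A'))) ∧
        h'.map (Ideal.Quotient.mk (I.map (algebraMap A A'))) =
          h.map (algebraMap (A ⧸ I) (A' ⧸ I.map (algebraMap A A'))) := by
  obtain ⟨u, hu⟩ := hlead
  have huv : (↑u⁻¹ : A ⧸ I) * g.leadingCoeff = 1 := by rw [← hu]; exact u.inv_mul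
  have hvu : g.leadingCoeff * (↑u⁻¹ : A ⧸ I) = 1 := by rw [← hu]; exact u.mul_inv
  set v : A ⧸ I := ↑u⁻¹ with hv
  set w : A ⧸ I := g.leadingCoeff with hw
  have hg₁ : (C v * g).Monic := Polynomial.monic_C_mul_of_mul_leadingCoeff_eq_one huv
  have hprod : (C v * g) * (C w * h) = g * h := by
    have : (C v * C w : (A ⧸ I)[X]) = 1 := by rw [← C_mul, huv, C_1]
    calc (C v * g) * (C w * h) = (C v * C w) * (g * h) := by ring
      _ = g * h := by rw [this, one_mul]
  have hh₁ : (C w * h).Monic := by
    apply Polynomial.Monic.of_mul_monic_left hg₁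
    rw [hprod, ← hfgh]
    exact hf.map _
  have hCv : IsUnit (C v : (A ⧸ I)[X]) := Polynomial.isUnit_C.mpr ⟨u⁻¹, rfl⟩
  have hCw : IsUnit (C w : (A ⧸ I)[X]) := Polynomial.isUnit_C.mpr ⟨u, hu⟩
  have hcop₁ : IsCoprime (C v * g) (C w * h) :=
    (isCoprime_mul_unit_left_left hCv _ _).mpr ((isCoprime_mul_unit_left_right hCw _ _).mpr hcop)
  have hB := isPairHenselization A I
  set B := Hp A I
  set τ := algebraMap (A ⧸ I) (B ⧸ I.map (algebraMap A B)) with hτ
  have hcomm : (Ideal.Quotient.mk (I.map (algebraMap A B))).comp (algebraMap A B) =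
      τ.comp (Ideal.Quotient.mk I) := rfl
  obtain ⟨G, H, hGm, hHm, hfGH, hG, hH⟩ := HensPair.exists_factorization
    (I := I.map (algebraMap A B)) (f.map (algebraMap A B)) (hf.map _) ((C v * g).map τ)
    ((C w * h).map τ) (hg₁.map _) (hh₁.map _) (hcop₁.map (Polynomial.mapRingHom τ)) (by
      rw [Polynomial.map_map, hcomm, ← Polynomial.map_map, hfgh, ← Polynomial.map_mul, hprod])
  -- lift the unit
  obtain ⟨a, ha⟩ := Ideal.Quotient.mk_surjective w
  obtain ⟨b, hb⟩ := Ideal.Quotient.mk_surjective v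
  have hab : Ideal.Quotient.mk (I.map (algebraMap A B)) (algebraMap A B (a * b)) = 1 := by
    have : Ideal.Quotient.mk (I.map (algebraMap A B)) (algebraMap A B (a * b)) =
        τ (Ideal.Quotient.mk I (a * b)) := rfl
    rw [this, map_mul, ha, hb, hvu, map_one]
  have hunit : IsUnit (algebraMap A B (a * b)) :=
    isUnit_of_isUnit_mk (Hp.henselianRing (A := A) (I := I)).jac (by rw [hab]; exact isUnit_one)
  obtain ⟨c, hc⟩ := hunit.exists_right_inv
  have hmkc : Ideal.Quotient.mk (I.map (algebraMap A B)) c = 1 := by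
    have := congrArg (Ideal.Quotient.mk (I.map (algebraMap A B))) hc
    rwa [map_mul, hab, one_mul, map_one] at this
  -- the factorization over `B`
  set α : B := algebraMap A B a
  set β : B := algebraMap A B b * c
  have hαβ : α * β = 1 := by
    rw [← hc, map_mul]; ring
  have hmkα : Ideal.Quotient.mk (I.map (algebraMap A B)) α = τ w := by rw [← ha]; rfl
  have hmkβ : Ideal.Quotient.mk (I.map (algebraMap A B)) β = τ v := by
    rw [map_mul, hmkc, mul_one, ← hb]; rfl
  have hfB : f.map (algebraMap A B) = (C α * G) * (C β * H) := by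
    have : (C α * C β : B[X]) = 1 := by rw [← C_mul, hαβ, C_1]
    calc f.map (algebraMap A B) = G * H := hfGH
      _ = (C α * C β) * (G * H) := by rw [this, one_mul]
      _ = (C α * G) * (C β * H) := by ring
  obtain ⟨A', _, _, _, hA', ι, G', H', hf', hG', hH', -, -⟩ :=
    exists_isoMod_factorization hB f (C α * G) (C β * H) hfB
  refine ⟨A', inferInstance, inferInstance, inferInstance, hA', G', H', hf', ?_, ?_⟩
  · refine map_mk_eq_of_isoMod hB A' hA' ι G' g ?_
    rw [hG', Polynomial.map_mul, Polynomial.map_C, hG, hmkα, Polynomial.map_mul, Polynomial.map_C,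
      ← mul_assoc, ← C_mul, ← map_mul, hvu, map_one, C_1, one_mul]
  · refine map_mk_eq_of_isoMod hB A' hA' ι H' h ?_
    rw [hH', Polynomial.map_mul, Polynomial.map_C, hH, hmkβ, Polynomial.map_mul, Polynomial.map_C,
      ← mul_assoc, ← C_mul, ← map_mul, huv, map_one, C_1, one_mul]

end Groth.Agent.H8.PairHens
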