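import Mathlib
import Groth.Agent.Lib.Helper8.PairHens.Quotient
import Groth.Agent.Lib.Helper8.HensPair.Integral

open TensorProduct

namespace Groth.Agent.H8.PairHens

universe u

section Prod

variable (A : Type u) [CommRing A] {n : ℕ} (I : Fin n → Ideal A)
    (hI : Pairwise fun i j => I i ⊔ I j = ⊤) (B : Type u) [CommRing B] [Algebra A B]
    (hB : Hens2.IsPairHenselization A (⨅ i, I i) B)

include hI hB in
/-- The idempotents of the henselization along `⨅ I i` cutting out the factors. -/
theorem exists_completeOrthogonalIdempotents :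
    ∃ (s : Fin n → A) (e : Fin n → B), (∀ i, s i - 1 ∈ I i) ∧ (∀ i j, j ≠ i → s i ∈ I j) ∧
      CompleteOrthogonalIdempotents e ∧
      ∀ i, e i - algebraMap A B (s i) ∈ (⨅ i, I i).map (algebraMap A B) := by
  classical
  set K : Ideal A := ⨅ i, I i with hK
  have hcop : Pairwise (Function.onFun IsCoprime I) := by
    intro i j hij
    exact Ideal.isCoprime_iff_sup_eq.mpr (hI hij)
  choose s hs using fun i : Fin n =>
    Ideal.exists_forall_sub_mem_ideal hcop (Pi.single i (1 : A))
  have hs1 : ∀ i, s i - 1 ∈ I i := by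
    intro i
    have := hs i i
    rwa [Pi.single_eq_same] at this
  have hs0 : ∀ i j, j ≠ i → s i ∈ I j := by
    intro i j hji
    have := hs i j
    rwa [Pi.single_eq_of_ne hji, sub_zero] at this
  have memK : ∀ x : A, x ∈ K ↔ ∀ j, x ∈ I j := fun x => Ideal.mem_iInf
  haveI := hB.1
  have hjac : K.map (algebraMap A B) ≤ Ideal.jacobson ⊥ := HenselianRing.jac
  have hidem : ∀ i, s i * s i - s i ∈ K := by
    intro i
    rw [memK]
    intro j
    by_cases hji : j = i
    · subst hji
      have : s j * s j - s j = s j * (s j - 1) := by ring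
      rw [this]
      exact Ideal.mul_mem_left _ _ (hs1 j)
    · have : s i * s i - s i = (s i - 1) * s i := by ring
      rw [this]
      exact Ideal.mul_mem_left _ _ (hs0 i j hji)
  have hex : ∀ i, ∃ e : B, IsIdempotentElem e ∧
      e - algebraMap A B (s i) ∈ K.map (algebraMap A B) := by
    intro i
    have h1 : algebraMap A B (s i) * algebraMap A B (s i) - algebraMap A B (s i) ∈
        (K.map (algebraMap A B)).map (algebraMap B B) := by
      rw [Algebra.algebraMap_self, Ideal.map_id, ← map_mul, ← map_sub]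
      exact Ideal.mem_map_of_mem _ (hidem i)
    obtain ⟨e, he1, he2⟩ := HensPair.exists_idempotent_of_isIntegral
      (K.map (algebraMap A B)) (B := B) (algebraMap A B (s i)) h1
    rw [Algebra.algebraMap_self, Ideal.map_id] at he2
    exact ⟨e, he1, he2⟩
  choose e he1 he2 using hex
  have hmulK : ∀ i j, i ≠ j → s i * s j ∈ K := by
    intro i j hij
    rw [memK]
    intro l
    by_cases hli : l = i
    · subst hli
      exact Ideal.mul_mem_left _ _ (hs0 j l hij)
    · exact Ideal.mul_mem_right _ _ (hs0 i l hli)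
  have hortho : ∀ i j, i ≠ j → e i * e j = 0 := by
    intro i j hij
    apply HensPair.idempotent_eq_of_sub_mem_jacobson ((he1 i).mul (he1 j)) IsIdempotentElem.zero
    rw [sub_zero]
    apply hjac
    have h1 : e i * e j = (e i - algebraMap A B (s i)) * e j +
        algebraMap A B (s i) * (e j - algebraMap A B (s j)) +
        algebraMap A B (s i * s j) := by
      rw [map_mul]; ring
    rw [h1]
    refine Ideal.add_mem _ (Ideal.add_mem _ ?_ ?_) ?_
    · exact Ideal.mul_mem_right _ _ (he2 i)
    · exact Ideal.mul_mem_left _ _ (he2 j)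
    · exact Ideal.mem_map_of_mem _ (hmulK i j hij)
  have hO : OrthogonalIdempotents e := ⟨he1, fun i j hij => hortho i j hij⟩
  have hsumK : (∑ i, s i) - 1 ∈ K := by
    rw [memK]
    intro l
    have : (∑ i, s i) - 1 = (s l - 1) + ∑ i ∈ Finset.univ.erase l, s i := by
      rw [← Finset.add_sum_erase _ _ (Finset.mem_univ l)]; ring
    rw [this]
    refine Ideal.add_mem _ (hs1 l) (Ideal.sum_mem _ ?_)
    intro i hi
    exact hs0 i l (Finset.ne_of_mem_erase hi).symm
  have hcomplete : ∑ i, e i = 1 := by
    apply HensPair.idempotent_eq_of_sub_mem_jacobson hO.isIdempotentElem_sum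
      IsIdempotentElem.one
    apply hjac
    have h1 : (∑ i, e i) - 1 = (∑ i, (e i - algebraMap A B (s i))) +
        algebraMap A B ((∑ i, s i) - 1) := by
      rw [Finset.sum_sub_distrib, map_sub, map_sum, map_one]; ring
    rw [h1]
    refine Ideal.add_mem _ (Ideal.sum_mem _ fun i _ => he2 i) ?_
    exact Ideal.mem_map_of_mem _ hsumK
  exact ⟨s, e, hs1, hs0, ⟨hO, hcomplete⟩, he2⟩

include hB in
/-- The factor of the henselization along `⨅ I i` cut out by `e i` is a henselization along
`I i`. -/
theorem isPairHenselization_factor (s : Fin n → A) (e : Fin n → B)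
    (hs1 : ∀ i, s i - 1 ∈ I i) (hs0 : ∀ i j, j ≠ i → s i ∈ I j)
    (he : CompleteOrthogonalIdempotents e)
    (hes : ∀ i, e i - algebraMap A B (s i) ∈ (⨅ i, I i).map (algebraMap A B)) (i : Fin n) :
    Hens2.IsPairHenselization A (I i) (B ⧸ Ideal.span {1 - e i}) := by
  set K : Ideal A := ⨅ i, I i with hK
  set Q := B ⧸ Ideal.span {1 - e i} with hQ
  have memK : ∀ x : A, x ∈ K ↔ ∀ j, x ∈ I j := fun x => Ideal.mem_iInf
  have hKI : K ≤ I i := iInf_le _ i
  haveI := hB.1
  have hmk : ∀ a : A, algebraMap A Q a = Ideal.Quotient.mk _ (algebraMap A B a) := fun a => rfl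
  have hH : HenselianRing Q (K.map (algebraMap A Q)) := by
    have := henselianRing_map_of_surjective (K.map (algebraMap A B))
      (Ideal.Quotient.mk (Ideal.span {1 - e i})) Ideal.Quotient.mk_surjective
    rwa [Ideal.map_map] at this
  have he1 : Ideal.Quotient.mk (Ideal.span {1 - e i}) (e i) = 1 := by
    rw [← map_one (Ideal.Quotient.mk (Ideal.span {1 - e i})), eq_comm, Ideal.Quotient.eq]
    exact Ideal.mem_span_singleton_self _
  -- `s i` becomes a unit in the factor
  have hu1 : algebraMap A Q (s i) - 1 ∈ K.map (algebraMap A Q) := by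
    have h1 := Ideal.mem_map_of_mem (Ideal.Quotient.mk (Ideal.span {1 - e i})) (hes i)
    rw [Ideal.map_map, map_sub, he1] at h1
    have := neg_mem h1
    rwa [neg_sub] at this
  have hu : IsUnit (algebraMap A Q (s i)) := by
    have h1 := (Ideal.mem_jacobson_bot.mp (hH.jac hu1)) 1
    rwa [mul_one, sub_add_cancel] at h1
  have hideal : K.map (algebraMap A Q) = (I i).map (algebraMap A Q) := by
    apply le_antisymm (Ideal.map_mono hKI)
    rw [Ideal.map_le_iff_le_comap]
    intro a ha
    rw [Ideal.mem_comap]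
    have h1 : a * s i ∈ K := by
      rw [memK]
      intro l
      by_cases hli : l = i
      · subst hli
        exact Ideal.mul_mem_right _ _ ha
      · exact Ideal.mul_mem_left _ _ (hs0 i l hli)
    have h2 : algebraMap A Q a * algebraMap A Q (s i) ∈ K.map (algebraMap A Q) := by
      rw [← map_mul]
      exact Ideal.mem_map_of_mem _ h1
    obtain ⟨v, hv⟩ := hu.exists_right_inv
    have h3 : algebraMap A Q a = algebraMap A Q a * algebraMap A Q (s i) * v := by
      rw [mul_assoc, hv, mul_one]
    rw [h3]
    exact Ideal.mul_mem_right _ _ h2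
  refine ⟨hideal ▸ hH, ?_⟩
  intro C _ J f hC hf
  have hle : K.map f ≤ J := le_trans (Ideal.map_mono hKI) hf
  obtain ⟨g, hg, huniq⟩ := hB.2 C J f hC hle
  have hgA : ∀ a, g (algebraMap A B a) = f a := fun a => congrArg (fun w => w a) hg
  have hge : g (e i) = 1 := by
    apply HensPair.idempotent_eq_of_sub_mem_jacobson ((he.idem i).map g) IsIdempotentElem.one
    apply hC.jac
    have h1 : g (e i) - 1 = g (e i - algebraMap A B (s i)) + f (s i - 1) := by
      rw [map_sub, map_sub, map_one, hgA]; ring
    rw [h1]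
    refine Ideal.add_mem _ ?_ (hf (Ideal.mem_map_of_mem _ (hs1 i)))
    have h2 := Ideal.mem_map_of_mem g (hes i)
    rw [Ideal.map_map, hg] at h2
    exact hle h2
  have hkill : ∀ y ∈ Ideal.span ({1 - e i} : Set B), g y = 0 := by
    intro y hy
    obtain ⟨c, rfl⟩ := Ideal.mem_span_singleton'.mp hy
    rw [map_mul, map_sub, map_one, hge, sub_self, mul_zero]
  refine ⟨Ideal.Quotient.lift _ g hkill, ?_, ?_⟩
  · ext a
    show Ideal.Quotient.lift _ g hkill (Ideal.Quotient.mk _ (algebraMap A B a)) = f a
    rw [Ideal.Quotient.lift_mk, hgA]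
  · intro g' hg'
    apply Ideal.Quotient.ringHom_ext
    have : g'.comp (Ideal.Quotient.mk _) = g := by
      apply huniq
      show (g'.comp (Ideal.Quotient.mk _)).comp (algebraMap A B) = f
      rw [← hg']
      rfl
    rw [this]
    ext b
    rfl

include hI hB in
/-- The henselization along `⨅ I i` of pairwise comaximal ideals is the product of the
henselizations along the `I i`. -/
theorem nonempty_algEquiv_pi (Bi : Fin n → Type u) [∀ i, CommRing (Bi i)] [∀ i, Algebra A (Bi i)]
    (hBi : ∀ i, Hens2.IsPairHenselization A (I i) (Bi i)) :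
    Nonempty (B ≃ₐ[A] ∀ i, Bi i) := by
  obtain ⟨s, e, hs1, hs0, he, hes⟩ := exists_completeOrthogonalIdempotents A I hI B hB
  have hfac := isPairHenselization_factor A I B hB s e hs1 hs0 he hes
  let Φ : B →ₐ[A] ∀ i, B ⧸ Ideal.span {1 - e i} :=
    AlgHom.pi (fun i => Ideal.Quotient.mkₐ A (Ideal.span {1 - e i}))
  have hΦ : Function.Bijective Φ := he.bijective_pi
  have hex : ∀ i, Nonempty ((B ⧸ Ideal.span {1 - e i}) ≃ₐ[A] Bi i) := fun i =>
    nonempty_algEquiv_of_isPairHenselization (hfac i) (hBi i)
  exact ⟨(AlgEquiv.ofBijective Φ hΦ).trans (AlgEquiv.piCongrRight fun i => (hex i).some)⟩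

end Prod

end Groth.Agent.H8.PairHens
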