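import Mathlib

/-! Quasi-finite loci near `V(I)` (helper8). -/

set_option autoImplicit false
universe u

namespace Groth.Agent.H8.PairHens.QF

theorem exists_away_quasiFinite_of_quasiFiniteAt {A R : Type*} [CommRing A] [CommRing R]
    [Algebra A R] [Algebra.FiniteType A R] (q : Ideal R) [q.IsPrime] [Algebra.QuasiFiniteAt A q] :
    ∃ r ∉ q, Algebra.QuasiFinite A (Localization.Away r) := by
  obtain ⟨S', hS', r, hrp, H⟩ :=
    Algebra.QuasiFiniteAt.exists_fg_and_exists_notMem_and_awayMap_bijective (R := A) q
  have : Module.Finite A S' := ⟨(Submodule.fg_top _).mpr hS'⟩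
  have : Algebra.QuasiFinite A (Localization.Away r) := .trans _ S' _
  have : Algebra.QuasiFinite A (Localization.Away r.1) :=
    .of_surjective_algHom (Localization.awayMapₐ S'.val r) H.2
  exact ⟨r.1, hrp, this⟩

open PrimeSpectrum in
theorem quasiFinite_away_of_mem_span {A R : Type*} [CommRing A] [CommRing R]
    [Algebra A R] [Algebra.FiniteType A R] (t : Finset R)
    (ht : ∀ r ∈ t, Algebra.QuasiFinite A (Localization.Away r)) (s : R)
    (hs : s ∈ Ideal.span (t : Set R)) : Algebra.QuasiFinite A (Localization.Away s) := by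
  haveI : Algebra.FinitePresentation R (Localization.Away s) :=
    IsLocalization.Away.finitePresentation s
  haveI : Algebra.FiniteType R (Localization.Away s) := inferInstance
  haveI : Algebra.FiniteType A (Localization.Away s) :=
    Algebra.FiniteType.trans (inferInstance : Algebra.FiniteType A R) inferInstance
  rw [Algebra.QuasiFinite.iff_finite_comap_preimage_singleton]
  intro x
  let ι := comap (algebraMap R (Localization.Away s))
  have hι : Function.Injective ι := localization_comap_injective _ (Submonoid.powers s)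
  refine Set.Finite.of_finite_image (f := ι) ?_ hι.injOn
  have hsub : ι '' (comap (algebraMap A (Localization.Away s)) ⁻¹' {x}) ⊆
      ⋃ r ∈ t, {q : PrimeSpectrum R | q.comap (algebraMap A R) = x ∧ r ∉ q.asIdeal} := by
    rintro _ ⟨Q, hQ, rfl⟩
    have hQx : comap (algebraMap A (Localization.Away s)) Q = x := hQ
    have hsQ : s ∉ (ι Q).asIdeal := by
      have : ι Q ∈ Set.range ι := ⟨Q, rfl⟩
      rw [localization_away_comap_range _ s] at this
      exact this
    have hex : ∃ r ∈ t, r ∉ (ι Q).asIdeal := by
      by_contra hne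
      push Not at hne
      have : Ideal.span (t : Set R) ≤ (ι Q).asIdeal := Ideal.span_le.mpr hne
      exact hsQ (this hs)
    obtain ⟨r, hr, hrQ⟩ := hex
    refine Set.mem_biUnion hr ⟨?_, hrQ⟩
    rw [← hQx]
    show comap (algebraMap A R) (comap (algebraMap R (Localization.Away s)) Q) = _
    rw [← comap_comp_apply, ← IsScalarTower.algebraMap_eq]
  refine Set.Finite.subset ?_ hsub
  refine Set.Finite.biUnion t.finite_toSet fun r hr => ?_
  haveI := ht r hr
  let ιr := comap (algebraMap R (Localization.Away r))
  have hfin := Algebra.QuasiFinite.finite_comap_preimage_singleton (R := A)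
    (S := Localization.Away r) x
  refine (hfin.image ιr).subset ?_
  rintro q ⟨hqx, hrq⟩
  have : q ∈ Set.range ιr := by
    rw [localization_away_comap_range _ r]
    exact hrq
  obtain ⟨Q, rfl⟩ := this
  refine ⟨Q, ?_, rfl⟩
  show comap (algebraMap A (Localization.Away r)) Q = x
  rw [← hqx]
  show _ = comap (algebraMap A R) (comap (algebraMap R (Localization.Away r)) Q)
  rw [← comap_comp_apply, ← IsScalarTower.algebraMap_eq]

theorem exists_away_quasiFinite {A R : Type*} [CommRing A] [CommRing R] [Algebra A R]
    [Algebra.FiniteType A R] (J : Ideal R)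
    (h : ∀ (p : Ideal R) [p.IsPrime], J ≤ p → Algebra.QuasiFiniteAt A p) :
    ∃ s : R, 1 - s ∈ J ∧ Algebra.QuasiFinite A (Localization.Away s) := by
  let G : Set R := {r | Algebra.QuasiFinite A (Localization.Away r)}
  have htop : J ⊔ Ideal.span G = ⊤ := by
    by_contra hne
    obtain ⟨m, hm, hle⟩ := Ideal.exists_le_maximal _ hne
    haveI := hm.isPrime
    haveI := h m (le_sup_left.trans hle)
    obtain ⟨r, hrm, hr⟩ := exists_away_quasiFinite_of_quasiFiniteAt (A := A) m
    exact hrm (hle (Ideal.mem_sup_right (Ideal.subset_span hr)))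
  have h1 : (1 : R) ∈ J ⊔ Ideal.span G := by rw [htop]; trivial
  obtain ⟨j, hj, s, hs, hjs⟩ := Submodule.mem_sup.mp h1
  obtain ⟨t, htG, hst⟩ := Submodule.mem_span_finite_of_mem_span hs
  refine ⟨s, ?_, quasiFinite_away_of_mem_span t (fun r hr => htG hr) s hst⟩
  have : 1 - s = j := by rw [← hjs]; ring
  rw [this]; exact hj

end Groth.Agent.H8.PairHens.QF
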