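import Mathlib
import Groth.Agent.Lib.Helper8.PairHens.Maps
import Groth.Prelude.Def_Hensel

open TensorProduct Polynomial IsLocalRing

namespace Groth.Agent.H8.PairHens

universe u

section StrictLocal

variable (R : Type u) [CommRing R] [IsLocalRing R] (J : Ideal R) (hJ : J ≤ maximalIdeal R)
    (H : Type u) [CommRing H] [IsLocalRing H] [Algebra R H] [IsLocalHom (algebraMap R H)]
    (hH : Hens2.IsPairHenselization R J H)

include hJ in
theorem map_le_maximalIdeal : J.map (algebraMap R H) ≤ maximalIdeal H := by
  refine le_trans (Ideal.map_mono hJ) ?_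
  exact ((local_hom_TFAE (algebraMap R H)).out 0 2).mp ‹IsLocalHom (algebraMap R H)›

include hJ hH in
theorem residueField_map_surjective :
    Function.Surjective (ResidueField.map (algebraMap R H)) := by
  intro y
  obtain ⟨h, rfl⟩ := residue_surjective y
  obtain ⟨r, hr⟩ := exists_sub_mem_of_isPairHenselization hH h
  refine ⟨residue R r, ?_⟩
  rw [ResidueField.map_residue]
  have := map_le_maximalIdeal R J hJ H hr
  rw [← residue_eq_zero_iff, map_sub, sub_eq_zero] at this
  exact this.symm

include hJ hH in
theorem residueField_map_bijective :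
    Function.Bijective (ResidueField.map (algebraMap R H)) :=
  ⟨(ResidueField.map (algebraMap R H)).injective, residueField_map_surjective R J hJ H hH⟩

include hJ hH in
/-- The unique extension of a local homomorphism to a henselian local ring. -/
theorem exists_unique_local_extension (T : Type u) [CommRing T] [HenselianLocalRing T]
    (f : R →+* T) [hf : IsLocalHom f] :
    ∃ g₀ : H →+* T, g₀.comp (algebraMap R H) = f ∧ IsLocalHom g₀ ∧
      ∀ g' : H →+* T, g'.comp (algebraMap R H) = f → g' = g₀ := by
  have hle : J.map f ≤ maximalIdeal T :=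
    le_trans (Ideal.map_mono hJ) (((local_hom_TFAE f).out 0 2).mp hf)
  obtain ⟨g₀, hg₀, huniq⟩ := hH.2 T (maximalIdeal T) f inferInstance hle
  refine ⟨g₀, hg₀, ?_, huniq⟩
  constructor
  intro h hu
  obtain ⟨r, hr⟩ := exists_sub_mem_of_isPairHenselization hH h
  have h1 : g₀ (h - algebraMap R H r) ∈ maximalIdeal T := by
    have := Ideal.mem_map_of_mem g₀ hr
    rw [Ideal.map_map, hg₀] at this
    exact hle this
  have h2 : g₀ (algebraMap R H r) = f r := congrArg (fun w => w r) hg₀
  have h3 : IsUnit (f r) := by
    by_contra hnu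
    have h4 : f r ∈ maximalIdeal T := hnu
    have h5 : g₀ h ∈ maximalIdeal T := by
      have := Ideal.add_mem _ h1 h4
      rwa [map_sub, h2, sub_add_cancel] at this
    exact h5 hu
  have h6 : IsUnit r := hf.map_nonunit r h3
  by_contra hnu
  have h7 : h ∈ maximalIdeal H := hnu
  have h8 : algebraMap R H r ∈ maximalIdeal H := by
    have := (maximalIdeal H).sub_mem h7 (map_le_maximalIdeal R J hJ H hr)
    simpa using this
  exact h8 (h6.map _)

variable (S : Type u) [CommRing S] [IsLocalRing S] [Algebra H S] [IsLocalHom (algebraMap H S)]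
    [hS : Hensel.IsStrictHenselization H S]
    [Algebra R S] [IsScalarTower R H S] [IsLocalHom (algebraMap R S)]

include hJ hH hS in
theorem isStrictHenselization_of_isPairHenselization : Hensel.IsStrictHenselization R S := by
  have hcomp : algebraMap R S = (algebraMap H S).comp (algebraMap R H) :=
    IsScalarTower.algebraMap_eq R H S
  have hbij := residueField_map_bijective R J hJ H hH
  refine ⟨hS.henselian, ?_, ?_⟩
  · haveI := hS.isSepClosure
    refine ⟨IsSepClosure.sep_closed (ResidueField H), ?_⟩
    haveI : Algebra.IsSeparable (ResidueField H) (ResidueField S) := IsSepClosure.separable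
    let e₁ : ResidueField R ≃+* ResidueField H := RingEquiv.ofBijective _ hbij
    refine Algebra.IsSeparable.of_equiv_equiv e₁.symm (RingEquiv.refl (ResidueField S)) ?_
    ext y
    obtain ⟨x, rfl⟩ := e₁.surjective y
    simp only [RingHom.comp_apply, RingEquiv.coe_toRingHom, RingEquiv.symm_apply_apply,
      RingEquiv.refl_apply]
    show _ = algebraMap (ResidueField H) (ResidueField S) (ResidueField.map (algebraMap R H) x)
    obtain ⟨r, rfl⟩ := residue_surjective x
    rw [ResidueField.map_residue, ResidueField.algebraMap_residue,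
      ResidueField.algebraMap_residue, ← IsScalarTower.algebraMap_apply]
  · intro T _ _ f hf τ hτ
    obtain ⟨g₀, hg₀, hloc, huniq⟩ := exists_unique_local_extension R J hJ H hH T f
    haveI := hloc
    have hτ' : τ.comp (ResidueField.map (algebraMap H S)) = ResidueField.map g₀ := by
      ext y
      obtain ⟨x, rfl⟩ := hbij.2 y
      obtain ⟨r, rfl⟩ := residue_surjective x
      have h1 := congrArg (fun w => w (residue R r)) hτ
      simp only [RingHom.comp_apply, ResidueField.map_residue] at h1 ⊢
      rw [← IsScalarTower.algebraMap_apply, h1]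
      have h2 : g₀ (algebraMap R H r) = f r := congrArg (fun w => w r) hg₀
      rw [h2]
    obtain ⟨g, ⟨hg1, hg2⟩, hguniq⟩ := hS.universal T g₀ τ hτ'
    refine ⟨g, ⟨?_, hg2⟩, ?_⟩
    · rw [hcomp, ← RingHom.comp_assoc, hg1, hg₀]
    · rintro g' ⟨hg'1, hg'2⟩
      apply hguniq
      refine ⟨?_, hg'2⟩
      apply huniq
      rw [RingHom.comp_assoc, ← hcomp, hg'1]

end StrictLocal

end Groth.Agent.H8.PairHens
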